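import Cfsg.Agent.H618.Sigma
import Cfsg.Agent.OddOrderCharacters.ClassSum
import Cfsg.Agent.Characters.Linear
import Cfsg.Agent.Characters.Central
import Cfsg.Agent.Blocks.CyclicUpper
import Cfsg.Agent.H921.K4.Uniq_m3
import Cfsg.Agent.S0113
import Cfsg.Agent.S0115
import Cfsg.Agent.Lib.FrattiniBasic
import Cfsg.Agent.S0014
import Cfsg.Agent.QTUniq.SylowSup
import Cfsg.Agent.Lib.FrattiniPGroup
import Mathlib
import Cfsg.Agent.ClassicalGeometry.OrthSemiCount
import Cfsg.Agent.ClassicalGeometry.OrthAut1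
import Cfsg.Agent.H637.GLPart
import Cfsg.Agent.H813.K547.Par
import Cfsg.Agent.H473.K547.Ly
import Cfsg.Agent.H867.OctadCount
import Cfsg.Agent.SporadicStructure.SevenTuple
import Cfsg.Agent.S1553
import Cfsg.Agent.S0364
import Cfsg.Agent.H637.TwoAdic
import Cfsg.Agent.H183.OutPSL
import Cfsg.Agent.S0249
import Cfsg.Agent.H304.PpdClass
import Cfsg.Agent.Cit.Eleven
import Cfsg.Agent.H740.K4.M
import Cfsg.Agent.H848.MonsterSetup
import Cfsg.Agent.MonsterU.AmalElts
import Cfsg.Agent.MonsterU.CoFrameF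
import Cfsg.Agent.S2085
import Cfsg.Prelude.Def_Classical
import Cfsg.Agent.LieClassical.SympCenter
import Cfsg.Agent.S4624
import Cfsg.Agent.S0777
import Cfsg.Agent.S0245
import Cfsg.Agent.H966.PSpAut
import Cfsg.Agent.H198.SympGamma
import Cfsg.Agent.Lib.FieldAutCard
import Cfsg.Agent.S0270
import Cfsg.Agent.H512.LinFour.FrameE8
import Cfsg.Agent.FastGrp
import Cfsg.Agent.Prune
set_option linter.all false

section
prune_inst 0x7f00000000000000000000000000000000000000000000000000000000000000000000000000000000000000000000000000000000000000000000000000000000000000000000000000000000000000003ffffffffffffffffffff7ffffffbeffbdf3feffff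

-- part: H714/S4547/Coset
section
set_option linter.all false
open scoped Cfsg.Agent.FastGrp

/-!
# S4547: the average over a coset of the Frattini subgroup (helper714)

`D` a finite 2-group, `Sq D` the subgroup generated by the squares, `θ` a character of odd degree fixed by the
cubing automorphism. For every `x : D` the sum of `θ` over the coset `x * Sq D` is `|Sq D|` times an odd integer
(`sum_coset_odd`).
-/

set_option autoImplicit false

open scoped ComplexConjugate
open Cfsg Cfsg.Agent.Characters.Core Cfsg.Agent.H618.Sigma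

namespace Cfsg.Agent.H714.S4547

universe u

/-- the subgroup generated by the squares -/
def Sq (D : Type u) [Group D] : Subgroup D := Subgroup.closure (Set.range fun d : D => d ^ 2)

variable {D : Type u} [Group D]

theorem sq_mem (d : D) : d ^ 2 ∈ Sq D := Subgroup.subset_closure ⟨d, rfl⟩

instance : (Sq D).Normal := by
  constructor
  intro n hn g
  unfold Sq at hn ⊢
  induction hn using Subgroup.closure_induction with
  | mem x hx =>
    obtain ⟨d, rfl⟩ := hx
    refine Subgroup.subset_closure ⟨g * d * g⁻¹, ?_⟩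
    simp only [sq]
    group
  | one => simp
  | mul a b _ _ ha hb =>
    have : g * (a * b) * g⁻¹ = (g * a * g⁻¹) * (g * b * g⁻¹) := by group
    rw [this]
    exact mul_mem ha hb
  | inv a _ ha =>
    have : g * a⁻¹ * g⁻¹ = (g * a * g⁻¹)⁻¹ := by group
    rw [this]
    exact inv_mem ha

/-- linear with values `1` and `-1` -/
def RL (ψ : D → ℂ) : Prop := ψ 1 = 1 ∧ ∀ g, ψ g = 1 ∨ ψ g = -1

/-- A real linear character is constant on the cosets of `Sq D`. -/
theorem RL.mul_sq {ψ : D → ℂ} (hψ : IsIrrCharacter D ψ) (h : RL ψ) (x : D) {a : D} (ha : a ∈ Sq D) :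
    ψ (x * a) = ψ x := by
  obtain ⟨f, rfl⟩ := Cfsg.Agent.Characters.Linear.exists_hom_of_isIrrCharacter hψ h.1
  have h1 : Sq D ≤ f.ker := by
    unfold Sq
    rw [Subgroup.closure_le]
    rintro _ ⟨d, rfl⟩
    show f (d ^ 2) = 1
    apply Units.ext
    rw [map_pow, Units.val_pow_eq_pow_val, Units.val_one]
    have h3 : ((f d : ℂˣ) : ℂ) = 1 ∨ ((f d : ℂˣ) : ℂ) = -1 := h.2 d
    rcases h3 with h2 | h2 <;> rw [h2] <;> norm_num
  show ((f (x * a) : ℂˣ) : ℂ) = f x
  rw [map_mul, MonoidHom.mem_ker.1 (h1 ha), mul_one]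

/-- The other irreducible characters sum to zero over the cosets of `Sq D`. -/
theorem sum_eq_zero [Finite D] [Fintype (Sq D)] {ψ : D → ℂ} (hψ : IsIrrCharacter D ψ) (h : ¬ RL ψ) (x : D) :
    ∑ a : Sq D, ψ (x * a) = 0 := by
  classical
  have := Fintype.ofFinite D
  obtain ⟨n, ρ, hρ, rfl⟩ := hψ
  let S : Finset D := Finset.univ.filter (· ∈ Sq D)
  have hS : ∀ y, y ∈ S ↔ y ∈ Sq D := fun y => by simp [S]
  obtain ⟨c, hc⟩ := Cfsg.Agent.OddOrderCharacters.ClassSum.invariant_sum_scalar ρ hρ S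
    (fun g y hy => (hS _).2 ((inferInstance : (Sq D).Normal).conj_mem y ((hS y).1 hy) g))
  have hsum : ∑ a : Sq D, ρ.character (x * a) = LinearMap.trace ℂ _ (ρ x * ∑ y ∈ S, ρ y) := by
    rw [Finset.mul_sum, map_sum, Finset.sum_subtype S (p := (· ∈ Sq D)) (fun y => hS y)]
    refine Finset.sum_congr rfl fun a _ => ?_
    rw [← map_mul]
    rfl
  by_cases h0 : c = 0
  · rw [hsum, hc, h0, zero_smul, mul_zero, map_zero]
  exfalso
  apply h
  -- the kernel contains `Sq D`
  have hker : ∀ a ∈ Sq D, ρ a = 1 := by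
    intro a ha
    have h1 : ρ a * ∑ y ∈ S, ρ y = ∑ y ∈ S, ρ y := by
      rw [Finset.mul_sum]
      refine Finset.sum_bij' (fun y _ => a * y) (fun y _ => a⁻¹ * y) ?_ ?_ ?_ ?_ ?_
      · intro y hy
        exact (hS _).2 ((Sq D).mul_mem ha ((hS y).1 hy))
      · intro y hy
        exact (hS _).2 ((Sq D).mul_mem ((Sq D).inv_mem ha) ((hS y).1 hy))
      · intro y _; group
      · intro y _; group
      · intro y _
        rw [map_mul]
    rw [hc, mul_smul_comm, mul_one] at h1
    exact smul_right_injective _ h0 h1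
  have hsq : ∀ g, ρ g * ρ g = 1 := fun g => by
    rw [← map_mul, ← sq]
    exact hker _ (sq_mem g)
  have hcomm : ∀ g k, ρ g * ρ k = ρ k * ρ g := by
    intro g k
    have h1 := hsq (g * k)
    rw [map_mul] at h1
    calc ρ g * ρ k = ρ g * ρ k * (ρ k * ρ g * (ρ g * ρ k)) := by
          rw [mul_assoc (ρ k), ← mul_assoc (ρ g) (ρ g), hsq, one_mul, hsq, mul_one]
      _ = (ρ g * (ρ k * ρ k) * ρ g) * (ρ g * ρ k) := by simp only [mul_assoc]
      _ = ρ g * ρ k := by rw [hsq, mul_one, hsq, one_mul]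
      _ = (ρ k * ρ g) * ((ρ g * ρ k) * (ρ g * ρ k)) := by
          calc ρ g * ρ k = (ρ k * (ρ g * ρ g) * ρ k) * (ρ g * ρ k) := by rw [hsq, mul_one, hsq, one_mul]
            _ = (ρ k * ρ g) * ((ρ g * ρ k) * (ρ g * ρ k)) := by simp only [mul_assoc]
      _ = ρ k * ρ g := by rw [h1, mul_one]
  have hscal : ∀ g, ∃ e : ℂ, ρ g = e • (1 : Module.End ℂ (Fin n → ℂ)) ∧ (e = 1 ∨ e = -1) := by
    intro g
    obtain ⟨e, he⟩ := Cfsg.Agent.Characters.Central.exists_smul_of_comm ρ hρ (ρ g) (fun k => hcomm g k)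
    refine ⟨e, he, ?_⟩
    have h1 := hsq g
    rw [he, smul_mul_smul_comm, one_mul] at h1
    have hn : (1 : Module.End ℂ (Fin n → ℂ)) ≠ 0 := by
      intro h2
      apply Cfsg.Agent.Characters.Central.char_one_ne_zero ρ hρ
      change LinearMap.trace ℂ (Fin n → ℂ) (ρ 1) = 0
      rw [map_one, h2, map_zero]
    have h3 : (e * e) • (1 : Module.End ℂ (Fin n → ℂ)) = (1 : ℂ) • (1 : Module.End ℂ (Fin n → ℂ)) := by
      rw [h1, one_smul]
    have h4 := (smul_left_inj hn).1 h3
    exact mul_self_eq_one_iff.1 h4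
  have hval : ∀ g, ∃ e : ℂ, ρ.character g = e * ρ.character 1 ∧ (e = 1 ∨ e = -1) := by
    intro g
    obtain ⟨e, he, he2⟩ := hscal g
    refine ⟨e, ?_, he2⟩
    change LinearMap.trace ℂ _ (ρ g) = e * LinearMap.trace ℂ _ (ρ 1)
    rw [he, map_one, map_smul, smul_eq_mul]
  have hirr : IsIrrCharacter D ρ.character := ⟨n, ρ, hρ, rfl⟩
  obtain ⟨m, hm0, hm⟩ := isIrr_apply_one hirr
  have hself := classInner_irr_self hirr
  rw [classInner_def] at hself
  have hterm : ∀ g : D, ρ.character g * conj (ρ.character g) = (m : ℂ) * m := by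
    intro g
    obtain ⟨e, he, he2⟩ := hval g
    rw [he, hm, map_mul, Complex.conj_natCast]
    rcases he2 with rfl | rfl
    · simp
    · simp
  rw [Finset.sum_congr rfl fun g _ => hterm g, Finset.sum_const, nsmul_eq_mul, Finset.card_univ,
    Fintype.card_eq_nat_card, inv_mul_cancel_left₀ card_ne_zero_complex] at hself
  have hm1 : m = 1 := by
    have : m * m = 1 := by exact_mod_cast hself
    exact Nat.eq_one_of_mul_eq_one_left this
  subst hm1
  refine ⟨by rw [hm]; norm_num, fun g => ?_⟩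
  obtain ⟨e, he, he2⟩ := hval g
  rw [he, hm]
  rcases he2 with rfl | rfl
  · left; norm_num
  · right; norm_num

/-- The real linear characters are the fixed characters of odd degree. -/
theorem rl_iff [Finite D] {k : ℕ} (hD : IsPGroup 2 D) (hk : Cube D k) (ψ : IrrCharacter D) :
    RL (ψ : D → ℂ) ↔ sig hk ψ = ψ ∧ Odd (charDegree (ψ : D → ℂ)) := by
  have hpow : ∀ g : D, ∃ j : ℕ, orderOf g = 2 ^ j := fun g => by
    have : Fact (Nat.Prime 2) := ⟨Nat.prime_two⟩
    exact (IsPGroup.iff_orderOf.1 hD) g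
  constructor
  · intro h
    constructor
    · rw [sig_eq_iff]
      intro g
      rw [hk.two g (hpow g)]
      have h1 := h.mul_sq ψ.2 g (sq_mem g)
      rw [← pow_succ'] at h1
      exact h1
    · have h1 := h.1
      rw [Cfsg.Agent.Blocks.Basic.irr_one_eq_charDegree ψ.2] at h1
      have : charDegree (ψ : D → ℂ) = 1 := by exact_mod_cast h1
      rw [this]
      exact odd_one
  · rintro ⟨h1, h2⟩
    have hdeg : charDegree (ψ : D → ℂ) ∣ Nat.card D := Cfsg.Agent.Blocks.CyclicUpper.charDegree_dvd ψ.2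
    obtain ⟨n, hn⟩ := IsPGroup.iff_card.1 hD
    rw [hn] at hdeg
    obtain ⟨i, -, hi⟩ := (Nat.dvd_prime_pow Nat.prime_two).1 hdeg
    have hi0 : i = 0 := by
      by_contra hne
      rw [hi] at h2
      exact (Nat.not_even_iff_odd.2 h2) ((Nat.even_pow.2 ⟨even_two, hne⟩))
    rw [hi0, pow_zero] at hi
    have hone : (ψ : D → ℂ) 1 = 1 := by
      rw [Cfsg.Agent.Blocks.Basic.irr_one_eq_charDegree ψ.2, hi, Nat.cast_one]
    refine ⟨hone, fun g => ?_⟩
    obtain ⟨f, hf⟩ := Cfsg.Agent.Characters.Linear.exists_hom_of_isIrrCharacter ψ.2 hone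
    have h3 := (sig_eq_iff hk ψ).1 h1 g
    rw [hk.two g (hpow g), hf] at h3
    have h4 : ((f g : ℂˣ) : ℂ) ^ 3 = f g := by
      have : ((f (g ^ 3) : ℂˣ) : ℂ) = f g := h3
      rw [map_pow, Units.val_pow_eq_pow_val] at this
      exact this
    have h5 : ((f g : ℂˣ) : ℂ) * ((f g : ℂˣ) : ℂ) = 1 := by
      have hne : ((f g : ℂˣ) : ℂ) ≠ 0 := Units.ne_zero _
      apply mul_right_cancel₀ hne
      rw [one_mul]
      calc ((f g : ℂˣ) : ℂ) * (f g : ℂˣ) * (f g : ℂˣ) = ((f g : ℂˣ) : ℂ) ^ 3 := by ring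
        _ = _ := h4
    rw [hf]
    exact mul_self_eq_one_iff.1 h5

/-- **The sum over a coset.** -/
theorem sum_coset_odd [Finite D] [Fintype (Sq D)] {k : ℕ} (hD : IsPGroup 2 D) (hk : Cube D k) {θ : D → ℂ}
    (hθ : IsCharacter D θ) (hfix : ∀ g, θ (g ^ k) = θ g) {d : ℕ} (hd : θ 1 = d) (hodd : Odd d) (x : D) :
    ∃ a : ℤ, Odd a ∧ ∑ y : Sq D, θ (x * y) = (Nat.card (Sq D) : ℂ) * a := by
  classical
  have := Fintype.ofFinite D
  have hfin : Finite (IrrCharacter D) := finite_irr
  have := Fintype.ofFinite (IrrCharacter D)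
  choose m hm using fun ψ : IrrCharacter D => classInner_isNat hθ (isIrr_isCharacter ψ.2)
  have hexp : ∀ g, θ g = ∑ ψ : IrrCharacter D, (m ψ : ℂ) * (ψ : D → ℂ) g := by
    intro g
    have h1 := congrFun (classFunction_eq_sum (isCharacter_isClassFunction hθ)) g
    rw [h1, Finset.sum_apply]
    refine Finset.sum_congr rfl fun ψ _ => ?_
    rw [Pi.smul_apply, smul_eq_mul, hm ψ]
  -- the multiplicities are invariant
  have hinv : ∀ ψ : IrrCharacter D, m (sig hk ψ) = m ψ := by
    intro ψ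
    have h1 : (m (sig hk ψ) : ℂ) = m ψ := by
      rw [← hm, ← hm, classInner_def, classInner_def]
      congr 1
      have hb : Function.Bijective fun g : D => g ^ k := by
        rw [← Finite.injective_iff_bijective]
        intro a b hab
        obtain ⟨n, hn⟩ := hk.exists_iter
        have h2 : ∀ g : D, (g ^ k) ^ (k ^ (2 ^ n - 1)) = g := by
          intro g
          rw [← pow_mul, ← pow_succ', Nat.sub_add_cancel Nat.one_le_two_pow, hn]
        rw [← h2 a, ← h2 b]
        exact congrArg (· ^ (k ^ (2 ^ n - 1))) hab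
      rw [← Function.Bijective.sum_comp hb fun g : D => θ g * conj ((ψ : D → ℂ) g)]
      refine (Finset.sum_congr rfl fun g _ => ?_)
      rw [hfix, sig_apply]
    exact_mod_cast h1
  -- parity
  obtain ⟨n, hn⟩ := hk.exists_iter
  let Λ : Finset (IrrCharacter D) := Finset.univ.filter fun ψ : IrrCharacter D => RL (ψ : D → ℂ)
  have hΛ : ∀ ψ : IrrCharacter D, ψ ∈ Λ ↔ RL (ψ : D → ℂ) := fun ψ => by simp [Λ]
  have hsigit : ∀ ψ : IrrCharacter D, (sig hk)^[2 ^ n] ψ = ψ := fun ψ =>
    Subtype.ext (funext fun g => by rw [sig_iter, hn])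
  have hpar := sum_fixed_perm (R := ZMod 2) (sig hk) n hsigit
    (fun ψ : IrrCharacter D => ((m ψ * charDegree (ψ : D → ℂ) : ℕ) : ZMod 2))
    (fun ψ => by rw [hinv, charDegree_sig])
  have htot : ∑ ψ : IrrCharacter D, m ψ * charDegree (ψ : D → ℂ) = d := by
    have h1 := hexp 1
    rw [hd] at h1
    have h2 : (d : ℂ) = ((∑ ψ : IrrCharacter D, m ψ * charDegree (ψ : D → ℂ) : ℕ) : ℂ) := by
      rw [h1]
      push_cast
      refine Finset.sum_congr rfl fun ψ _ => ?_
      rw [Cfsg.Agent.Blocks.Basic.irr_one_eq_charDegree ψ.2]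
    exact_mod_cast h2.symm
  have hodd2 : Odd (∑ ψ ∈ Λ, m ψ) := by
    rw [← Nat.cast_sum, htot] at hpar
    have h1 : ∑ ψ : IrrCharacter D with sig hk ψ = ψ, ((m ψ * charDegree (ψ : D → ℂ) : ℕ) : ZMod 2) =
        ∑ ψ ∈ Λ, ((m ψ : ℕ) : ZMod 2) := by
      rw [Finset.sum_filter, Finset.sum_filter]
      refine Finset.sum_congr rfl fun ψ _ => ?_
      by_cases h2 : RL (ψ : D → ℂ)
      · have h3 := (rl_iff hD hk ψ).1 h2
        rw [if_pos h3.1, if_pos h2]
        have h4 := h2.1
        rw [Cfsg.Agent.Blocks.Basic.irr_one_eq_charDegree ψ.2] at h4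
        have h5 : charDegree (ψ : D → ℂ) = 1 := by exact_mod_cast h4
        rw [h5, mul_one]
      · rw [if_neg h2]
        split_ifs with h3
        · have h4 : Even (charDegree (ψ : D → ℂ)) := by
            rw [← Nat.not_odd_iff_even]
            exact fun h5 => h2 ((rl_iff hD hk ψ).2 ⟨h3, h5⟩)
          have h5 : ((m ψ * charDegree (ψ : D → ℂ) : ℕ) : ZMod 2) = 0 := by
            rw [ZMod.natCast_eq_zero_iff]
            exact (even_iff_two_dvd.1 h4).mul_left _
          exact h5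
        · rfl
    rw [h1, ← Nat.cast_sum] at hpar
    have h2 : d ≡ ∑ ψ ∈ Λ, m ψ [MOD 2] :=
      (ZMod.natCast_eq_natCast_iff _ _ _).1 hpar
    rw [Nat.odd_iff] at hodd ⊢
    rw [← h2, hodd]
  -- the value
  have hsgn : ∀ ψ : IrrCharacter D, RL (ψ : D → ℂ) → ∃ e : ℤ, (ψ : D → ℂ) x = e ∧ Odd e := by
    intro ψ h
    rcases h.2 x with h1 | h1
    · exact ⟨1, by rw [h1]; norm_num, odd_one⟩
    · exact ⟨-1, by rw [h1]; norm_num, by decide⟩
  choose! e he heo using hsgn
  refine ⟨∑ ψ ∈ Λ, (m ψ : ℤ) * e ψ, ?_, ?_⟩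
  · have h1 : Odd (∑ ψ ∈ Λ, (m ψ : ℤ)) := by
      rw [← Nat.cast_sum, Int.odd_coe_nat]
      exact hodd2
    have h2 : Even (∑ ψ ∈ Λ, ((m ψ : ℤ) * e ψ - (m ψ : ℤ))) := by
      rw [even_iff_two_dvd]
      refine Finset.dvd_sum fun ψ hψ => ?_
      obtain ⟨c, hc⟩ := heo ψ ((hΛ ψ).1 hψ)
      exact ⟨(m ψ : ℤ) * c, by rw [hc]; ring⟩
    rw [Finset.sum_sub_distrib] at h2
    have h3 := h2.add_odd h1
    rwa [sub_add_cancel] at h3
  · simp only [hexp]
    rw [Finset.sum_comm]
    have h1 : ∀ ψ : IrrCharacter D, ∑ y : Sq D, (m ψ : ℂ) * (ψ : D → ℂ) (x * y) =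
        if RL (ψ : D → ℂ) then (Nat.card (Sq D) : ℂ) * ((m ψ : ℂ) * e ψ) else 0 := by
      intro ψ
      rw [← Finset.mul_sum]
      split_ifs with h2
      · rw [Finset.sum_congr rfl fun (y : Sq D) _ => h2.mul_sq ψ.2 x y.2, Finset.sum_const, nsmul_eq_mul,
          Finset.card_univ, Fintype.card_eq_nat_card, he ψ h2]
        ring
      · rw [sum_eq_zero ψ.2 h2, mul_zero]
    rw [Finset.sum_congr rfl fun ψ _ => h1 ψ, ← Finset.sum_filter, ← Finset.mul_sum]
    push_cast
    rfl

end Cfsg.Agent.H714.S4547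
end

-- part: H269/K547/Tool
section
prune_inst 0x80000000000000c010000
set_option linter.all false
open scoped Cfsg.Agent.FastGrp

/-!
# Three generators from an elementary abelian subgroup of order 8

If `P` is a 2-group with `P/P'` elementary abelian and `P` has an elementary abelian subgroup of order 8, then `P` is
not of maximal class, so `P` needs three generators.
-/

set_option autoImplicit false

namespace Cfsg.Agent.H269.K547

open Cfsg Cfsg.Agent.H821.K547

universe u v

/-- a finite group of exponent 2 and order at least 8 maps onto `C_2^3` -/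
theorem rk_of_exp {A : Type u} [CommGroup A] [Finite A] (h2 : ∀ x : A, x ^ 2 = 1) {n : ℕ} (hc : 2 ^ n ≤ Nat.card A) :
    Rk n A := by
  have h2' : ∀ x : Additive A, 2 • x = 0 := fun x => h2 x.toMul
  let _ : Module (ZMod 2) (Additive A) := AddCommGroup.zmodModule h2'
  have : Fact (Nat.Prime 2) := ⟨Nat.prime_two⟩
  have : Finite (Additive A) := ‹Finite A›
  have hr : n ≤ Module.finrank (ZMod 2) (Additive A) := by
    have h1 := Module.natCard_eq_pow_finrank (K := ZMod 2) (V := Additive A)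
    have h3 : Nat.card (Additive A) = Nat.card A := rfl
    rw [h3, Nat.card_zmod] at h1
    rw [h1] at hc
    exact (Nat.pow_le_pow_iff_right (by norm_num)).1 hc
  let b := Module.finBasis (ZMod 2) (Additive A)
  let g : Additive A →ₗ[ZMod 2] (Fin n → ZMod 2) :=
    (LinearMap.funLeft (ZMod 2) (ZMod 2) (Fin.castLE hr)).comp b.equivFun.toLinearMap
  have hg : Function.Surjective g :=
    (LinearMap.funLeft_surjective_of_injective (ZMod 2) (ZMod 2) _ (Fin.castLE_injective hr)).comp b.equivFun.surjective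
  refine ⟨AddMonoidHom.toMultiplicativeRight g.toAddMonoidHom, ?_⟩
  intro y
  obtain ⟨a, ha⟩ := hg y.toAdd
  exact ⟨a.toMul, congrArg Multiplicative.ofAdd ha⟩

/-- the commutator quotient of a 2-group of order divisible by 8 has order at least 4 -/
theorem index_comm {P : Type u} [Group P] [Finite P] (hP : IsPGroup 2 P) (h8 : 8 ∣ Nat.card P) :
    ¬ (commutator P).index ≤ 2 := by
  intro h
  have : Fact (Nat.Prime 2) := ⟨Nat.prime_two⟩
  -- the quotient is cyclic
  have hcy : IsCyclic (P ⧸ commutator P) := by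
    have h1 : Nat.card (P ⧸ commutator P) ≤ 2 := by rw [← Subgroup.index_eq_card]; exact h
    have h0 : 0 < Nat.card (P ⧸ commutator P) := Nat.card_pos
    rcases (by omega : Nat.card (P ⧸ commutator P) = 1 ∨ Nat.card (P ⧸ commutator P) = 2) with h2 | h2
    · have : Subsingleton (P ⧸ commutator P) := (Nat.card_eq_one_iff_unique.1 h2).1
      infer_instance
    · exact isCyclic_of_prime_card h2
  obtain ⟨g, hg⟩ := hcy.exists_generator
  obtain ⟨x, rfl⟩ := QuotientGroup.mk_surjective g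
  have htop : Subgroup.zpowers x = ⊤ := by
    by_contra hne
    obtain ⟨M, hM, hxM⟩ := (eq_top_or_exists_le_coatom (Subgroup.zpowers x)).resolve_left hne
    have hc := Lib.FrattiniBasic.commutator_le_of_isCoatom hP hM
    apply hM.1
    rw [eq_top_iff]
    intro y _
    obtain ⟨k, hk⟩ := Subgroup.mem_zpowers_iff.1 (hg (QuotientGroup.mk y))
    rw [← QuotientGroup.mk_zpow, QuotientGroup.eq] at hk
    have h3 := M.mul_mem (M.zpow_mem (hxM (Subgroup.mem_zpowers x)) k) (hc hk)
    rwa [mul_inv_cancel_left] at h3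
  have hcomm : ∀ a b : P, a * b = b * a := by
    intro a b
    obtain ⟨i, rfl⟩ := Subgroup.mem_zpowers_iff.1 (htop ▸ Subgroup.mem_top a : a ∈ Subgroup.zpowers x)
    obtain ⟨j, rfl⟩ := Subgroup.mem_zpowers_iff.1 (htop ▸ Subgroup.mem_top b : b ∈ Subgroup.zpowers x)
    rw [← zpow_add, ← zpow_add, add_comm]
  have hbot : commutator P = ⊥ := by
    rw [commutator_def, Subgroup.commutator_eq_bot_iff_le_centralizer]
    intro a _
    rw [Subgroup.mem_centralizer_iff]
    intro b _
    exact hcomm b a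
  rw [hbot, Subgroup.index_bot] at h
  have := Nat.le_of_dvd Nat.card_pos h8
  omega

/-- `|P : P'| ≥ 8` -/
theorem eight_le_index {P : Type u} [Group P] [Finite P] (hP : IsPGroup 2 P) (hsq : ∀ x : P, x ^ 2 ∈ commutator P)
    (E : Subgroup P) (hE : Nat.card E = 8) (hE2 : ∀ x ∈ E, x ^ 2 = 1) : 2 ^ 3 ≤ (commutator P).index := by
  have : Fact (Nat.Prime 2) := ⟨Nat.prime_two⟩
  obtain ⟨n, hn⟩ := IsPGroup.iff_card.1 hP
  have h8 : 8 ∣ Nat.card P := by
    rw [← hE]
    exact Subgroup.card_subgroup_dvd_card E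
  have hn3 : 3 ≤ n := by
    rw [hn] at h8
    exact (Nat.pow_dvd_pow_iff_le_right (x := 2) (by norm_num)).1 h8
  have hi : (commutator P).index ∣ 2 ^ n := by
    rw [← hn]
    exact Subgroup.index_dvd_card _
  obtain ⟨k, hk, hk'⟩ := (Nat.dvd_prime_pow Nat.prime_two).1 hi
  have h01 := index_comm hP h8
  rw [hk']
  apply Nat.pow_le_pow_right (by norm_num)
  by_contra hlt
  have hk2 : k = 2 := by
    rw [hk'] at h01
    interval_cases k
    · simp at h01
    · simp at h01
    · rfl
  subst hk2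
  have hc4 : Nat.card (P ⧸ commutator P) = 4 := by
    rw [← Subgroup.index_eq_card, hk']
    norm_num
  have hkl : IsKleinFour (P ⧸ commutator P) := by
    refine ⟨hc4, ?_⟩
    have : Nontrivial (P ⧸ commutator P) := by
      rw [← Finite.one_lt_card_iff_nontrivial, hc4]
      norm_num
    refine Nat.dvd_antisymm (Monoid.exponent_dvd_of_forall_pow_eq_one fun g => ?_) ?_
    · obtain ⟨x, rfl⟩ := QuotientGroup.mk_surjective g
      rw [← QuotientGroup.mk_pow, QuotientGroup.eq_one_iff]
      exact hsq x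
    · obtain ⟨g, hg⟩ := exists_ne (1 : P ⧸ commutator P)
      have h1 : orderOf g = 2 := by
        apply orderOf_eq_prime _ hg
        obtain ⟨x, rfl⟩ := QuotientGroup.mk_surjective g
        rw [← QuotientGroup.mk_pow, QuotientGroup.eq_one_iff]
        exact hsq x
      rw [← h1]
      exact Monoid.order_dvd_exponent g
  have hcl := (S0115.result n hn3 hn).2 hkl
  obtain ⟨C, hC, hCi⟩ := S0113.result n hn3 hn hcl
  -- `E ⊓ C` is cyclic of exponent 2 and has order at least 4
  have h1 : C.relIndex E ∣ 2 := by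
    rw [← hCi]
    have hCn : C.Normal := Subgroup.normal_of_index_eq_two hCi
    exact Subgroup.relIndex_dvd_index_of_normal C E
  have h2 : Nat.card (C.subgroupOf E) * C.relIndex E = 8 := by
    rw [← hE]
    exact Subgroup.card_mul_index (C.subgroupOf E)
  have h3 : 4 ≤ Nat.card (C.subgroupOf E) := by
    have := Nat.le_of_dvd (by norm_num) h1
    by_contra h4
    have : Nat.card (C.subgroupOf E) * C.relIndex E ≤ 3 * 2 := Nat.mul_le_mul (by omega) this
    omega
  have hcyc : IsCyclic (C.subgroupOf E) := by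
    let f : C.subgroupOf E →* C := 
      { toFun := fun x => ⟨x.1.1, Subgroup.mem_subgroupOf.1 x.2⟩
        map_one' := rfl
        map_mul' := fun _ _ => rfl }
    have hf : Function.Injective f := by
      intro a b hab
      have h0 : (f a : P) = (f b : P) := by rw [hab]
      exact Subtype.ext (Subtype.ext h0)
    exact isCyclic_of_injective f hf
  obtain ⟨g, hg⟩ := hcyc.exists_generator
  have h5 : Nat.card (C.subgroupOf E) = orderOf g := (orderOf_eq_card_of_forall_mem_zpowers hg).symm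
  have h6 : orderOf g ∣ 2 := by
    apply orderOf_dvd_of_pow_eq_one
    apply Subtype.ext
    apply Subtype.ext
    exact hE2 g.1.1 g.1.2
  have := Nat.le_of_dvd (by norm_num) h6
  omega

/-- three generators for a 2-group -/
theorem rk_of_elem {P : Type u} [Group P] [Finite P] (hP : IsPGroup 2 P) (hsq : ∀ x : P, x ^ 2 ∈ commutator P)
    (E : Subgroup P) (hE : Nat.card E = 8) (hE2 : ∀ x ∈ E, x ^ 2 = 1) : Rk 3 P := by
  have h := eight_le_index hP hsq E hE hE2
  have h2 : ∀ x : Abelianization P, x ^ 2 = 1 := by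
    intro g
    obtain ⟨x, rfl⟩ : ∃ x : P, Abelianization.of x = g := QuotientGroup.mk_surjective g
    rw [← map_pow]
    exact (QuotientGroup.eq_one_iff _).2 (hsq x)
  obtain ⟨f, hf⟩ := rk_of_exp (A := Abelianization P) h2 (n := 3) (by
    change _ ≤ Nat.card (P ⧸ commutator P)
    rw [← Subgroup.index_eq_card]
    exact h)
  exact ⟨f.comp Abelianization.of, hf.comp (QuotientGroup.mk_surjective)⟩

/-- `D3` of a quotient: the Sylow 2-subgroups of `G` have elementary abelian commutator quotients and the quotient `Y`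
has an elementary abelian subgroup of order 8 -/
theorem d3_quot {G : Type u} {Y : Type v} [Group G] [Finite G] [Group Y] (f : G →* Y) (hf : Function.Surjective f)
    (h : ∀ (P : Sylow 2 G) (x : (P : Subgroup G)), x ^ 2 ∈ commutator (P : Subgroup G))
    (E : Subgroup Y) (hE : Nat.card E = 8) (hE2 : ∀ x ∈ E, x ^ 2 = 1) : D3 Y := by
  have : Fact (Nat.Prime 2) := ⟨Nat.prime_two⟩
  have : Finite Y := Finite.of_surjective f hf
  -- a Sylow subgroup containing `E`
  obtain ⟨Q0, hQ0⟩ := (IsPGroup.of_card (p := 2) (n := 3) (by rw [hE]; norm_num) : IsPGroup 2 E).exists_le_sylow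
  have key : Rk 3 Q0 := by
    obtain ⟨P, hP⟩ := Sylow.mapSurjective_surjective hf 2 Q0
    have hmap : (P : Subgroup G).map f = (Q0 : Subgroup Y) := by rw [← hP]; rfl
    refine rk_of_elem Q0.2 ?_ (E.subgroupOf Q0) ?_ ?_
    · rintro ⟨y, hy⟩
      rw [← hmap] at hy
      obtain ⟨x, hx, rfl⟩ := hy
      have h1 := h P ⟨x, hx⟩
      let f' : (P : Subgroup G) →* (Q0 : Subgroup Y) :=
        (f.comp (P : Subgroup G).subtype).codRestrict (Q0 : Subgroup Y) (fun x => by
          rw [← hmap]; exact Subgroup.mem_map_of_mem f x.2)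
      have h2 : f' (⟨x, hx⟩ ^ 2) ∈ (commutator (P : Subgroup G)).map f' := Subgroup.mem_map_of_mem f' h1
      rw [map_pow] at h2
      have h3 : (commutator (P : Subgroup G)).map f' ≤ commutator (Q0 : Subgroup Y) := by
        rw [commutator_def, Subgroup.map_commutator, commutator_def]
        exact Subgroup.commutator_mono le_top le_top
      exact h3 h2
    · rw [Nat.card_congr (Subgroup.subgroupOfEquivOfLe hQ0).toEquiv, hE]
    · intro x hx
      apply Subtype.ext
      exact hE2 x.1 hx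
  intro Q
  obtain ⟨g, hg⟩ := key
  let e : Q ≃* Q0 := Sylow.equiv Q Q0
  exact ⟨g.comp e.toMonoidHom, hg.comp e.surjective⟩

end Cfsg.Agent.H269.K547
end

-- part: H716/K547/RkTwo
section
prune_inst 0x80000000000000c010000
set_option linter.all false
open scoped Cfsg.Agent.FastGrp

/-!
# S4547 (helper716): noncyclic 2-groups map onto `C_2 × C_2`; the Sylow 2-subgroups of `Sym(n)`, `n ≥ 4`
-/

set_option autoImplicit false

namespace Cfsg.Agent.H716.K547

open Cfsg.Agent.H821.K547

universe u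

/-- the homomorphism onto `C_2` with a given kernel of index two -/
theorem exists_hom_two {P : Type u} [Group P] [Finite P] (A : Subgroup P) [A.Normal] (hA : A.index = 2) :
    ∃ f : P →* Multiplicative (ZMod 2), ∀ x, f x = 1 ↔ x ∈ A := by
  have h1 : Nat.card (P ⧸ A) = 2 := by rw [← Subgroup.index_eq_card, hA]
  have h2 : Nat.card (Multiplicative (ZMod 2)) = 2 := by
    rw [Nat.card_eq_fintype_card]
    rfl
  have : Fact (Nat.Prime 2) := ⟨Nat.prime_two⟩
  let e : P ⧸ A ≃* Multiplicative (ZMod 2) := mulEquivOfPrimeCardEq h1 h2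
  refine ⟨(e : P ⧸ A →* Multiplicative (ZMod 2)).comp (QuotientGroup.mk' A), fun x => ?_⟩
  show e (QuotientGroup.mk' A x) = 1 ↔ x ∈ A
  rw [EmbeddingLike.map_eq_one_iff]
  exact QuotientGroup.eq_one_iff x

theorem ne_one_iff (x : Multiplicative (ZMod 2)) : x ≠ 1 ↔ x = Multiplicative.ofAdd 1 := by
  revert x
  decide

/-- two different subgroups of index two -/
theorem rk_two_of_index {P : Type u} [Group P] [Finite P] {A B : Subgroup P} (hA : A.index = 2) (hB : B.index = 2)
    (hne : A ≠ B) : Rk 2 P := by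
  have hAn : A.Normal := Subgroup.normal_of_index_eq_two hA
  have hBn : B.Normal := Subgroup.normal_of_index_eq_two hB
  obtain ⟨f, hf⟩ := exists_hom_two A hA
  obtain ⟨g, hg⟩ := exists_hom_two B hB
  have hcard : Nat.card A = Nat.card B := by
    have h1 := Subgroup.card_mul_index A
    have h2 := Subgroup.card_mul_index B
    rw [hA] at h1
    rw [hB] at h2
    omega
  obtain ⟨x, hxA, hxB⟩ : ∃ x ∈ A, x ∉ B := by
    by_contra hcon
    push Not at hcon
    exact hne (Subgroup.eq_of_le_of_card_ge hcon hcard.ge)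
  obtain ⟨y, hyB, hyA⟩ : ∃ y ∈ B, y ∉ A := by
    by_contra hcon
    push Not at hcon
    exact hne (Subgroup.eq_of_le_of_card_ge hcon hcard.le).symm
  let F : P →* Multiplicative (Fin 2 → ZMod 2) :=
    { toFun := fun z => Multiplicative.ofAdd ![(f z).toAdd, (g z).toAdd]
      map_one' := by
        rw [map_one f, map_one g]
        apply Multiplicative.toAdd.injective
        funext i
        fin_cases i <;> rfl
      map_mul' := fun a b => by
        rw [map_mul f, map_mul g]
        apply Multiplicative.toAdd.injective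
        funext i
        fin_cases i <;> rfl }
  refine ⟨F, ?_⟩
  have hfx : f x = 1 := (hf x).2 hxA
  have hgx : g x = Multiplicative.ofAdd 1 := (ne_one_iff _).1 fun h => hxB ((hg x).1 h)
  have hgy : g y = 1 := (hg y).2 hyB
  have hfy : f y = Multiplicative.ofAdd 1 := (ne_one_iff _).1 fun h => hyA ((hf y).1 h)
  intro v
  have hval : ∀ c : ZMod 2, c = 0 ∨ c = 1 := by decide
  have hF : ∀ z, F z = Multiplicative.ofAdd ![(f z).toAdd, (g z).toAdd] := fun _ => rfl
  rcases hval (v.toAdd 0) with h0 | h0 <;> rcases hval (v.toAdd 1) with h1 | h1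
  · refine ⟨1, ?_⟩
    rw [hF, map_one f, map_one g]
    apply Multiplicative.toAdd.injective
    funext i
    fin_cases i
    · exact h0.symm
    · exact h1.symm
  · refine ⟨x, ?_⟩
    rw [hF, hfx, hgx]
    apply Multiplicative.toAdd.injective
    funext i
    fin_cases i
    · exact h0.symm
    · exact h1.symm
  · refine ⟨y, ?_⟩
    rw [hF, hfy, hgy]
    apply Multiplicative.toAdd.injective
    funext i
    fin_cases i
    · exact h0.symm
    · exact h1.symm
  · refine ⟨x * y, ?_⟩
    rw [hF, map_mul f, map_mul g, hfx, hgx, hfy, hgy, one_mul, mul_one]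
    apply Multiplicative.toAdd.injective
    funext i
    fin_cases i
    · exact h0.symm
    · exact h1.symm

/-- **Noncyclic 2-groups.** -/
theorem rk_two_of_not_isCyclic {P : Type u} [Group P] [Finite P] (hP : IsPGroup 2 P) (hc : ¬ IsCyclic P) : Rk 2 P := by
  have : Fact (Nat.Prime 2) := ⟨Nat.prime_two⟩
  have hne : (⊥ : Subgroup P) ≠ ⊤ := by
    intro h
    apply hc
    have : Subsingleton P := Subgroup.subsingleton_iff.1 (subsingleton_of_bot_eq_top h)
    infer_instance
  obtain ⟨A, hA, -⟩ := (eq_top_or_exists_le_coatom (⊥ : Subgroup P)).resolve_left hne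
  obtain ⟨x, hx⟩ : ∃ x, x ∉ A := by
    by_contra hcon
    push Not at hcon
    exact hA.1 (eq_top_iff.2 fun x _ => hcon x)
  have hz : Subgroup.zpowers x ≠ ⊤ := by
    intro h
    exact hc ⟨x, fun y => by
      have : y ∈ (⊤ : Subgroup P) := trivial
      rwa [← h] at this⟩
  obtain ⟨B, hB, hxB⟩ := (eq_top_or_exists_le_coatom (Subgroup.zpowers x)).resolve_left hz
  have hAB : A ≠ B := by
    rintro rfl
    exact hx (hxB (Subgroup.mem_zpowers x))
  exact rk_two_of_index (Cfsg.Agent.S0014.coatom_normal_index hP hA).2 (Cfsg.Agent.S0014.coatom_normal_index hP hB).2 hAB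

/-- a group containing a four-group has noncyclic Sylow 2-subgroups -/
theorem rk_two_sylow {G : Type u} [Group G] [Finite G] {a b : G} (ha : a * a = 1) (hb : b * b = 1) (hab : a * b = b * a)
    (ha1 : a ≠ 1) (hb1 : b ≠ 1) (hne : a ≠ b) (Q : Sylow 2 G) : Rk 2 Q := by
  have hp2 : Fact (Nat.Prime 2) := ⟨Nat.prime_two⟩
  refine rk_two_of_not_isCyclic Q.isPGroup' fun hc => ?_
  let K : Subgroup G := Subgroup.closure {a, b}
  have hcomm : ∀ x ∈ K, ∀ y ∈ K, x * y = y * x := by
    intro x hx y hy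
    have h1 : K ≤ Subgroup.centralizer (K : Set G) := by
      have h2 : ({a, b} : Set G) ⊆ Subgroup.centralizer ({a, b} : Set G) := by
        rintro z (rfl | rfl) w (rfl | rfl)
        · rfl
        · exact hab.symm
        · exact hab
        · rfl
      rw [Subgroup.closure_le]
      intro z hz
      rw [SetLike.mem_coe, Subgroup.mem_centralizer_iff]
      intro w hw
      have h3 : K ≤ Subgroup.centralizer ({z} : Set G) := by
        rw [Subgroup.closure_le]
        intro v hv
        rw [SetLike.mem_coe, Subgroup.mem_centralizer_iff]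
        rintro _ rfl
        exact (h2 hv _ hz)
      exact (h3 hw z rfl).symm
    exact (h1 hy x hx)
  have hsq : ∀ x ∈ K, x ^ 2 = 1 := by
    intro x hx
    refine Subgroup.closure_induction (p := fun x _ => x ^ 2 = 1) ?_ ?_ ?_ ?_ hx
    · rintro z (rfl | rfl)
      · rw [pow_two, ha]
      · rw [pow_two, hb]
    · rw [one_pow]
    · intro x y hx hy h1 h2
      have h3 := hcomm x hx y hy
      calc (x * y) ^ 2 = x * (y * x) * y := by rw [pow_two]; group
        _ = x * (x * y) * y := by rw [h3]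
        _ = x ^ 2 * y ^ 2 := by rw [pow_two, pow_two]; group
        _ = 1 := by rw [h1, h2, mul_one]
    · intro x hx h1
      rw [inv_pow, h1, inv_one]
  have hKp : IsPGroup 2 K := fun x => ⟨1, Subtype.ext (by
    show (x : G) ^ 2 ^ 1 = 1
    rw [pow_one]
    exact hsq x x.2)⟩
  obtain ⟨R, hcR, haR, hbR⟩ : ∃ R : Subgroup G, IsCyclic R ∧ a ∈ R ∧ b ∈ R := by
    obtain ⟨R, hR⟩ := hKp.exists_le_sylow
    exact ⟨R, isCyclic_of_surjective (Sylow.equiv Q R) (Sylow.equiv Q R).surjective,
      hR (Subgroup.subset_closure (by simp)), hR (Subgroup.subset_closure (by simp))⟩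
  have hoa : orderOf (⟨a, haR⟩ : R) = 2 := by
    rw [orderOf_eq_prime_iff]
    refine ⟨Subtype.ext (by show a ^ 2 = 1; rw [pow_two, ha]), fun h => ha1 (congrArg Subtype.val h)⟩
  have hob : orderOf (⟨b, hbR⟩ : R) = 2 := by
    rw [orderOf_eq_prime_iff]
    refine ⟨Subtype.ext (by show b ^ 2 = 1; rw [pow_two, hb]), fun h => hb1 (congrArg Subtype.val h)⟩
  have h1 : Nat.card {x : R // orderOf x = 2} ≤ 1 := by
    classical
    have := Fintype.ofFinite R
    have h0 : 2 ∣ Fintype.card R := by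
      have := orderOf_dvd_card (x := (⟨a, haR⟩ : R))
      rwa [hoa] at this
    have h2 := IsCyclic.card_orderOf_eq_totient (α := R) (d := 2) h0
    rw [Nat.card_eq_fintype_card, Fintype.card_subtype]
    exact (h2.trans Nat.totient_two).le
  have h2 : (⟨⟨a, haR⟩, hoa⟩ : {x : R // orderOf x = 2}) ≠ ⟨⟨b, hbR⟩, hob⟩ := by
    intro h
    exact hne (congrArg (fun z : {x : R // orderOf x = 2} => ((z : R) : G)) h)
  have h3 : Subsingleton {x : R // orderOf x = 2} := Finite.card_le_one_iff_subsingleton.1 h1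
  exact h2 (Subsingleton.elim _ _)

/-- **The Sylow 2-subgroups of `Sym(n)`, `n ≥ 4`.** -/
theorem rk_two_perm {n : ℕ} (hn : 4 ≤ n) (Q : Sylow 2 (Equiv.Perm (Fin n))) : Rk 2 Q := by
  let i : Fin 4 → Fin n := fun k => ⟨k, by omega⟩
  have hi : ∀ k l : Fin 4, i k = i l ↔ k = l := by
    intro k l
    constructor
    · intro h
      exact Fin.ext (congrArg (fun z : Fin n => (z : ℕ)) h)
    · rintro rfl
      rfl
  refine rk_two_sylow (a := Equiv.swap (i 0) (i 1)) (b := Equiv.swap (i 2) (i 3)) (Equiv.swap_mul_self _ _)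
    (Equiv.swap_mul_self _ _) ?_ ?_ ?_ ?_ Q
  · have h1 : Equiv.Perm.Disjoint (Equiv.swap (i 0) (i 1)) (Equiv.swap (i 2) (i 3)) := by
      intro x
      by_cases h0 : x = i 0
      · right
        subst h0
        exact Equiv.swap_apply_of_ne_of_ne (by rw [Ne, hi]; decide) (by rw [Ne, hi]; decide)
      · by_cases h1 : x = i 1
        · right
          subst h1
          exact Equiv.swap_apply_of_ne_of_ne (by rw [Ne, hi]; decide) (by rw [Ne, hi]; decide)
        · left
          exact Equiv.swap_apply_of_ne_of_ne h0 h1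
    exact h1.commute
  · rw [Ne, Equiv.swap_eq_one_iff, hi]
    decide
  · rw [Ne, Equiv.swap_eq_one_iff, hi]
    decide
  · intro h
    have h1 := congrArg (fun z : Equiv.Perm (Fin n) => z (i 0)) h
    simp only [Equiv.swap_apply_left] at h1
    rw [Equiv.swap_apply_of_ne_of_ne (by rw [Ne, hi]; decide) (by rw [Ne, hi]; decide), hi] at h1
    revert h1
    decide

end Cfsg.Agent.H716.K547
end

-- part: H581/K547/Direct
section
prune_inst 0x80000000000000c010000
set_option linter.all false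
open scoped Cfsg.Agent.FastGrp

/-!
# S4547: `D3 (AutExt τ)` from a subgroup of odd index and an invariant homomorphism (helper581)

The case where the powers of `τ` which are inner are given by elements of the kernel: no transfer is needed.
-/

set_option autoImplicit false

namespace Cfsg.Agent.H581.K547.Direct

open Cfsg Cfsg.Agent.H821.K547

universe u v

/-- a subgroup of odd index which maps onto an elementary abelian group of order at least 8 -/
theorem d3_of_hom {G : Type u} [Group G] [Finite G] {A : Type v} [CommGroup A] [Finite A] (hA : ∀ a : A, a ^ 2 = 1)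
    (hc : 8 ≤ Nat.card A) (L : Subgroup G) (hL : ¬ 2 ∣ L.index) (f : L →* A) (hf : Function.Surjective f) : D3 G := by
  have : Fact (Nat.Prime 2) := ⟨Nat.prime_two⟩
  obtain ⟨P⟩ : Nonempty (Sylow 2 L) := inferInstance
  -- the image of `P` is everything
  have h1 : (P : Subgroup L).map f = ⊤ := by
    have h2 : ((P : Subgroup L).map f).index ∣ (P : Subgroup L).index := Subgroup.index_map_dvd _ hf
    have h3 : ¬ 2 ∣ ((P : Subgroup L).map f).index := fun h => P.not_dvd_index (h.trans h2)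
    have h4 : IsPGroup 2 A := fun a => ⟨1, by rw [pow_one]; exact hA a⟩
    obtain ⟨n, hn⟩ := h4.index ((P : Subgroup L).map f)
    rcases Nat.eq_zero_or_pos n with h0 | h0
    · rw [h0, pow_zero] at hn
      exact Subgroup.index_eq_one.1 hn
    · exfalso
      apply h3
      rw [hn]
      exact dvd_pow_self 2 (by omega)
  have h5 : IsPGroup 2 ((P : Subgroup L).map L.subtype) := P.2.map _
  have h6 : ¬ 2 ∣ ((P : Subgroup L).map L.subtype).index := by
    rw [Subgroup.index_map_subtype]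
    intro h
    rcases (Nat.Prime.dvd_mul Nat.prime_two).1 h with h7 | h7
    · exact P.not_dvd_index h7
    · exact hL h7
  obtain ⟨g, hg⟩ := Cfsg.Agent.H269.K547.rk_of_exp hA (n := 3) hc
  intro Q
  let e : Q ≃* (h5.toSylow h6) := Sylow.equiv _ _
  have e2 : (h5.toSylow h6 : Subgroup G) = (P : Subgroup L).map L.subtype := rfl
  let e3 : (P : Subgroup L) ≃* (P : Subgroup L).map L.subtype :=
    (P : Subgroup L).equivMapOfInjective L.subtype L.subtype_injective
  let e4 : Q ≃* (P : Subgroup L) := e.trans e3.symm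
  have hs : Function.Surjective (f.comp (P : Subgroup L).subtype) := by
    intro a
    obtain ⟨x, hx, rfl⟩ : a ∈ (P : Subgroup L).map f := by rw [h1]; exact Subgroup.mem_top _
    exact ⟨⟨x, hx⟩, rfl⟩
  have hs2 : Function.Surjective (g.comp (f.comp (P : Subgroup L).subtype)) := hg.comp hs
  exact ⟨(g.comp (f.comp (P : Subgroup L).subtype)).comp e4.toMonoidHom, hs2.comp e4.surjective⟩

section ext

variable {S : Type u} [Group S]

theorem autExt_conj_mul (s : S) (τ : MulAut S) : AutExt (MulAut.conj s * τ) = AutExt τ := by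
  have key : ∀ (s : S) (τ : MulAut S), AutExt (MulAut.conj s * τ) ≤ AutExt τ := by
    intro s τ
    refine sup_le le_sup_left ?_
    rw [Subgroup.zpowers_le]
    exact mul_mem (Subgroup.mem_sup_left ⟨s, rfl⟩) (Subgroup.mem_sup_right (Subgroup.mem_zpowers τ))
  refine le_antisymm (key s τ) ?_
  have := key s⁻¹ (MulAut.conj s * τ)
  rwa [map_inv, inv_mul_cancel_left] at this

theorem conj_mul_conj (a : S) (φ : MulAut S) : φ * MulAut.conj a = MulAut.conj (φ a) * φ := by
  ext x
  simp [MulAut.mul_apply, MulAut.conj_apply]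

/-- odd powers are not inner -/
theorem even_of_zpow {τ : MulAut S} (hT : TwoPow τ) (hI : ¬ IsInn τ) {n : ℤ} {s : S} (h : τ ^ n = MulAut.conj s) :
    Even n := by
  by_contra hodd
  rw [Int.not_even_iff_odd] at hodd
  obtain ⟨k, t, ht⟩ := hT
  have ht' : τ ^ ((2 : ℤ) ^ k) = MulAut.conj t := by
    have : ((2 : ℤ) ^ k) = ((2 ^ k : ℕ) : ℤ) := by push_cast; rfl
    rw [this, zpow_natCast]
    ext x
    exact ht x
  have hcop : IsCoprime n ((2 : ℤ) ^ k) := by
    apply IsCoprime.pow_right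
    obtain ⟨j, rfl⟩ := hodd
    exact ⟨1, -j, by ring⟩
  obtain ⟨a, b, hab⟩ := hcop
  have hm : τ ∈ (MulAut.conj : S →* MulAut S).range := by
    have h1 : τ ^ n ∈ (MulAut.conj : S →* MulAut S).range := ⟨s, h.symm⟩
    have h2 : τ ^ ((2 : ℤ) ^ k) ∈ (MulAut.conj : S →* MulAut S).range := ⟨t, ht'.symm⟩
    have h3 := mul_mem (zpow_mem h1 a) (zpow_mem h2 b)
    rwa [← zpow_mul, ← zpow_mul, ← zpow_add, mul_comm n a, mul_comm ((2 : ℤ) ^ k) b, hab, zpow_one] at h3
  obtain ⟨r, hr⟩ := hm
  exact hI ⟨r, fun x => by rw [← hr]; rfl⟩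

variable {A : Type v} [CommGroup A] (M : Subgroup S) (f : M →* A) (τ : MulAut S)

/-- the carrier: `conj s * τ ^ n` with `s ∈ M` -/
def Rel (x : MulAut S) (a : A × ℤˣ) : Prop :=
  ∃ (s : S) (h : s ∈ M) (n : ℤ), x = MulAut.conj s * τ ^ n ∧ a = (f ⟨s, h⟩, (-1) ^ n)

variable {M f τ} [Finite S]

theorem inv_zpow (hτ : ∀ x ∈ M, τ x ∈ M) (hτf : ∀ (x : S) (hx : x ∈ M), f ⟨τ x, hτ x hx⟩ = f ⟨x, hx⟩) (n : ℤ)
    (x : S) (hx : x ∈ M) : ∃ h : (τ ^ n) x ∈ M, f ⟨(τ ^ n) x, h⟩ = f ⟨x, hx⟩ := by
  have hnat : ∀ k : ℕ, ∃ h : (τ ^ k) x ∈ M, f ⟨(τ ^ k) x, h⟩ = f ⟨x, hx⟩ := by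
    intro k
    induction k with
    | zero => exact ⟨hx, rfl⟩
    | succ k ih =>
      obtain ⟨h, hf⟩ := ih
      have e : (τ ^ (k + 1)) x = τ ((τ ^ k) x) := by rw [pow_succ']; rfl
      refine ⟨by rw [e]; exact hτ _ h, ?_⟩
      rw [← hf, ← hτf _ h]
      congr 1
      exact Subtype.ext e
  have hfin : Finite (MulAut S) := inferInstance
  obtain ⟨k, hk⟩ : τ ^ n ∈ Submonoid.powers τ := by
    rw [mem_powers_iff_mem_zpowers]
    exact ⟨n, rfl⟩
  rw [← hk]
  exact hnat k

theorem rel_mul (hτ : ∀ x ∈ M, τ x ∈ M) (hτf : ∀ (x : S) (hx : x ∈ M), f ⟨τ x, hτ x hx⟩ = f ⟨x, hx⟩)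
    {x y : MulAut S} {a b : A × ℤˣ} (hx : Rel M f τ x a) (hy : Rel M f τ y b) : Rel M f τ (x * y) (a * b) := by
  obtain ⟨s, hs, n, rfl, rfl⟩ := hx
  obtain ⟨t, ht, k, rfl, rfl⟩ := hy
  obtain ⟨h1, h2⟩ := inv_zpow hτ hτf n t ht
  refine ⟨s * (τ ^ n) t, M.mul_mem hs h1, n + k, ?_, ?_⟩
  · rw [map_mul, zpow_add, mul_assoc, ← mul_assoc (τ ^ n), conj_mul_conj]
    simp only [mul_assoc]
  · rw [Prod.mk_mul_mk, zpow_add, ← h2, ← map_mul]
    rfl

theorem rel_inv (hτ : ∀ x ∈ M, τ x ∈ M) (hτf : ∀ (x : S) (hx : x ∈ M), f ⟨τ x, hτ x hx⟩ = f ⟨x, hx⟩)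
    {x : MulAut S} {a : A × ℤˣ} (hx : Rel M f τ x a) : Rel M f τ x⁻¹ a⁻¹ := by
  obtain ⟨s, hs, n, rfl, rfl⟩ := hx
  obtain ⟨h1, h2⟩ := inv_zpow hτ hτf (-n) s⁻¹ (M.inv_mem hs)
  refine ⟨(τ ^ (-n)) s⁻¹, h1, -n, ?_, ?_⟩
  · rw [mul_inv_rev, ← conj_mul_conj, zpow_neg, ← map_inv]
  · rw [h2, Prod.inv_mk, zpow_neg, ← map_inv]
    rfl

omit [Finite S] in
/-- uniqueness -/
theorem rel_unique (hT : TwoPow τ) (hI : ¬ IsInn τ)
    (hpow : ∀ (n : ℤ) (s : S), τ ^ n = MulAut.conj s → ∃ h : s ∈ M, f ⟨s, h⟩ = 1)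
    {x : MulAut S} {a b : A × ℤˣ} (hx : Rel M f τ x a) (hy : Rel M f τ x b) : a = b := by
  obtain ⟨s, hs, n, rfl, rfl⟩ := hx
  obtain ⟨t, ht, k, h, rfl⟩ := hy
  have h1 : τ ^ (n - k) = MulAut.conj (s⁻¹ * t) := by
    have h2 : τ ^ n = MulAut.conj s⁻¹ * (MulAut.conj t * τ ^ k) := by rw [← h, map_inv, inv_mul_cancel_left]
    rw [zpow_sub, h2, map_mul]
    simp only [mul_assoc, mul_inv_cancel, mul_one]
  obtain ⟨h3, h4⟩ := hpow _ _ h1
  have h5 := even_of_zpow hT hI h1
  refine Prod.ext ?_ ?_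
  · change f ⟨s, hs⟩ = f ⟨t, ht⟩
    have h6 : (⟨s⁻¹ * t, h3⟩ : M) = ⟨s, hs⟩⁻¹ * ⟨t, ht⟩ := rfl
    rw [h6, map_mul, map_inv] at h4
    exact (inv_mul_eq_one.1 h4)
  · change ((-1 : ℤˣ)) ^ n = (-1) ^ k
    have h6 : ((-1 : ℤˣ)) ^ (n - k) = 1 := h5.neg_one_zpow
    rw [zpow_sub] at h6
    exact mul_inv_eq_one.1 h6

/-- the subgroup `M <τ>` -/
def LL (hτ : ∀ x ∈ M, τ x ∈ M) (hτf : ∀ (x : S) (hx : x ∈ M), f ⟨τ x, hτ x hx⟩ = f ⟨x, hx⟩) :
    Subgroup (MulAut S) where
  carrier := {x | ∃ a, Rel M f τ x a}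
  one_mem' := ⟨1, 1, M.one_mem, 0, by simp, by rw [zpow_zero]; exact Prod.ext (map_one f).symm rfl⟩
  mul_mem' := fun ⟨a, ha⟩ ⟨b, hb⟩ => ⟨a * b, rel_mul hτ hτf ha hb⟩
  inv_mem' := fun ⟨a, ha⟩ => ⟨a⁻¹, rel_inv hτ hτf ha⟩

/-- INV, direct version: the inner powers of `τ` come from the kernel of `f` -/
theorem d3_autExt [Finite A] (hA : ∀ a : A, a ^ 2 = 1) (hc : 4 ≤ Nat.card A)
    (hM : ¬ 2 ∣ M.index) (hf : Function.Surjective f) 
    (hτ : ∀ x ∈ M, τ x ∈ M) (hτf : ∀ (x : S) (hx : x ∈ M), f ⟨τ x, hτ x hx⟩ = f ⟨x, hx⟩)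
    (hpow : ∀ (n : ℤ) (s : S), τ ^ n = MulAut.conj s → ∃ h : s ∈ M, f ⟨s, h⟩ = 1)
    (hT : TwoPow τ) (hI : ¬ IsInn τ) : D3 (AutExt τ) := by
  have hfin : Finite (MulAut S) := inferInstance
  set L := LL hτ hτf with hL
  have memL : ∀ {s : S}, s ∈ M → ∀ n : ℤ, MulAut.conj s * τ ^ n ∈ L := fun {s} hs n => ⟨_, s, hs, n, rfl, rfl⟩
  have hLE : L ≤ AutExt τ := by
    rintro x ⟨a, s, hs, n, rfl, -⟩
    exact mul_mem (Subgroup.mem_sup_left ⟨s, rfl⟩) (Subgroup.mem_sup_right ⟨n, rfl⟩)
  -- the homomorphism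
  let F : L →* A × ℤˣ := MonoidHom.mk' (fun x => Classical.choose x.2) (fun x y =>
    rel_unique hT hI hpow (Classical.choose_spec (x * y).2)
      (rel_mul hτ hτf (Classical.choose_spec x.2) (Classical.choose_spec y.2)))
  have hF : ∀ (x : L) (a : A × ℤˣ), Rel M f τ x.1 a → F x = a := fun x a h =>
    rel_unique hT hI hpow (Classical.choose_spec x.2) h
  have hFs : Function.Surjective F := by
    rintro ⟨a, b⟩
    obtain ⟨⟨s, hs⟩, rfl⟩ := hf a
    rcases Int.units_eq_one_or b with rfl | rfl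
    · exact ⟨⟨_, memL hs 0⟩, hF _ _ ⟨s, hs, 0, rfl, rfl⟩⟩
    · exact ⟨⟨_, memL hs 1⟩, hF _ _ ⟨s, hs, 1, rfl, by rw [zpow_one]⟩⟩
  -- the index
  set I := (MulAut.conj : S →* MulAut S).range with hIdef
  have hIn : I.Normal := by
    constructor
    rintro _ ⟨s, rfl⟩ φ
    exact ⟨φ s, by rw [conj_mul_conj, mul_inv_cancel_right]⟩
  have hsup : I ⊔ L = AutExt τ := by
    refine le_antisymm (sup_le le_sup_left hLE) (sup_le_sup le_rfl ?_)
    rw [Subgroup.zpowers_le]
    have := memL M.one_mem 1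
    rwa [map_one, one_mul, zpow_one] at this
  have hidx : ¬ 2 ∣ L.relIndex (AutExt τ) := by
    -- `|I ⊔ L : L| = |I : I ⊓ L|`
    have h1 : L.relIndex (AutExt τ) = L.relIndex I := by
      rw [← hsup]
      have e1 : (I ⊓ L).relIndex (I ⊔ L) = (I ⊓ L).relIndex I * I.relIndex (I ⊔ L) :=
        (Subgroup.relIndex_mul_relIndex _ _ _ inf_le_left le_sup_left).symm
      have e2 : (I ⊓ L).relIndex (I ⊔ L) = (I ⊓ L).relIndex L * L.relIndex (I ⊔ L) :=
        (Subgroup.relIndex_mul_relIndex _ _ _ inf_le_right le_sup_right).symm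
      rw [Subgroup.relIndex_sup_left, Subgroup.inf_relIndex_left] at e1
      rw [Subgroup.inf_relIndex_right] at e2
      have h0 : I.relIndex L ≠ 0 := Subgroup.index_ne_zero_of_finite
      have e3 : I.relIndex L * L.relIndex (I ⊔ L) = I.relIndex L * L.relIndex I := by
        rw [← e2, e1, mul_comm]
      exact Nat.eq_of_mul_eq_mul_left (Nat.pos_of_ne_zero h0) e3
    rw [h1]
    intro h2
    have h3 : M.map (MulAut.conj : S →* MulAut S) ≤ L := by
      rintro _ ⟨s, hs, rfl⟩
      have := memL hs 0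
      rwa [zpow_zero, mul_one] at this
    have h4 : L.relIndex I ∣ (M.map (MulAut.conj : S →* MulAut S)).relIndex I :=
      Subgroup.relIndex_dvd_of_le_left I h3
    have h5 : (M.map (MulAut.conj : S →* MulAut S)).relIndex I ∣ M.index := by
      rw [hIdef, MonoidHom.range_eq_map, Subgroup.relIndex_map_map, top_sup_eq, Subgroup.relIndex_top_right]
      exact Subgroup.index_dvd_of_le le_sup_left
    exact hM ((h2.trans h4).trans h5)
  let e : L.subgroupOf (AutExt τ) ≃* L := Subgroup.subgroupOfEquivOfLe hLE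
  refine d3_of_hom (A := A × ℤˣ) ?_ ?_ (L.subgroupOf (AutExt τ)) hidx (F.comp e.toMonoidHom)
    (hFs.comp e.surjective)
  · rintro ⟨a, b⟩
    rw [Prod.pow_mk, hA, Int.units_sq]
    rfl
  · have h2 : Nat.card ℤˣ = 2 := by simp
    rw [Nat.card_prod, h2]
    omega

end ext

end Cfsg.Agent.H581.K547.Direct
end

-- part: H168/K547/D3
section
set_option linter.all false
open scoped Cfsg.Agent.FastGrp

/-!
# S4547: a criterion for `D3` (helper168)

* `rk_three_of`: three independent subgroups of index two;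
* `rk_three`   : `N₁ N₂` of index two in `G`, `Nᵢ` normal, the Sylow 2-subgroups of `G / Nᵢ` not cyclic
  (`Four N`: the image of two elements in `G / N` generates a four group);
* `d3_congr`, `d3_of_conj`: the Sylow 2-subgroups of `G` are conjugate into a subgroup `H` with `D3 H`.
-/

set_option autoImplicit false

namespace Cfsg.Agent.H168.K547

open Cfsg Cfsg.Agent.H821.K547

universe u v

section sg

variable {P : Type u} [Group P]

open Classical in
/-- the additive sign of a subgroup of index two -/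
noncomputable def sg (A : Subgroup P) (x : P) : ZMod 2 := if x ∈ A then 0 else 1

theorem sg_mul {A : Subgroup P} (hA : A.index = 2) (x y : P) : sg A (x * y) = sg A x + sg A y := by
  have h := Subgroup.mul_mem_iff_of_index_two hA (a := x) (b := y)
  unfold sg
  by_cases hx : x ∈ A <;> by_cases hy : y ∈ A
  · rw [if_pos (h.2 ⟨fun _ => hy, fun _ => hx⟩), if_pos hx, if_pos hy, add_zero]
  · rw [if_neg (fun hc => hy ((h.1 hc).1 hx)), if_pos hx, if_neg hy, zero_add]
  · rw [if_neg (fun hc => hx ((h.1 hc).2 hy)), if_neg hx, if_pos hy, add_zero]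
  · rw [if_pos (h.2 ⟨fun hc => absurd hc hx, fun hc => absurd hc hy⟩), if_neg hx, if_neg hy]
    decide

theorem sg_mem {A : Subgroup P} {x : P} (h : x ∈ A) : sg A x = 0 := if_pos h

theorem sg_not_mem {A : Subgroup P} {x : P} (h : x ∉ A) : sg A x = 1 := if_neg h

theorem zcases (t : ZMod 2) : t = 0 ∨ t = 1 := by
  revert t; decide

/-- three independent subgroups of index two -/
theorem rk_three_of (A B C : Subgroup P) (hA : A.index = 2) (hB : B.index = 2) (hC : C.index = 2) {x y z : P}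
    (hx : x ∉ A) (yA : y ∈ A) (yB : y ∉ B) (zA : z ∈ A) (zB : z ∈ B) (zC : z ∉ C) : Rk 3 P := by
  refine ⟨MonoidHom.mk' (fun g => Multiplicative.ofAdd ![sg A g, sg B g, sg C g]) fun a b => ?_, fun t => ?_⟩
  · rw [← ofAdd_add]
    congr 1
    ext i
    fin_cases i
    · exact sg_mul hA a b
    · exact sg_mul hB a b
    · exact sg_mul hC a b
  · obtain ⟨g0, h0⟩ : ∃ g, sg A g = Multiplicative.toAdd t 0 := by
      rcases zcases (Multiplicative.toAdd t 0) with h | h
      · exact ⟨1, by rw [h, sg_mem A.one_mem]⟩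
      · exact ⟨x, by rw [h, sg_not_mem hx]⟩
    obtain ⟨g1, h1, h1'⟩ : ∃ g, sg A g = Multiplicative.toAdd t 0 ∧ sg B g = Multiplicative.toAdd t 1 := by
      by_cases h : sg B g0 = Multiplicative.toAdd t 1
      · exact ⟨g0, h0, h⟩
      · refine ⟨g0 * y, by rw [sg_mul hA, sg_mem yA, add_zero, h0], ?_⟩
        rw [sg_mul hB, sg_not_mem yB]
        generalize sg B g0 = a at *
        generalize Multiplicative.toAdd t 1 = b at *
        revert a b
        decide
    obtain ⟨g2, h2, h2', h2''⟩ : ∃ g, sg A g = Multiplicative.toAdd t 0 ∧ sg B g = Multiplicative.toAdd t 1 ∧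
        sg C g = Multiplicative.toAdd t 2 := by
      by_cases h : sg C g1 = Multiplicative.toAdd t 2
      · exact ⟨g1, h1, h1', h⟩
      · refine ⟨g1 * z, by rw [sg_mul hA, sg_mem zA, add_zero, h1], by rw [sg_mul hB, sg_mem zB, add_zero, h1'], ?_⟩
        rw [sg_mul hC, sg_not_mem zC]
        generalize sg C g1 = a at *
        generalize Multiplicative.toAdd t 2 = b at *
        clear h0 h1 h1'
        revert a b
        decide
    refine ⟨g2, ?_⟩
    rw [MonoidHom.mk'_apply]
    apply Multiplicative.toAdd.injective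
    rw [toAdd_ofAdd]
    ext i
    fin_cases i
    · exact h2
    · exact h2'
    · exact h2''

end sg

/-- the images of two elements in `G / N` generate a four group -/
def Four {G : Type u} [Group G] (N : Subgroup G) : Prop :=
  ∃ a b : G, a * a ∈ N ∧ b * b ∈ N ∧ a * b * a⁻¹ * b⁻¹ ∈ N ∧ a ∉ N ∧ b ∉ N ∧ a * b ∉ N

section rk

variable {G : Type u} [Group G] [Finite G]

/-- the Sylow 2-subgroups of `G / N` are not cyclic -/
theorem Four.not_cyclic {N : Subgroup G} [N.Normal] (h : Four N) (P : Sylow 2 G) (x : G)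
    (hx : (P : Subgroup G) ≤ N ⊔ Subgroup.zpowers x) : False := by
  obtain ⟨a, b, ha, hb, hab, ha1, hb1, hab1⟩ := h
  have hs : Function.Surjective (QuotientGroup.mk' N) := QuotientGroup.mk'_surjective N
  let Q : Sylow 2 (G ⧸ N) := P.mapSurjective hs
  have hQ : (Q : Subgroup (G ⧸ N)) ≤ Subgroup.zpowers (QuotientGroup.mk' N x) := by
    rw [Sylow.coe_mapSurjective]
    refine (Subgroup.map_mono hx).trans ?_
    rw [Subgroup.map_sup, MonoidHom.map_zpowers]
    refine sup_le ?_ le_rfl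
    rw [QuotientGroup.map_mk'_self]
    exact bot_le
  have hQc : IsCyclic (Q : Subgroup (G ⧸ N)) := by
    have h1 : IsCyclic (Subgroup.zpowers (QuotientGroup.mk' N x)) := inferInstance
    exact isCyclic_of_injective (Subgroup.inclusion hQ) (Subgroup.inclusion_injective hQ)
  set α : G ⧸ N := QuotientGroup.mk' N a with hα
  set β : G ⧸ N := QuotientGroup.mk' N b with hβ
  have e : ∀ g : G, QuotientGroup.mk' N g = 1 ↔ g ∈ N := fun g => by
    rw [← MonoidHom.mem_ker, QuotientGroup.ker_mk']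
  have hα2 : α * α = 1 := by rw [hα, ← map_mul]; exact (e _).2 ha
  have hβ2 : β * β = 1 := by rw [hβ, ← map_mul]; exact (e _).2 hb
  have hα1 : α ≠ 1 := fun h => ha1 ((e _).1 h)
  have hβ1 : β ≠ 1 := fun h => hb1 ((e _).1 h)
  have hαβ1 : α * β ≠ 1 := fun h => hab1 ((e _).1 (by rw [map_mul]; exact h))
  have hc : α * β = β * α := by
    have h1 : α * β * α⁻¹ * β⁻¹ = 1 := by
      rw [hα, hβ, ← map_mul, ← map_inv, ← map_mul, ← map_inv, ← map_mul]
      exact (e _).2 hab
    calc α * β = (α * β * α⁻¹ * β⁻¹) * (β * α) := by group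
      _ = β * α := by rw [h1, one_mul]
  -- the four group
  let V : Subgroup (G ⧸ N) :=
    { carrier := {g | g = 1 ∨ g = α ∨ g = β ∨ g = α * β}
      one_mem' := Or.inl rfl
      mul_mem' := by
        rintro g h (rfl | rfl | rfl | rfl) (rfl | rfl | rfl | rfl)
        · left; rw [one_mul]
        · right; left; rw [one_mul]
        · right; right; left; rw [one_mul]
        · right; right; right; rw [one_mul]
        · right; left; rw [mul_one]
        · left; exact hα2
        · right; right; right; rfl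
        · right; right; left; rw [← mul_assoc, hα2, one_mul]
        · right; right; left; rw [mul_one]
        · right; right; right; exact hc.symm
        · left; exact hβ2
        · right; left; rw [hc, ← mul_assoc, hβ2, one_mul]
        · right; right; right; rw [mul_one]
        · right; right; left; rw [hc, mul_assoc, hα2, mul_one]
        · right; left; rw [mul_assoc, hβ2, mul_one]
        · left
          calc α * β * (α * β) = α * β * (β * α) := by rw [hc]
            _ = α * (β * β) * α := by group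
            _ = 1 := by rw [hβ2, mul_one, hα2]
      inv_mem' := by
        have iα : α⁻¹ = α := inv_eq_of_mul_eq_one_left hα2
        have iβ : β⁻¹ = β := inv_eq_of_mul_eq_one_left hβ2
        rintro g (rfl | rfl | rfl | rfl)
        · left; exact inv_one
        · right; left; exact iα
        · right; right; left; exact iβ
        · right; right; right; rw [mul_inv_rev, iα, iβ, hc] }
  have hV : IsPGroup 2 V := by
    intro g
    refine ⟨1, Subtype.ext ?_⟩
    have hg : (g : G ⧸ N) = 1 ∨ (g : G ⧸ N) = α ∨ (g : G ⧸ N) = β ∨ (g : G ⧸ N) = α * β := g.2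
    rw [pow_one, Subgroup.coe_pow, Subgroup.coe_one, pow_two]
    rcases hg with h | h | h | h <;> rw [h]
    · rw [one_mul]
    · exact hα2
    · exact hβ2
    · calc α * β * (α * β) = α * β * (β * α) := by rw [hc]
        _ = α * (β * β) * α := by group
        _ = 1 := by rw [hβ2, mul_one, hα2]
  obtain ⟨R, hR⟩ := hV.exists_le_sylow
  have hRc : IsCyclic (R : Subgroup (G ⧸ N)) := (Sylow.equiv Q R).isCyclic.1 hQc
  classical
  have : Fintype (R : Subgroup (G ⧸ N)) := Fintype.ofFinite _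
  have h3 := IsCyclic.card_pow_eq_one_le (α := (R : Subgroup (G ⧸ N))) (n := 2) two_pos
  have mα : α ∈ (R : Subgroup (G ⧸ N)) := hR (Or.inr (Or.inl rfl))
  have mβ : β ∈ (R : Subgroup (G ⧸ N)) := hR (Or.inr (Or.inr (Or.inl rfl)))
  have h4 : ({1, ⟨α, mα⟩, ⟨β, mβ⟩} : Finset (R : Subgroup (G ⧸ N))) ⊆
      Finset.univ.filter (fun a => a ^ 2 = 1) := by
    intro g hg
    rw [Finset.mem_filter]
    refine ⟨Finset.mem_univ _, Subtype.ext ?_⟩
    simp only [Finset.mem_insert, Finset.mem_singleton] at hg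
    rw [Subgroup.coe_pow, pow_two]
    rcases hg with rfl | rfl | rfl
    · exact one_mul 1
    · exact hα2
    · exact hβ2
  have h5 := Finset.card_le_card h4
  have h6 : ({1, ⟨α, mα⟩, ⟨β, mβ⟩} : Finset (R : Subgroup (G ⧸ N))).card = 3 := by
    rw [Finset.card_eq_three]
    refine ⟨1, ⟨α, mα⟩, ⟨β, mβ⟩, fun h => hα1 (congrArg Subtype.val h).symm,
      fun h => hβ1 (congrArg Subtype.val h).symm, fun h => hαβ1 ?_, rfl⟩
    have : α = β := congrArg Subtype.val h
    rw [← this, hα2]
  omega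

/-- one of the two subgroups of index two -/
theorem exists_index_two {N M : Subgroup G} [N.Normal] (h : Four N) (P : Sylow 2 G)
    (hM : (M.subgroupOf P).index = 2) :
    ∃ B : Subgroup (P : Subgroup G), B.index = 2 ∧ N.subgroupOf P ≤ B ∧ B ≠ M.subgroupOf P := by
  obtain ⟨x, hx⟩ : ∃ x : (P : Subgroup G), x ∉ M.subgroupOf (P : Subgroup G) := by
    by_contra hc
    push Not at hc
    have : M.subgroupOf (P : Subgroup G) = ⊤ := Subgroup.eq_top_iff' _ |>.2 hc
    rw [this, Subgroup.index_top] at hM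
    exact absurd hM (by norm_num)
  have hne : N.subgroupOf (P : Subgroup G) ⊔ Subgroup.zpowers x ≠ ⊤ := by
    intro htop
    refine h.not_cyclic P (x : G) ?_
    intro g hg
    have h1 : (⟨g, hg⟩ : (P : Subgroup G)) ∈ N.subgroupOf (P : Subgroup G) ⊔ Subgroup.zpowers x := by
      rw [htop]; exact Subgroup.mem_top _
    rw [Subgroup.mem_sup_of_normal_left] at h1
    obtain ⟨n, hn, y, hy, e⟩ := h1
    rw [Subgroup.mem_subgroupOf] at hn
    obtain ⟨k, hk⟩ := Subgroup.mem_zpowers_iff.1 hy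
    have e2 : g = (n : G) * (x : G) ^ k := by
      have := congrArg Subtype.val e
      rw [← hk] at this
      simpa using this.symm
    rw [e2]
    exact Subgroup.mul_mem_sup hn (Subgroup.zpow_mem_zpowers _ _)
  obtain ⟨B, hB, hle⟩ := (eq_top_or_exists_le_coatom _).resolve_left hne
  refine ⟨B, Cfsg.Agent.Lib.FrattiniPGroup.index_of_coatom P.isPGroup' hB, le_sup_left.trans hle, ?_⟩
  rintro rfl
  exact hx (hle (Subgroup.mem_sup_right (Subgroup.mem_zpowers x)))

/-- `N₁ N₂` of index two, Sylow 2-subgroups of `G / Nᵢ` not cyclic: three generators -/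
theorem rk_three (N₁ N₂ : Subgroup G) [N₁.Normal] [N₂.Normal] (h2 : (N₁ ⊔ N₂).index = 2) (h₁ : Four N₁)
    (h₂ : Four N₂) (P : Sylow 2 G) : Rk 3 (P : Subgroup G) := by
  have hA : ((N₁ ⊔ N₂).subgroupOf (P : Subgroup G)).index = 2 := by
    have h3 : ((N₁ ⊔ N₂).subgroupOf (P : Subgroup G)).index ∣ 2 :=
      (Subgroup.relIndex_dvd_index_of_normal (N₁ ⊔ N₂) (P : Subgroup G)).trans (dvd_of_eq h2)
    rcases (Nat.dvd_prime Nat.prime_two).1 h3 with h4 | h4
    · exfalso
      have h5 : (P : Subgroup G) ≤ N₁ ⊔ N₂ := Subgroup.relIndex_eq_one.1 h4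
      have h6 : (N₁ ⊔ N₂).index ∣ (P : Subgroup G).index := Subgroup.index_dvd_of_le h5
      have h6 : 2 ∣ (P : Subgroup G).index := (dvd_of_eq h2.symm).trans h6
      exact P.not_dvd_index h6
    · exact h4
  obtain ⟨B, hB, hB2, hBA⟩ := exists_index_two h₂ P hA
  obtain ⟨C, hC, hC1, hCA⟩ := exists_index_two h₁ P hA
  -- `P ∩ N₁ N₂` is generated by the two intersections
  have hsup : ∀ D : Subgroup (P : Subgroup G), N₁.subgroupOf (P : Subgroup G) ≤ D →
      N₂.subgroupOf (P : Subgroup G) ≤ D → (N₁ ⊔ N₂).subgroupOf (P : Subgroup G) ≤ D := by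
    intro D h1 h2 g hg
    rw [Subgroup.mem_subgroupOf] at hg
    have h3 : (g : G) ∈ ((P : Subgroup G) ⊓ N₁) ⊔ ((P : Subgroup G) ⊓ N₂) :=
      Cfsg.Agent.QTUniq.SylowSup.inf_sup_le P N₁ N₂ ⟨g.2, hg⟩
    have h4 : ((P : Subgroup G) ⊓ N₁) ⊔ ((P : Subgroup G) ⊓ N₂) ≤ D.map (P : Subgroup G).subtype := by
      refine sup_le ?_ ?_
      · rintro y ⟨hy, hy'⟩
        exact ⟨⟨y, hy⟩, h1 hy', rfl⟩
      · rintro y ⟨hy, hy'⟩
        exact ⟨⟨y, hy⟩, h2 hy', rfl⟩
    obtain ⟨y, hy, e⟩ := h4 h3
    have : y = g := Subtype.ext e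
    rwa [← this]
  have hne : ∀ D : Subgroup (P : Subgroup G), D.index = 2 → D ≠ (N₁ ⊔ N₂).subgroupOf (P : Subgroup G) →
      ¬ (N₁ ⊔ N₂).subgroupOf (P : Subgroup G) ≤ D := by
    intro D h1 h2 h3
    apply h2
    refine (Subgroup.eq_of_le_of_card_ge h3 ?_).symm
    have h4 := D.card_mul_index
    have h5 := ((N₁ ⊔ N₂).subgroupOf (P : Subgroup G)).card_mul_index
    rw [h1] at h4
    rw [hA] at h5
    omega
  obtain ⟨x, hx⟩ : ∃ x : (P : Subgroup G), x ∉ (N₁ ⊔ N₂).subgroupOf (P : Subgroup G) := by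
    by_contra hc
    push Not at hc
    have : (N₁ ⊔ N₂).subgroupOf (P : Subgroup G) = ⊤ := Subgroup.eq_top_iff' _ |>.2 hc
    rw [this, Subgroup.index_top] at hA
    exact absurd hA (by norm_num)
  obtain ⟨y, hy1, hyB⟩ : ∃ y ∈ N₁.subgroupOf (P : Subgroup G), y ∉ B := by
    by_contra hc
    push Not at hc
    exact hne B hB hBA (hsup B hc hB2)
  obtain ⟨z, hz2, hzC⟩ : ∃ z ∈ N₂.subgroupOf (P : Subgroup G), z ∉ C := by
    by_contra hc
    push Not at hc
    exact hne C hC hCA (hsup C hC1 hc)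
  exact rk_three_of _ B C hA hB hC hx (Subgroup.mem_subgroupOf.2 (Subgroup.mem_sup_left hy1)) hyB
    (Subgroup.mem_subgroupOf.2 (Subgroup.mem_sup_right hz2)) (hB2 hz2) hzC

/-- the same for all Sylow subgroups -/
theorem d3_of_two (N₁ N₂ : Subgroup G) [N₁.Normal] [N₂.Normal] (h2 : (N₁ ⊔ N₂).index = 2) (h₁ : Four N₁)
    (h₂ : Four N₂) : D3 G := fun P => rk_three N₁ N₂ h2 h₁ h₂ P

end rk

theorem rk_congr {n : ℕ} {P : Type u} {Q : Type v} [Group P] [Group Q] (e : P ≃* Q) (h : Rk n P) : Rk n Q := by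
  obtain ⟨f, hf⟩ := h
  exact ⟨f.comp e.symm.toMonoidHom, hf.comp e.symm.surjective⟩

/-- isomorphic groups, any universes -/
theorem d3_congr {G : Type u} {H : Type v} [Group G] [Group H] (e : G ≃* H) (h : D3 G) : D3 H := by
  intro Q
  have h1 := h (Q.comapOfInjective e.toMonoidHom e.injective (by rw [MonoidHom.range_eq_top.2 e.surjective]; exact le_top))
  refine rk_congr (MulEquiv.ofBijective ((e.toMonoidHom.subgroupComap (Q : Subgroup H))) ⟨?_, ?_⟩) h1
  · intro x y hxy
    exact Subtype.ext (e.injective (congrArg Subtype.val hxy))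
  · intro y
    refine ⟨⟨e.symm y, ?_⟩, Subtype.ext (e.apply_symm_apply _)⟩
    show e (e.symm y) ∈ (Q : Subgroup H)
    rw [e.apply_symm_apply]
    exact y.2

/-- every Sylow 2-subgroup is conjugate into `H` -/
theorem d3_of_conj {G : Type u} [Group G] [Finite G] (H : Subgroup G) (h : D3 H)
    (hc : ∀ Q : Sylow 2 G, ∃ x : G, ∀ g ∈ (Q : Subgroup G), x * g * x⁻¹ ∈ H) : D3 G := by
  intro Q
  obtain ⟨x, hx⟩ := hc Q
  have hle : ((x • Q : Sylow 2 G) : Subgroup G) ≤ H := by
    intro g hg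
    rw [Sylow.coe_subgroup_smul, Subgroup.mem_smul_pointwise_iff_exists] at hg
    obtain ⟨y, hy, rfl⟩ := hg
    exact hx y hy
  have h1 := h ((x • Q : Sylow 2 G).subtype hle)
  refine rk_congr ?_ h1
  refine (Subgroup.subgroupOfEquivOfLe hle).trans ?_
  exact Sylow.equiv _ _

end Cfsg.Agent.H168.K547
end

-- part: H829/K547/Main
section
prune_inst 0x80000000000000c010000
set_option linter.all false
open scoped Cfsg.Agent.FastGrp

-- part: H829/K547/Abs
section
/-!
# S4547, QO-EXT-PO: outer 2-automorphisms and subgroups of odd index of the automorphism group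

* `exists_conj_mem` : `H ≤ Aut S` of odd index and `τ` of 2-power order modulo inner automorphisms: some
  `conj s * (g τ g⁻¹)` is in `H`;
* `relIndex_dvd_of_normal` : `|K : H ∩ K|` divides `|G : H|` for `K` normal.
-/

set_option autoImplicit false

namespace Cfsg.Agent.H829.K547

open Cfsg.Agent.H821.K547 Subgroup

universe u v

theorem relIndex_dvd_of_normal {G : Type u} [Group G] [Finite G] (H K : Subgroup G) [K.Normal] :
    H.relIndex K ∣ H.index := by
  have h1 : K.relIndex (H ⊔ K) = K.relIndex H := Subgroup.relIndex_sup_right H K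
  have h2 : H.relIndex (H ⊔ K) ∣ H.index := by
    rw [← Subgroup.relIndex_mul_index (le_sup_left : H ≤ H ⊔ K)]
    exact Dvd.intro _ rfl
  have e1 : Nat.card ↥(H ⊓ K) * H.relIndex K = Nat.card ↥K := by
    have := Subgroup.card_mul_index (H.subgroupOf K)
    rw [← this]
    congr 1
    rw [← Subgroup.inf_subgroupOf_right]
    exact (Nat.card_congr (Subgroup.subgroupOfEquivOfLe inf_le_right).toEquiv).symm
  have e2 : Nat.card ↥(H ⊓ K) * K.relIndex H = Nat.card ↥H := by
    have := Subgroup.card_mul_index (K.subgroupOf H)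
    rw [← this]
    congr 1
    rw [← Subgroup.inf_subgroupOf_left]
    exact (Nat.card_congr (Subgroup.subgroupOfEquivOfLe inf_le_left).toEquiv).symm
  have e3 : Nat.card ↥K * K.relIndex (H ⊔ K) = Nat.card ↥(H ⊔ K) := by
    have := Subgroup.card_mul_index (K.subgroupOf (H ⊔ K))
    rw [← this]
    congr 1
    exact (Nat.card_congr (Subgroup.subgroupOfEquivOfLe le_sup_right).toEquiv).symm
  have e4 : Nat.card ↥H * H.relIndex (H ⊔ K) = Nat.card ↥(H ⊔ K) := by
    have := Subgroup.card_mul_index (H.subgroupOf (H ⊔ K))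
    rw [← this]
    congr 1
    exact (Nat.card_congr (Subgroup.subgroupOfEquivOfLe le_sup_left).toEquiv).symm
  have hH : 0 < Nat.card ↥H := Nat.card_pos
  have hI : 0 < Nat.card ↥(H ⊓ K) := Nat.card_pos
  have : H.relIndex K = H.relIndex (H ⊔ K) := by
    have h3 : (Nat.card ↥(H ⊓ K) * Nat.card ↥H) * H.relIndex K =
        (Nat.card ↥(H ⊓ K) * Nat.card ↥H) * H.relIndex (H ⊔ K) := by
      calc (Nat.card ↥(H ⊓ K) * Nat.card ↥H) * H.relIndex K
          = Nat.card ↥H * (Nat.card ↥(H ⊓ K) * H.relIndex K) := by ring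
        _ = Nat.card ↥H * Nat.card ↥K := by rw [e1]
        _ = (Nat.card ↥(H ⊓ K) * K.relIndex H) * Nat.card ↥K := by rw [e2]
        _ = Nat.card ↥(H ⊓ K) * (Nat.card ↥K * K.relIndex (H ⊔ K)) := by rw [h1]; ring
        _ = Nat.card ↥(H ⊓ K) * (Nat.card ↥H * H.relIndex (H ⊔ K)) := by rw [e3, e4]
        _ = _ := by ring
    exact Nat.eq_of_mul_eq_mul_left (Nat.mul_pos hI hH) h3
  rw [this]
  exact h2

variable {S : Type u} [Group S]

theorem conj_range_normal : (MulAut.conj : S →* MulAut S).range.Normal := by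
  refine ⟨?_⟩
  rintro _ ⟨s, rfl⟩ g
  refine ⟨g s, ?_⟩
  ext x
  change g s * x * (g s)⁻¹ = g (s * (g⁻¹ x) * s⁻¹)
  rw [map_mul, map_mul, map_inv]
  congr 2
  exact (g.apply_symm_apply x).symm

/-- `M = {s | conj s ∈ H}` has odd index if `H` has -/
theorem odd_index_comap [Finite S] {H : Subgroup (MulAut S)} (hH : Odd H.index) :
    Odd (H.comap (MulAut.conj : S →* MulAut S)).index := by
  have := conj_range_normal (S := S)
  have : Finite (MulAut S) := Finite.of_injective (fun e : MulAut S => (e : S → S)) DFunLike.coe_injective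
  rw [Subgroup.index_comap]
  exact Odd.of_dvd_nat hH (relIndex_dvd_of_normal _ _)

theorem exists_conj_mem [Finite S] {τ : MulAut S} (hτ : TwoPow τ) {H : Subgroup (MulAut S)} (hH : Odd H.index) :
    ∃ (g : MulAut S) (s : S), MulAut.conj s * (g * τ * g⁻¹) ∈ H := by
  have hfin : Finite (MulAut S) := Finite.of_injective (fun e : MulAut S => (e : S → S)) DFunLike.coe_injective
  obtain ⟨k, s0, hk⟩ := hτ
  -- order of `τ` : `2 ^ a * b`
  have hn : orderOf τ ≠ 0 := (orderOf_pos τ).ne'
  obtain ⟨a, b, hb, hab⟩ := Nat.exists_eq_two_pow_mul_odd hn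
  -- exponent
  have hcop : Nat.Coprime (2 ^ k) b := (Nat.coprime_two_left.2 hb).pow_left k
  obtain ⟨e, he1, he2⟩ := Nat.chineseRemainder hcop 1 0
  obtain ⟨j, hj⟩ : ∃ j : ℤ, (e : ℤ) = 1 + 2 ^ k * j := by
    have : (e : ℤ) ≡ 1 [ZMOD (2 ^ k : ℕ)] := by exact_mod_cast (Int.natCast_modEq_iff.2 he1)
    obtain ⟨j, hj⟩ := this.symm.dvd
    exact ⟨j, by push_cast at hj; linarith⟩
  have hconj : τ ^ 2 ^ k = MulAut.conj s0 := by
    ext x
    rw [hk x]
    rfl
  set τ' := τ ^ e with hτ'
  have e1 : τ' = MulAut.conj (s0 ^ j) * τ := by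
    have : τ' = τ ^ (1 + 2 ^ k * j : ℤ) := by rw [← hj, zpow_natCast]
    rw [this, add_comm, zpow_add, zpow_one, zpow_mul]
    congr 1
    have h2 : (τ : MulAut S) ^ (2 ^ k : ℤ) = τ ^ 2 ^ k := by exact_mod_cast zpow_natCast τ (2 ^ k)
    rw [h2, hconj, map_zpow]
  have h2 : ∃ c, orderOf τ' = 2 ^ c := by
    have hdvd : orderOf τ' ∣ 2 ^ a := by
      rw [orderOf_dvd_iff_pow_eq_one, hτ', ← pow_mul]
      obtain ⟨t, ht⟩ := (Nat.modEq_zero_iff_dvd.1 he2)
      rw [ht]
      have : b * t * 2 ^ a = orderOf τ * t := by rw [hab]; ring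
      rw [this, pow_mul, pow_orderOf_eq_one, one_pow]
    obtain ⟨c, -, hc⟩ := (Nat.dvd_prime_pow Nat.prime_two).1 hdvd
    exact ⟨c, hc⟩
  obtain ⟨c, hc⟩ := h2
  have hP : IsPGroup 2 ↥(zpowers τ') := IsPGroup.of_card (n := c) (by rw [Nat.card_zpowers, hc])
  have hne : ¬ 2 ∣ Nat.card (MulAut S ⧸ H) := by
    change ¬ 2 ∣ H.index
    exact hH.not_two_dvd_nat
  obtain ⟨x, hx⟩ := hP.nonempty_fixed_point_of_prime_not_dvd_card (MulAut S ⧸ H) hne
  obtain ⟨g, rfl⟩ := QuotientGroup.mk_surjective x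
  have h3 : (⟨τ', mem_zpowers τ'⟩ : ↥(zpowers τ')) • (QuotientGroup.mk g : MulAut S ⧸ H) = QuotientGroup.mk g :=
    hx ⟨τ', mem_zpowers τ'⟩
  have h4 : (QuotientGroup.mk (τ' * g) : MulAut S ⧸ H) = QuotientGroup.mk g := h3
  rw [eq_comm, QuotientGroup.eq] at h4
  refine ⟨g⁻¹, g⁻¹ (s0 ^ j), ?_⟩
  have h5 : MulAut.conj (g⁻¹ (s0 ^ j)) = g⁻¹ * MulAut.conj (s0 ^ j) * g := by
    ext x
    change g⁻¹ (s0 ^ j) * x * (g⁻¹ (s0 ^ j))⁻¹ = g⁻¹ (s0 ^ j * (g x) * (s0 ^ j)⁻¹)
    rw [map_mul, map_mul, map_inv]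
    congr 2
    exact (g.symm_apply_apply x).symm
  have h6 : MulAut.conj (g⁻¹ (s0 ^ j)) * (g⁻¹ * τ * g⁻¹⁻¹) = g⁻¹ * (τ' * g) := by
    rw [h5, e1]
    group
  rw [h6]
  exact h4

end Cfsg.Agent.H829.K547
end

-- part: H829/K547/Frame
section
/-!
# Frames of isometric blocks in a quadratic space

`V = (Fin m → U) × W` with the form `∑ p (v i) + w y`.
`Fr` = the permutations of `V` which permute the blocks `A i`; `ph : Fr → Sym(m)`.
-/

set_option autoImplicit false

namespace Cfsg.Agent.H829.K547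

open QuadraticMap Cfsg.Agent.LieClassical.OrthCore Cfsg.Agent.LieClassical.OrthTrans
  Cfsg.Agent.LieClassical.OrthSimple Cfsg.Agent.ClassicalGeometry.OrthSemi
  Cfsg.Agent.ClassicalGeometry.OrthSemiCount

variable {F U W : Type*} [Field F] [AddCommGroup U] [Module F U] [AddCommGroup W] [Module F W] {m : ℕ}

theorem pinv {α : Type*} (g : Equiv.Perm α) (x : α) : g (g⁻¹ x) = x := g.apply_symm_apply x

/-- the form `∑ p (v i) + w y` -/
def QM (p : QuadraticForm F U) (w : QuadraticForm F W) (m : ℕ) : QuadraticForm F ((Fin m → U) × W) :=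
  (QuadraticMap.pi fun _ : Fin m => p).prod w

variable {p : QuadraticForm F U} {w : QuadraticForm F W}

theorem QM_apply (v : (Fin m → U) × W) : QM p w m v = ∑ i, p (v.1 i) + w v.2 := by
  rw [QM, QuadraticMap.prod_apply, QuadraticMap.pi_apply]

theorem polar_QM (u v : (Fin m → U) × W) :
    polar (QM p w m) u v = ∑ i, polar p (u.1 i) (v.1 i) + polar w u.2 v.2 := by
  simp only [polar, QM_apply, Prod.fst_add, Prod.snd_add, Pi.add_apply, Finset.sum_sub_distrib]
  ring

/-- the blocks -/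
def A (U W : Type*) [AddCommGroup U] [AddCommGroup W] (m : ℕ) (i : Fin m) : Set ((Fin m → U) × W) :=
  {v | v.2 = 0 ∧ ∀ j, j ≠ i → v.1 j = 0}

theorem single_mem (i : Fin m) (x : U) : ((Pi.single i x, 0) : (Fin m → U) × W) ∈ A U W m i :=
  ⟨rfl, fun j hj => by simp [hj]⟩

/-- the permutations of `V` which permute the blocks -/
def Fr (U W : Type*) [AddCommGroup U] [AddCommGroup W] (m : ℕ) : Subgroup (Equiv.Perm ((Fin m → U) × W)) where
  carrier := {g | ∃ π : Equiv.Perm (Fin m), ∀ i v, g v ∈ A U W m (π i) ↔ v ∈ A U W m i}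
  mul_mem' := by
    rintro g h ⟨π, hπ⟩ ⟨ρ, hρ⟩
    exact ⟨π * ρ, fun i v => by
      change g (h v) ∈ A U W m (π (ρ i)) ↔ _
      rw [hπ, hρ]⟩
  one_mem' := ⟨1, fun _ _ => Iff.rfl⟩
  inv_mem' := by
    rintro g ⟨π, hπ⟩
    refine ⟨π⁻¹, fun i v => ?_⟩
    have := hπ (π⁻¹ i) (g⁻¹ v)
    rw [pinv, pinv] at this
    exact this.symm

theorem perm_unique [Nontrivial U] {g : Equiv.Perm ((Fin m → U) × W)} {π ρ : Equiv.Perm (Fin m)}
    (hπ : ∀ i v, g v ∈ A U W m (π i) ↔ v ∈ A U W m i) (hρ : ∀ i v, g v ∈ A U W m (ρ i) ↔ v ∈ A U W m i) : π = ρ := by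
  obtain ⟨x, hx⟩ := exists_ne (0 : U)
  ext i
  by_contra hne
  have hne' : π i ≠ ρ i := fun h => hne (by rw [h])
  set u : (Fin m → U) × W := (Pi.single (π i) x, 0) with hu
  have h1 : g⁻¹ u ∈ A U W m i := by
    rw [← hπ i, pinv]
    exact single_mem _ _
  have h2 : u ∈ A U W m (ρ i) := by
    rw [← hρ i, pinv] at h1
    exact h1
  have h3 := h2.2 (π i) hne'
  rw [hu] at h3
  simp at h3
  exact hx h3

/-- the permutation of the blocks -/
noncomputable def ph (U W : Type*) [AddCommGroup U] [AddCommGroup W] [Nontrivial U] (m : ℕ) :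
    ↥(Fr U W m) →* Equiv.Perm (Fin m) where
  toFun g := g.2.choose
  map_one' := perm_unique (g := 1) (1 : ↥(Fr U W m)).2.choose_spec (fun _ _ => Iff.rfl)
  map_mul' g h := by
    refine perm_unique (g := (g * h : ↥(Fr U W m)).1) (g * h).2.choose_spec fun i v => ?_
    change g.1 (h.1 v) ∈ A U W m (g.2.choose (h.2.choose i)) ↔ _
    rw [g.2.choose_spec, h.2.choose_spec]

theorem ph_spec [Nontrivial U] (g : ↥(Fr U W m)) (i : Fin m) (v : (Fin m → U) × W) :
    g.1 v ∈ A U W m (ph U W m g i) ↔ v ∈ A U W m i := g.2.choose_spec i v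

/-- the rest `W` is orthogonal to the blocks -/
theorem fst_eq_zero_iff (hp : Nondeg p) {v : (Fin m → U) × W} :
    v.1 = 0 ↔ ∀ i, ∀ u ∈ A U W m i, polar (QM p w m) v u = 0 := by
  constructor
  · intro h i u hu
    rw [polar_QM, hu.1, h]
    simp
  · intro h
    funext i
    refine hp _ fun x => ?_
    have := h i _ (single_mem i x)
    rw [polar_QM, Finset.sum_eq_single i] at this
    · simpa using this
    · intro j _ hj
      simp [hj]
    · intro hi
      exact absurd (Finset.mem_univ i) hi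

theorem fst_eq_zero_of_mem (hp : Nondeg p) {σ : F ≃+* F} {c : F} {g : Equiv.Perm ((Fin m → U) × W)}
    (hg : IsSS (QM p w m) σ c g) (hF : g ∈ Fr U W m) {v : (Fin m → U) × W} (hv : v.1 = 0) : (g v).1 = 0 := by
  obtain ⟨π, hπ⟩ := hF
  rw [fst_eq_zero_iff (w := w) hp]
  intro i u hu
  have h1 : g⁻¹ u ∈ A U W m (π⁻¹ i) := by
    rw [← hπ, pinv, pinv]
    exact hu
  have h2 := (fst_eq_zero_iff (w := w) hp).1 hv _ _ h1
  have h3 := hg.polar v (g⁻¹ u)
  rw [pinv, h2, map_zero, mul_zero] at h3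
  exact h3

/-- linear maps as permutations -/
def tp (V : Type*) [AddCommGroup V] [Module F V] : (V ≃ₗ[F] V) →* Equiv.Perm V where
  toFun g := g.toEquiv
  map_one' := rfl
  map_mul' _ _ := rfl

/-- the isometries which permute the blocks -/
def TO (p : QuadraticForm F U) (w : QuadraticForm F W) (m : ℕ) :
    Subgroup (((Fin m → U) × W) ≃ₗ[F] ((Fin m → U) × W)) :=
  O (QM p w m) ⊓ (Fr U W m).comap (tp ((Fin m → U) × W))

theorem isSS_of_mem_O {V : Type*} [AddCommGroup V] [Module F V] {Q : QuadraticForm F V} {g : V ≃ₗ[F] V}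
    (hg : g ∈ O Q) : IsSS Q (RingEquiv.refl F) 1 (tp V g) := isSS_permO ⟨g, hg⟩

/-- the permutation of the blocks -/
noncomputable def phO (p : QuadraticForm F U) (w : QuadraticForm F W) (m : ℕ) [Nontrivial U] :
    ↥(TO p w m) →* Equiv.Perm (Fin m) :=
  (ph U W m).comp
    { toFun := fun g => ⟨tp _ g.1, g.2.2⟩
      map_one' := rfl
      map_mul' := fun _ _ => rfl }

theorem phO_spec [Nontrivial U] (g : ↥(TO p w m)) (i : Fin m) (v : (Fin m → U) × W) :
    g.1 v ∈ A U W m (phO p w m g i) ↔ v ∈ A U W m i := ph_spec ⟨tp _ g.1, g.2.2⟩ i v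

theorem phO_eq [Nontrivial U] {g : ↥(TO p w m)} {π : Equiv.Perm (Fin m)}
    (h : ∀ i v, g.1 v ∈ A U W m (π i) ↔ v ∈ A U W m i) : phO p w m g = π :=
  perm_unique (g := tp _ g.1) (phO_spec g) h

/-- the action on the rest -/
def Lw (g : ((Fin m → U) × W) ≃ₗ[F] ((Fin m → U) × W)) : W →ₗ[F] W :=
  (LinearMap.snd F (Fin m → U) W).comp (g.toLinearMap.comp (LinearMap.inr F (Fin m → U) W))

theorem Lw_apply (g : ((Fin m → U) × W) ≃ₗ[F] ((Fin m → U) × W)) (y : W) : Lw g y = (g (0, y)).2 := rfl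

theorem Lw_spec (hp : Nondeg p) {g : ((Fin m → U) × W) ≃ₗ[F] ((Fin m → U) × W)} (hg : g ∈ TO p w m) (y : W) :
    g (0, y) = (0, Lw g y) :=
  Prod.ext (fst_eq_zero_of_mem (w := w) hp (isSS_of_mem_O hg.1) hg.2 rfl) rfl

theorem Lw_mul (hp : Nondeg p) (g : ((Fin m → U) × W) ≃ₗ[F] ((Fin m → U) × W))
    {h : ((Fin m → U) × W) ≃ₗ[F] ((Fin m → U) × W)} (hh : h ∈ TO p w m) : Lw (g * h) = Lw g * Lw h := by
  ext y
  change (g (h (0, y))).2 = (g (0, Lw h y)).2
  rw [Lw_spec (w := w) hp hh]

theorem Lw_one : Lw (1 : ((Fin m → U) × W) ≃ₗ[F] ((Fin m → U) × W)) = 1 := rfl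

theorem Lw_form (hp : Nondeg p) {g : ((Fin m → U) × W) ≃ₗ[F] ((Fin m → U) × W)} (hg : g ∈ TO p w m) (y : W) :
    w (Lw g y) = w y := by
  have h1 := hg.1 (0, y)
  rw [Lw_spec (w := w) hp hg, QM_apply, QM_apply] at h1
  simpa using h1

/-- the determinant on the rest -/
noncomputable def dw (hp : Nondeg p) : ↥(TO p w m) →* F where
  toFun g := LinearMap.det (Lw g.1)
  map_one' := by
    rw [OneMemClass.coe_one, Lw_one, map_one]
  map_mul' g h := by
    rw [Subgroup.coe_mul, Lw_mul (w := w) hp g.1 h.2, map_mul]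

theorem dw_apply (hp : Nondeg p) (g : ↥(TO p w m)) : dw hp g = LinearMap.det (Lw g.1) := rfl

end Cfsg.Agent.H829.K547
end

-- part: H829/K547/Equi
section
/-!
# Semisimilitudes act on the group of the frame

`det_semi` (determinant under semilinear conjugation), `det_sq`, `conj_mem_TO`, `phO_conj`, `dw_conj`, `dw_sq`.
-/

set_option autoImplicit false

namespace Cfsg.Agent.H829.K547

open QuadraticMap Cfsg.Agent.LieClassical.OrthCore Cfsg.Agent.LieClassical.OrthTrans
  Cfsg.Agent.LieClassical.OrthSimple Cfsg.Agent.ClassicalGeometry.OrthSemi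
  Cfsg.Agent.ClassicalGeometry.OrthSemiCount

section Det

variable {F κ : Type*} [Field F] [Fintype κ] [DecidableEq κ]

theorem det_semi (σ : F ≃+* F) (t : (κ → F) → (κ → F)) (hadd : ∀ u v, t (u + v) = t u + t v)
    (hsmul : ∀ (a : F) v, t (a • v) = σ a • t v) (hinj : ∀ v, t v = 0 → v = 0)
    (L L' : (κ → F) →ₗ[F] (κ → F)) (h : ∀ v, L' (t v) = t (L v)) :
    LinearMap.det L' = σ (LinearMap.det L) := by
  classical
  set T : Matrix κ κ F := Matrix.of fun i j => t (Pi.single j 1) i with hT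
  have ht0 : t 0 = 0 := by
    have := hadd 0 0
    rw [add_zero] at this
    exact left_eq_add.1 this
  have hsum : ∀ (s : Finset κ) (f : κ → κ → F), t (∑ j ∈ s, f j) = ∑ j ∈ s, t (f j) := by
    intro s f
    induction s using Finset.induction_on with
    | empty => simpa using ht0
    | insert a s ha ih => rw [Finset.sum_insert ha, hadd, ih, Finset.sum_insert ha]
  have htv : ∀ v, t v = T.mulVec (fun j => σ (v j)) := by
    intro v
    have e : v = ∑ j, v j • (Pi.single j 1 : κ → F) := by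
      funext i
      simp [Finset.sum_apply, Pi.single_apply]
    conv_lhs => rw [e]
    rw [hsum]
    funext i
    rw [Finset.sum_apply, Matrix.mulVec, dotProduct]
    refine Finset.sum_congr rfl fun j _ => ?_
    rw [hsmul, Pi.smul_apply, smul_eq_mul, hT, Matrix.of_apply, mul_comm]
  have hdet : T.det ≠ 0 := by
    intro h0
    obtain ⟨x, hx0, hx⟩ := Matrix.exists_mulVec_eq_zero_iff.2 h0
    apply hx0
    have e : x = fun j => σ (σ.symm (x j)) := by funext j; simp
    have h1 : t (fun j => σ.symm (x j)) = 0 := by rw [htv]; rw [← e]; exact hx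
    have h2 := hinj _ h1
    funext j
    have h3 := congrFun h2 j
    simpa using h3
  have hmul : LinearMap.toMatrix' L' * T = T * (LinearMap.toMatrix' L).map σ := by
    ext i j
    have h1 : (LinearMap.toMatrix' L' * T) i j = L' (t (Pi.single j 1)) i := by
      rw [← LinearMap.toMatrix'_mulVec L', Matrix.mul_apply, Matrix.mulVec, dotProduct]
      rfl
    have h2 : (T * (LinearMap.toMatrix' L).map σ) i j = t (L (Pi.single j 1)) i := by
      rw [htv, Matrix.mul_apply, Matrix.mulVec, dotProduct]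
      refine Finset.sum_congr rfl fun k _ => ?_
      rw [Matrix.map_apply, LinearMap.toMatrix'_apply]
    rw [h1, h2, h]
  have h3 := congrArg Matrix.det hmul
  rw [Matrix.det_mul, Matrix.det_mul, LinearMap.det_toMatrix'] at h3
  have h4 : ((LinearMap.toMatrix' L).map σ).det = σ (LinearMap.det L) := by
    rw [← LinearMap.det_toMatrix' L]
    exact (RingHom.map_det (σ : F →+* F) _).symm
  rw [h4, mul_comm] at h3
  exact mul_left_cancel₀ hdet h3

theorem det_sq {W : Type*} [AddCommGroup W] [Module F W] [FiniteDimensional F W] {w : QuadraticForm F W}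
    (hw : Nondeg w) (L : W →ₗ[F] W) (hL : ∀ y, w (L y) = w y) : LinearMap.det L ^ 2 = 1 := by
  let b := Module.finBasis F W
  have h1 : (polarBilin w).compl₁₂ L L = polarBilin w := by
    ext x y
    change polar w (L x) (L y) = polar w x y
    simp only [polar, ← map_add, hL]
  have h3 : (LinearMap.BilinForm.toMatrix b (polarBilin w)).det ≠ 0 := by
    rw [← LinearMap.BilinForm.nondegenerate_iff_det_ne_zero]
    constructor
    · exact hw
    · intro y hy
      exact hw y fun x => by rw [polar_comm]; exact hy x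
  have h4 : LinearMap.BilinForm.toMatrix b ((polarBilin w).compl₁₂ L L) =
      (LinearMap.toMatrix b b L).transpose * LinearMap.BilinForm.toMatrix b (polarBilin w) *
        LinearMap.toMatrix b b L :=
    LinearMap.BilinForm.toMatrix_comp b b _ _ _
  rw [h1] at h4
  have h5 := congrArg Matrix.det h4
  rw [Matrix.det_mul, Matrix.det_mul, Matrix.det_transpose, LinearMap.det_toMatrix] at h5
  apply mul_right_cancel₀ h3
  rw [one_mul]
  nth_rewrite 2 [h5]
  ring

end Det

variable {F U W : Type*} [Field F] [AddCommGroup U] [Module F U] [AddCommGroup W] [Module F W] {m : ℕ}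
  {p : QuadraticForm F U} {w : QuadraticForm F W}

theorem dw_sq [FiniteDimensional F W] (hp : Nondeg p) (hw : Nondeg w) (g : ↥(TO p w m)) : dw hp g ^ 2 = 1 :=
  det_sq hw _ (Lw_form (w := w) hp g.2)

theorem dw_eq [FiniteDimensional F W] (hp : Nondeg p) (hw : Nondeg w) (g : ↥(TO p w m)) :
    dw hp g = 1 ∨ dw hp g = -1 := by
  have h := dw_sq hp hw g
  have : (dw hp g - 1) * (dw hp g + 1) = 0 := by linear_combination h
  rcases mul_eq_zero.1 this with h1 | h1
  · left; linear_combination h1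
  · right; linear_combination h1

theorem tp_conjLin {V : Type*} [AddCommGroup V] [Module F V] {Q : QuadraticForm F V} (t : Gam Q) (g : V ≃ₗ[F] V) :
    tp V (conjLin t g) = t.1 * tp V g * t.1⁻¹ := rfl

theorem conj_mem_TO {t : Gam (QM p w m)} (ht : t.1 ∈ Fr U W m)
    {g : ((Fin m → U) × W) ≃ₗ[F] ((Fin m → U) × W)} (hg : g ∈ TO p w m) : conjLin t g ∈ TO p w m := by
  refine ⟨?_, ?_⟩
  · intro v
    obtain ⟨σ, c, hM⟩ := t.2
    obtain ⟨v, rfl⟩ := t.1.surjective v
    rw [conjLin_apply', hM.form, hM.form, hg.1 v]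
  · change tp _ (conjLin t g) ∈ Fr U W m
    rw [tp_conjLin]
    exact (Fr U W m).mul_mem ((Fr U W m).mul_mem ht hg.2) ((Fr U W m).inv_mem ht)

theorem phO_conj [Nontrivial U] {t : Gam (QM p w m)} (ht : t.1 ∈ Fr U W m)
    {g : ((Fin m → U) × W) ≃ₗ[F] ((Fin m → U) × W)} (hg : g ∈ TO p w m) :
    phO p w m ⟨conjLin t g, conj_mem_TO ht hg⟩ =
      ph U W m ⟨t.1, ht⟩ * phO p w m ⟨g, hg⟩ * (ph U W m ⟨t.1, ht⟩)⁻¹ := by
  rw [← map_inv]
  change ph U W m ⟨tp _ (conjLin t g), _⟩ = ph U W m ⟨t.1, ht⟩ * ph U W m ⟨tp _ g, hg.2⟩ * ph U W m ⟨t.1, ht⟩⁻¹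
  rw [← map_mul, ← map_mul]
  congr 1

theorem dw_conj {κ : Type*} [Fintype κ] [DecidableEq κ] {w : QuadraticForm F (κ → F)} (hp : Nondeg p)
    (hw : Nondeg w) {t : Gam (QM p w m)} (ht : t.1 ∈ Fr U (κ → F) m)
    {g : ((Fin m → U) × (κ → F)) ≃ₗ[F] ((Fin m → U) × (κ → F))} (hg : g ∈ TO p w m) :
    dw hp ⟨conjLin t g, conj_mem_TO ht hg⟩ = dw hp ⟨g, hg⟩ := by
  obtain ⟨σ, c, hM⟩ := t.2
  have ht0 : ∀ y : κ → F, t.1 (0, y) = (0, (t.1 (0, y)).2) := fun y =>
    Prod.ext (fst_eq_zero_of_mem (w := w) hp hM ht rfl) rfl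
  have key : dw hp ⟨conjLin t g, conj_mem_TO ht hg⟩ = σ (dw hp ⟨g, hg⟩) := by
    rw [dw_apply, dw_apply]
    refine det_semi σ (fun y => (t.1 (0, y)).2) ?_ ?_ ?_ _ _ ?_
    · intro u v
      have : ((0, u + v) : (Fin m → U) × (κ → F)) = (0, u) + (0, v) := by simp
      rw [this, hM.add]
      rfl
    · intro a v
      have : ((0, a • v) : (Fin m → U) × (κ → F)) = a • (0, v) := by simp
      rw [this, hM.smul]
      rfl
    · intro v hv
      have h1 : t.1 (0, v) = 0 := by
        rw [ht0 v, hv]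
        rfl
      have h2 : t.1 (0, v) = t.1 0 := by rw [h1, hM.map_zero]
      have h3 := t.1.injective h2
      exact congrArg Prod.snd h3
    · intro v
      rw [Lw_apply]
      change (conjLin t g (0, (t.1 (0, v)).2)).2 = (t.1 (0, Lw g v)).2
      rw [← ht0 v, conjLin_apply', Lw_spec (w := w) hp hg]
  rw [key]
  rcases dw_eq hp hw ⟨g, hg⟩ with h | h <;> rw [h] <;> simp

end Cfsg.Agent.H829.K547
end

-- part: H829/K547/Idx
section
/-!
# The index of the frame group

`index_eq`; `el` (monomial isometries); `card_dvd` : `|O p| ^ m |O w| m!` divides `|TO|`; `odd_TO`, `odd_Fr`.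
-/

set_option autoImplicit false

namespace Cfsg.Agent.H829.K547

open QuadraticMap Cfsg.Agent.LieClassical.OrthCore Cfsg.Agent.LieClassical.OrthTrans
  Cfsg.Agent.LieClassical.OrthSimple Cfsg.Agent.ClassicalGeometry.OrthSemi
  Cfsg.Agent.ClassicalGeometry.OrthSemiCount

theorem index_eq {G K : Type*} [Group G] [Group K] (ι : K →* G) (H : Subgroup G)
    (h : ∀ g : G, ∃ k : K, (ι k)⁻¹ * g ∈ H) : H.index = (H.comap ι).index := by
  let f : K ⧸ H.comap ι → G ⧸ H := Quotient.map' ι (fun a b hab => by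
    rw [QuotientGroup.leftRel_apply] at hab ⊢
    rw [← map_inv, ← map_mul]
    exact hab)
  symm
  refine Nat.card_eq_of_bijective f ⟨?_, ?_⟩
  · intro x y
    induction x using QuotientGroup.induction_on with
    | H x =>
    induction y using QuotientGroup.induction_on with
    | H y =>
    intro hxy
    have h1 : (QuotientGroup.mk (ι x) : G ⧸ H) = QuotientGroup.mk (ι y) := hxy
    rw [QuotientGroup.eq] at h1 ⊢
    rw [Subgroup.mem_comap, map_mul, map_inv]
    exact h1
  · intro x
    induction x using QuotientGroup.induction_on with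
    | H g =>
    obtain ⟨k, hk⟩ := h g
    refine ⟨QuotientGroup.mk k, ?_⟩
    change (QuotientGroup.mk (ι k) : G ⧸ H) = QuotientGroup.mk g
    rw [QuotientGroup.eq]
    exact hk

variable {F U W : Type*} [Field F] [AddCommGroup U] [Module F U] [AddCommGroup W] [Module F W] {m : ℕ}
  {p : QuadraticForm F U} {w : QuadraticForm F W}

/-- monomial maps -/
def el (a : Fin m → (U ≃ₗ[F] U)) (π : Equiv.Perm (Fin m)) (b : W ≃ₗ[F] W) :
    ((Fin m → U) × W) ≃ₗ[F] ((Fin m → U) × W) :=
  ((LinearEquiv.funCongrLeft F U π⁻¹).trans (LinearEquiv.piCongrRight a)).prodCongr b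

theorem el_apply (a : Fin m → (U ≃ₗ[F] U)) (π : Equiv.Perm (Fin m)) (b : W ≃ₗ[F] W) (v : (Fin m → U) × W) :
    el a π b v = (fun j => a j (v.1 (π⁻¹ j)), b v.2) := rfl

theorem el_mem_A (a : Fin m → (U ≃ₗ[F] U)) (π : Equiv.Perm (Fin m)) (b : W ≃ₗ[F] W) (i : Fin m)
    (v : (Fin m → U) × W) : el a π b v ∈ A U W m (π i) ↔ v ∈ A U W m i := by
  rw [el_apply]
  constructor
  · rintro ⟨h1, h2⟩
    refine ⟨?_, fun j hj => ?_⟩
    · have h1' : b v.2 = 0 := h1
      rwa [LinearEquiv.map_eq_zero_iff] at h1'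
    · have h3 : a (π j) (v.1 (π⁻¹ (π j))) = 0 := h2 (π j) (fun h => hj (π.injective h))
      rw [LinearEquiv.map_eq_zero_iff] at h3
      have h4 : π⁻¹ (π j) = j := π.symm_apply_apply j
      rwa [h4] at h3
  · rintro ⟨h1, h2⟩
    refine ⟨?_, fun j hj => ?_⟩
    · change b v.2 = 0
      rw [h1, map_zero]
    · change a j (v.1 (π⁻¹ j)) = 0
      rw [h2 _ (fun h => hj (by rw [← h]; exact (pinv π j).symm)), map_zero]

theorem el_mem_Fr (a : Fin m → (U ≃ₗ[F] U)) (π : Equiv.Perm (Fin m)) (b : W ≃ₗ[F] W) :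
    tp _ (el a π b) ∈ Fr U W m := ⟨π, fun i v => el_mem_A a π b i v⟩

theorem el_mem_TO {a : Fin m → (U ≃ₗ[F] U)} (ha : ∀ i, a i ∈ O p) (π : Equiv.Perm (Fin m)) {b : W ≃ₗ[F] W}
    (hb : b ∈ O w) : el a π b ∈ TO p w m := by
  refine ⟨fun v => ?_, el_mem_Fr a π b⟩
  rw [QM_apply, QM_apply, el_apply]
  congr 1
  · change ∑ i, p (a i (v.1 (π⁻¹ i))) = _
    simp only [mem_O.1 (ha _)]
    exact Equiv.sum_comp π⁻¹ (fun i => p (v.1 i))
  · exact hb v.2

theorem phO_el [Nontrivial U] {a : Fin m → (U ≃ₗ[F] U)} (ha : ∀ i, a i ∈ O p) (π : Equiv.Perm (Fin m))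
    {b : W ≃ₗ[F] W} (hb : b ∈ O w) : phO p w m ⟨el a π b, el_mem_TO ha π hb⟩ = π :=
  phO_eq fun i v => el_mem_A a π b i v

theorem Lw_el (a : Fin m → (U ≃ₗ[F] U)) (π : Equiv.Perm (Fin m)) (b : W ≃ₗ[F] W) : Lw (el a π b) = b := by
  ext y
  rfl

/-- block diagonal isometries -/
def bl (p : QuadraticForm F U) (w : QuadraticForm F W) (m : ℕ) : (Fin m → ↥(O p)) × ↥(O w) →* ↥(TO p w m) where
  toFun x := ⟨el (fun i => (x.1 i).1) 1 x.2.1, el_mem_TO (fun i => (x.1 i).2) 1 x.2.2⟩
  map_one' := rfl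
  map_mul' _ _ := rfl

theorem bl_injective : Function.Injective (bl p w m) := by
  intro x y h
  have h1 : el (fun i => (x.1 i).1) 1 x.2.1 = el (fun i => (y.1 i).1) 1 y.2.1 := congrArg Subtype.val h
  refine Prod.ext ?_ ?_
  · funext i
    apply Subtype.ext
    ext u
    have h2 := LinearEquiv.congr_fun h1 (Pi.single i u, 0)
    rw [el_apply, el_apply] at h2
    have h3 : (x.1 i).1 ((Pi.single i u : Fin m → U) i) = (y.1 i).1 ((Pi.single i u : Fin m → U) i) :=
      congrFun (congrArg Prod.fst h2) i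
    rwa [Pi.single_eq_same] at h3
  · apply Subtype.ext
    have := congrArg Lw h1
    rw [Lw_el, Lw_el] at this
    ext u
    exact LinearMap.congr_fun this u

theorem card_dvd [Nontrivial U] [Finite U] [Finite W] :
    Nat.card ↥(O p) ^ m * Nat.card ↥(O w) * m.factorial ∣ Nat.card ↥(TO p w m) := by
  have hf : Finite (((Fin m → U) × W) ≃ₗ[F] ((Fin m → U) × W)) :=
    Finite.of_injective (fun e : ((Fin m → U) × W) ≃ₗ[F] ((Fin m → U) × W) => (e : _ → _)) DFunLike.coe_injective
  have h1 : Nat.card ↥(phO p w m).ker * (phO p w m).ker.index = Nat.card ↥(TO p w m) :=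
    Subgroup.card_mul_index _
  have hs : Function.Surjective (phO p w m) := fun π =>
    ⟨⟨el (fun _ => 1) π 1, el_mem_TO (fun _ => (O p).one_mem) π (O w).one_mem⟩,
      phO_el (fun _ => (O p).one_mem) π (O w).one_mem⟩
  rw [Subgroup.index_ker, MonoidHom.range_eq_top.2 hs, Nat.card_congr (Subgroup.topEquiv (G := Equiv.Perm (Fin m))).toEquiv,
    Nat.card_perm, Nat.card_fin] at h1
  rw [← h1]
  refine mul_dvd_mul ?_ dvd_rfl
  have h2 : ∀ x, bl p w m x ∈ (phO p w m).ker := fun x => by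
    rw [MonoidHom.mem_ker]
    exact phO_el (fun i => (x.1 i).2) 1 x.2.2
  let f : (Fin m → ↥(O p)) × ↥(O w) →* ↥(phO p w m).ker := (bl p w m).codRestrict _ h2
  have hfi : Function.Injective f := fun x y h => bl_injective (congrArg Subtype.val h)
  have := Subgroup.card_dvd_of_injective f hfi
  rwa [Nat.card_prod, Nat.card_fun, Nat.card_fin] at this

theorem odd_TO [Nontrivial U] [Finite U] [Finite W] [Finite ↥(O (QM p w m))]
    (hv : padicValNat 2 (Nat.card ↥(O (QM p w m))) ≤
      m * padicValNat 2 (Nat.card ↥(O p)) + padicValNat 2 (Nat.card ↥(O w)) + padicValNat 2 m.factorial) :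
    Odd ((TO p w m).subgroupOf (O (QM p w m))).index := by
  have hf : Finite (((Fin m → U) × W) ≃ₗ[F] ((Fin m → U) × W)) :=
    Finite.of_injective (fun e : ((Fin m → U) × W) ≃ₗ[F] ((Fin m → U) × W) => (e : _ → _)) DFunLike.coe_injective
  have hfU : Finite (U ≃ₗ[F] U) := Finite.of_injective (fun e : U ≃ₗ[F] U => (e : U → U)) DFunLike.coe_injective
  have hfW : Finite (W ≃ₗ[F] W) := Finite.of_injective (fun e : W ≃ₗ[F] W => (e : W → W)) DFunLike.coe_injective
  have h1 : Nat.card ↥(TO p w m) * ((TO p w m).subgroupOf (O (QM p w m))).index = Nat.card ↥(O (QM p w m)) := by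
    rw [← Subgroup.card_mul_index ((TO p w m).subgroupOf (O (QM p w m)))]
    congr 1
    exact (Nat.card_congr (Subgroup.subgroupOfEquivOfLe inf_le_left).toEquiv).symm
  have hT : Nat.card ↥(TO p w m) ≠ 0 := Nat.card_pos.ne'
  have hi : ((TO p w m).subgroupOf (O (QM p w m))).index ≠ 0 := Subgroup.index_ne_zero_of_finite
  have hO : Nat.card ↥(O p) ≠ 0 := Nat.card_pos.ne'
  have hW : Nat.card ↥(O w) ≠ 0 := Nat.card_pos.ne'
  have h2 := congrArg (padicValNat 2) h1
  rw [padicValNat.mul hT hi] at h2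
  have h3 := padicValNat_dvd_iff_le (p := 2) hT (n := m * padicValNat 2 (Nat.card ↥(O p)) +
    padicValNat 2 (Nat.card ↥(O w)) + padicValNat 2 m.factorial)
  have h4 : 2 ^ (m * padicValNat 2 (Nat.card ↥(O p)) +
      padicValNat 2 (Nat.card ↥(O w)) + padicValNat 2 m.factorial) ∣ Nat.card ↥(TO p w m) := by
    refine dvd_trans ?_ (card_dvd (p := p) (w := w) (m := m))
    rw [pow_add, pow_add, mul_comm m, pow_mul]
    exact mul_dvd_mul (mul_dvd_mul (pow_dvd_pow_of_dvd pow_padicValNat_dvd m) pow_padicValNat_dvd)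
      pow_padicValNat_dvd
  have h5 := h3.1 h4
  by_contra hodd
  rw [Nat.not_odd_iff_even] at hodd
  have h6 : 1 ≤ padicValNat 2 ((TO p w m).subgroupOf (O (QM p w m))).index :=
    one_le_padicValNat_of_dvd hi hodd.two_dvd
  omega

/-- the inclusion of the isometries in the semisimilitudes -/
def iO {V : Type*} [AddCommGroup V] [Module F V] (Q : QuadraticForm F V) : ↥(O Q) →* ↥(Gam Q) where
  toFun g := ⟨tp V g.1, _, _, isSS_of_mem_O g.2⟩
  map_one' := rfl
  map_mul' _ _ := rfl

theorem odd_Fr (h : Odd ((TO p w m).subgroupOf (O (QM p w m))).index)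
    (hs : ∀ (σ : F ≃+* F) (c : F) (M : Equiv.Perm ((Fin m → U) × W)), IsSS (QM p w m) σ c M →
      ∃ t ∈ Fr U W m, IsSS (QM p w m) σ c t) :
    Odd ((Fr U W m).subgroupOf (Gam (QM p w m))).index := by
  rw [index_eq (iO (QM p w m))]
  · have e : ((Fr U W m).subgroupOf (Gam (QM p w m))).comap (iO (QM p w m)) =
        (TO p w m).subgroupOf (O (QM p w m)) := by
      ext g
      constructor
      · intro hg
        exact ⟨g.2, hg⟩
      · intro hg
        exact hg.2
    rw [e]
    exact h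
  · rintro ⟨M, σ, c, hM⟩
    obtain ⟨t, ht, hts⟩ := hs σ c M hM
    have h1 := hM.mul hts.inv
    have e1 : σ.symm.trans σ = RingEquiv.refl F := by ext x; simp
    have e2 : c * σ (σ.symm c⁻¹) = 1 := by
      rw [RingEquiv.apply_symm_apply, mul_inv_cancel₀ hM.ne]
    rw [e1, e2] at h1
    obtain ⟨g, hg⟩ := exists_permO h1
    refine ⟨g, ?_⟩
    change (tp _ g.1)⁻¹ * M ∈ Fr U W m
    have e3 : tp _ g.1 = M * t⁻¹ := hg
    rw [e3, mul_inv_rev, inv_inv, mul_assoc, inv_mul_cancel, mul_one]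
    exact ht

/-- semisimilitudes of the frame -/
theorem exists_isSS_Fr [Finite U] [Finite W] {σ : F ≃+* F} {c : F} (hc : c ≠ 0)
    {f : Equiv.Perm U} (hf : IsSS p σ c f) {g : Equiv.Perm W} (hg : IsSS w σ c g) :
    ∃ t ∈ Fr U W m, IsSS (QM p w m) σ c t := by
  let t : Equiv.Perm ((Fin m → U) × W) :=
    Equiv.prodCongr (Equiv.piCongrRight fun _ => f) g
  have ht : ∀ v, t v = (fun i => f (v.1 i), g v.2) := fun v => rfl
  refine ⟨t, ⟨1, fun i v => ?_⟩, hc, ?_, ?_, ?_⟩
  · rw [ht]
    have hf0 : ∀ x, f x = 0 ↔ x = 0 := fun x => by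
      constructor
      · intro h
        apply f.injective
        rw [h, hf.map_zero]
      · rintro rfl
        exact hf.map_zero
    have hg0 : ∀ x, g x = 0 ↔ x = 0 := fun x => by
      constructor
      · intro h
        apply g.injective
        rw [h, hg.map_zero]
      · rintro rfl
        exact hg.map_zero
    constructor
    · rintro ⟨h1, h2⟩
      exact ⟨(hg0 _).1 h1, fun j hj => (hf0 _).1 (h2 j hj)⟩
    · rintro ⟨h1, h2⟩
      exact ⟨(hg0 _).2 h1, fun j hj => (hf0 _).2 (h2 j hj)⟩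
  · intro u v
    rw [ht, ht, ht]
    refine Prod.ext ?_ (hg.add _ _)
    funext i
    exact hf.add _ _
  · intro a v
    rw [ht, ht]
    refine Prod.ext ?_ (hg.smul _ _)
    funext i
    exact hf.smul _ _
  · intro v
    rw [ht, QM_apply, QM_apply, map_add, map_sum, mul_add, Finset.mul_sum, hg.form]
    congr 1
    exact Finset.sum_congr rfl fun i _ => hf.form _

end Cfsg.Agent.H829.K547
end

-- part: H829/K547/Surj
section
/-!
# Elements of `E Q` in the frame group

`exists_mem_E` : every `g ∈ TO` is `el1 a * h` with `a ∈ O p`, `h ∈ E Q` if the form `p` of the blocks is universal.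
-/

set_option autoImplicit false

namespace Cfsg.Agent.H829.K547

open QuadraticMap Cfsg.Agent.LieClassical.OrthCore Cfsg.Agent.LieClassical.OrthTrans
  Cfsg.Agent.LieClassical.OrthSimple Cfsg.Agent.ClassicalGeometry.OrthSemi
  Cfsg.Agent.ClassicalGeometry.OrthSemiCount

variable {F U W : Type*} [Field F] [AddCommGroup U] [Module F U] [AddCommGroup W] [Module F W] {m : ℕ}
  {p : QuadraticForm F U} {w : QuadraticForm F W}

/-- an isometry of one block -/
def el1 (W : Type*) [AddCommGroup W] [Module F W] (i0 : Fin m) (a : U ≃ₗ[F] U) :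
    ((Fin m → U) × W) ≃ₗ[F] ((Fin m → U) × W) :=
  el (Function.update (fun _ => (1 : U ≃ₗ[F] U)) i0 a) 1 (1 : W ≃ₗ[F] W)

theorem upd_mem (i0 : Fin m) {a : U ≃ₗ[F] U} (ha : a ∈ O p) (i : Fin m) :
    Function.update (fun _ => (1 : U ≃ₗ[F] U)) i0 a i ∈ O p := by
  by_cases hi : i = i0
  · subst hi; rw [Function.update_self]; exact ha
  · rw [Function.update_of_ne hi]; exact (O p).one_mem

theorem el1_mem_TO (i0 : Fin m) {a : U ≃ₗ[F] U} (ha : a ∈ O p) : el1 W i0 a ∈ TO p w m :=
  el_mem_TO (upd_mem i0 ha) 1 (O w).one_mem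

theorem el1_apply (i0 : Fin m) (a : U ≃ₗ[F] U) (v : (Fin m → U) × W) :
    el1 W i0 a v = (Function.update v.1 i0 (a (v.1 i0)), v.2) := by
  rw [el1, el_apply]
  refine Prod.ext ?_ rfl
  funext j
  change Function.update (fun _ => (1 : U ≃ₗ[F] U)) i0 a j (v.1 j) = Function.update v.1 i0 (a (v.1 i0)) j
  by_cases hj : j = i0
  · subst hj; rw [Function.update_self, Function.update_self]
  · rw [Function.update_of_ne hj, Function.update_of_ne hj]; rfl

theorem el1_mul (i0 : Fin m) (a b : U ≃ₗ[F] U) : el1 W i0 (a * b) = el1 W i0 a * el1 W i0 b := by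
  ext v : 1
  change el1 W i0 (a * b) v = el1 W i0 a (el1 W i0 b v)
  rw [el1_apply, el1_apply, el1_apply]
  simp

theorem el1_one (i0 : Fin m) : el1 W i0 (1 : U ≃ₗ[F] U) = 1 := by
  ext v : 1
  rw [el1_apply]
  change (Function.update v.1 i0 (v.1 i0), v.2) = v
  rw [Function.update_eq_self]

theorem el1_refl (i0 : Fin m) {u : U} (hu : p u ≠ 0) (hu' : QM p w m (Pi.single i0 u, 0) ≠ 0) :
    el1 W i0 (refl p u hu) = refl (QM p w m) (Pi.single i0 u, 0) hu' := by
  have e1 : QM p w m (Pi.single i0 u, 0) = p u := by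
    rw [QM_apply, Finset.sum_eq_single i0]
    · simp
    · intro j _ hj
      simp [hj]
    · intro h
      exact absurd (Finset.mem_univ _) h
  ext v : 1
  have e2 : polar (QM p w m) (Pi.single i0 u, 0) v = polar p u (v.1 i0) := by
    rw [polar_QM, Finset.sum_eq_single i0]
    · simp
    · intro j _ hj
      simp [hj]
    · intro h
      exact absurd (Finset.mem_univ _) h
  rw [refl_apply, e1, e2, el1_apply, refl_apply]
  refine Prod.ext ?_ ?_
  · funext j
    by_cases hj : j = i0
    · subst hj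
      simp
    · simp [hj]
  · simp

theorem exists_mem_E [FiniteDimensional F ((Fin m → U) × W)] (hG : Good (QM p w m)) (i0 : Fin m)
    (hu : ∀ c : F, ∃ u, p u = c) {g : ((Fin m → U) × W) ≃ₗ[F] ((Fin m → U) × W)} (hg : g ∈ O (QM p w m)) :
    ∃ a ∈ O p, (el1 W i0 a)⁻¹ * g ∈ E (QM p w m) := by
  have hO : ∀ a ∈ O p, el1 W i0 a ∈ O (QM p w m) := fun a ha => (el1_mem_TO (w := w) i0 ha).1
  rw [O_eq_closure hG.nondeg] at hg
  induction hg using Subgroup.closure_induction with
  | mem x hx =>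
    rcases hx with ⟨v, hv, rfl⟩ | hx
    · obtain ⟨u, hu'⟩ := hu (QM p w m v)
      have hpu : p u ≠ 0 := by rw [hu']; exact hv
      have e1 : QM p w m (Pi.single i0 u, 0) = p u := by
        rw [QM_apply, Finset.sum_eq_single i0]
        · simp
        · intro j _ hj
          simp [hj]
        · intro h
          exact absurd (Finset.mem_univ _) h
      have hu2 : QM p w m (Pi.single i0 u, 0) ≠ 0 := by rw [e1]; exact hpu
      refine ⟨refl p u hpu, refl_mem_O hpu, ?_⟩
      rw [el1_refl i0 hpu hu2, refl_inv]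
      exact hG.refl_mul_refl_mem hv hu2 (by rw [e1, hu'])
    · obtain ⟨u, y, h1, h2, rfl⟩ := hx
      refine ⟨1, (O p).one_mem, ?_⟩
      rw [el1_one, inv_one, one_mul]
      exact siegel_mem_E h1 h2
  | one => exact ⟨1, (O p).one_mem, by rw [el1_one, inv_one, one_mul]; exact (E _).one_mem⟩
  | mul x y hx hy ihx ihy =>
    obtain ⟨a, ha, hxa⟩ := ihx
    obtain ⟨b, hb, hyb⟩ := ihy
    refine ⟨a * b, (O p).mul_mem ha hb, ?_⟩
    have e : (el1 W i0 (a * b))⁻¹ * (x * y) =
        ((el1 W i0 b)⁻¹ * ((el1 W i0 a)⁻¹ * x) * (el1 W i0 b)⁻¹⁻¹) * ((el1 W i0 b)⁻¹ * y) := by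
      rw [el1_mul]; group
    rw [e]
    exact (E _).mul_mem (conj_mem_E ((O _).inv_mem (hO b hb)) hxa) hyb
  | inv x hx ihx =>
    obtain ⟨a, ha, hxa⟩ := ihx
    refine ⟨a⁻¹, (O p).inv_mem ha, ?_⟩
    have e0 : el1 W i0 a⁻¹ = (el1 W i0 a)⁻¹ := by
      rw [eq_inv_iff_mul_eq_one, ← el1_mul, inv_mul_cancel, el1_one]
    have e : (el1 W i0 a⁻¹)⁻¹ * x⁻¹ = el1 W i0 a * ((el1 W i0 a)⁻¹ * x)⁻¹ * (el1 W i0 a)⁻¹ := by
      rw [e0]; group
    rw [e]
    exact conj_mem_E (hO a ha) ((E _).inv_mem hxa)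

theorem phO_el1 [Nontrivial U] (i0 : Fin m) {a : U ≃ₗ[F] U} (ha : a ∈ O p) :
    phO p w m ⟨el1 W i0 a, el1_mem_TO i0 ha⟩ = 1 := phO_el (upd_mem i0 ha) 1 (O w).one_mem

theorem dw_el1 (hp : Nondeg p) (i0 : Fin m) {a : U ≃ₗ[F] U} (ha : a ∈ O p) :
    dw hp (⟨el1 W i0 a, el1_mem_TO i0 ha⟩ : ↥(TO p w m)) = 1 := by
  rw [dw_apply]
  change LinearMap.det (Lw (el _ 1 (1 : W ≃ₗ[F] W))) = 1
  rw [Lw_el]
  exact LinearMap.det_id

/-- every value of `f` is taken on `E Q` -/
theorem exists_mem_E_eq [FiniteDimensional F ((Fin m → U) × W)] (hG : Good (QM p w m)) (i0 : Fin m)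
    (hu : ∀ c : F, ∃ u, p u = c) {Y : Type*} [Group Y] (f : ↥(TO p w m) →* Y)
    (hf : ∀ (a : U ≃ₗ[F] U) (ha : a ∈ O p), f ⟨el1 W i0 a, el1_mem_TO i0 ha⟩ = 1) (g : ↥(TO p w m)) :
    ∃ h : ↥(TO p w m), h.1 ∈ E (QM p w m) ∧ f h = f g := by
  obtain ⟨a, ha, hga⟩ := exists_mem_E hG i0 hu g.2.1
  obtain ⟨k, hk⟩ : ∃ k : ↥(TO p w m), k = ⟨el1 W i0 a, el1_mem_TO i0 ha⟩ := ⟨_, rfl⟩
  have hk1 : k.1 = el1 W i0 a := by rw [hk]
  refine ⟨k⁻¹ * g, ?_, ?_⟩
  · rw [Subgroup.coe_mul, Subgroup.coe_inv, hk1]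
    exact hga
  · rw [map_mul, map_inv, hk, hf a ha, inv_one, one_mul]

end Cfsg.Agent.H829.K547
end

-- part: H829/K547/Main
section
/-!
# `D3 (AutExt τ)` from a frame group of odd index

`InvTool` : the tool (d) INV of TOOL3; `d3_of_frame`.
-/

set_option autoImplicit false

namespace Cfsg.Agent.H829.K547

open QuadraticMap Cfsg.Agent.LieClassical.OrthCore Cfsg.Agent.LieClassical.OrthTrans
  Cfsg.Agent.LieClassical.OrthSimple Cfsg.Agent.ClassicalGeometry.OrthSemi
  Cfsg.Agent.ClassicalGeometry.OrthSemiCount Cfsg.Agent.ClassicalGeometry.OrthAut1 Cfsg.Agent.H821.K547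

universe u v

/-- the tool INV -/
def InvTool : Prop :=
  ∀ {S : Type u} [Group S] [Finite S] [IsSimpleGroup S], Subgroup.center S = ⊥ →
    ∀ τ : MulAut S, TwoPow τ → ¬ IsInn τ → ∀ (s : S) (M : Subgroup S), Odd M.index →
    ∀ (hM : ∀ x ∈ M, (MulAut.conj s * τ) x ∈ M) {Y : Type v} [Group Y] [Finite Y] (f : M →* Y),
    Function.Surjective f → ∀ y : Y, (∀ (x : S) (hx : x ∈ M),
      f ⟨(MulAut.conj s * τ) x, hM x hx⟩ = y * f ⟨x, hx⟩ * y⁻¹) → (∀ R : Sylow 2 Y, Rk 2 R) → D3 (AutExt τ)

theorem isInn_conj {S : Type u} [Group S] {τ g : MulAut S} (h : IsInn (g * τ * g⁻¹)) : IsInn τ := by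
  obtain ⟨s, hs⟩ := h
  refine ⟨g⁻¹ s, fun x => ?_⟩
  have h1 := hs (g x)
  have e : (g * τ * g⁻¹) (g x) = g (τ x) := by
    change g (τ (g.symm (g x))) = _
    rw [MulEquiv.symm_apply_apply]
  rw [e] at h1
  have h2 := congrArg (fun z => (g⁻¹ : MulAut S) z) h1
  beta_reduce at h2
  have e1 : ∀ z, (g⁻¹ : MulAut S) (g z) = z := fun z => g.symm_apply_apply z
  rwa [map_mul, map_mul, map_inv, e1, e1] at h2

theorem twoPow_conj {S : Type u} [Group S] {τ g : MulAut S} (h : TwoPow τ) : TwoPow (g * τ * g⁻¹) := by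
  obtain ⟨k, s, hs⟩ := h
  refine ⟨k, g s, fun x => ?_⟩
  have e : (g * τ * g⁻¹) ^ 2 ^ k = g * τ ^ 2 ^ k * g⁻¹ := by
    rw [conj_pow]
  rw [e]
  change g ((τ ^ 2 ^ k) (g.symm x)) = _
  rw [hs, map_mul, map_mul, map_inv, MulEquiv.apply_symm_apply]

theorem rk_congr {n : ℕ} {P : Type u} {R : Type v} [Group P] [Group R] (e : P ≃* R) (h : Rk n P) : Rk n R := by
  obtain ⟨f, hf⟩ := h
  exact ⟨f.comp e.symm.toMonoidHom, hf.comp e.symm.surjective⟩

theorem d3_congr {G : Type u} {K : Type v} [Group G] [Group K] [Finite G] (e : G ≃* K) (h : D3 G) : D3 K := by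
  intro R
  have : Finite K := Finite.of_equiv _ e.toEquiv
  let R' : Sylow 2 G := R.comapOfInjective e.toMonoidHom e.injective (by
    rw [MonoidHom.range_eq_top.2 (show Function.Surjective e.toMonoidHom from e.surjective)]
    exact le_top)
  have h1 := h R'
  have e1 : ↥(R' : Subgroup G) ≃* ↥(R : Subgroup K) := by
    have e2 : (R' : Subgroup G).map e.toMonoidHom = R := by
      change ((R : Subgroup K).comap e.toMonoidHom).map e.toMonoidHom = R
      exact Subgroup.map_comap_eq_self_of_surjective e.surjective _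
    exact (e.subgroupMap (R' : Subgroup G)).trans (MulEquiv.subgroupCongr e2)
  exact rk_congr e1 h1

theorem autExt_conj {S : Type u} [Group S] (τ g : MulAut S) :
    (AutExt τ).map (MulAut.conj g).toMonoidHom = AutExt (g * τ * g⁻¹) := by
  rw [AutExt, AutExt, Subgroup.map_sup, MonoidHom.map_zpowers]
  congr 1
  have := conj_range_normal (S := S)
  apply le_antisymm
  · rintro _ ⟨x, hx, rfl⟩
    exact this.conj_mem x hx g
  · intro x hx
    refine ⟨g⁻¹ * x * g⁻¹⁻¹, this.conj_mem x hx g⁻¹, ?_⟩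
    change g * (g⁻¹ * x * g⁻¹⁻¹) * g⁻¹ = x
    group

theorem d3_autExt_conj {S : Type u} [Group S] [Finite S] {τ g : MulAut S} (h : D3 (AutExt (g * τ * g⁻¹))) :
    D3 (AutExt τ) := by
  have hfin : Finite (MulAut S) := Finite.of_injective (fun e : MulAut S => (e : S → S)) DFunLike.coe_injective
  have e : AutExt τ ≃* AutExt (g * τ * g⁻¹) :=
    ((MulAut.conj g).subgroupMap (AutExt τ)).trans (MulEquiv.subgroupCongr (autExt_conj τ g))
  exact d3_congr e.symm h

section Q

variable {F V : Type u} [Field F] [AddCommGroup V] [Module F V] {Q : QuadraticForm F V}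

theorem conj_mk (h : ↥(E Q)) : MulAut.conj (QuotientGroup.mk h : P Q) = Psi Q (iO Q ⟨h.1, E_le_O h.2⟩) := by
  ext x
  induction x using QuotientGroup.induction_on with
  | H k =>
    rw [Psi_mk]
    change (QuotientGroup.mk (h * k * h⁻¹) : P Q) = _
    congr 1

theorem center_P (hG : Good Q) : Subgroup.center (P Q) = ⊥ := by
  have hs := good_isSimpleGroup hG
  rcases hs.eq_bot_or_eq_top_of_normal (Subgroup.center (P Q)) inferInstance with h | h
  · exact h
  · exfalso
    have hcomm : ∀ x y : P Q, x * y = y * x := fun x y => by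
      have : y ∈ Subgroup.center (P Q) := by rw [h]; exact Subgroup.mem_top y
      exact (Subgroup.mem_center_iff.1 this x)
    obtain ⟨x, hx⟩ := exists_ne (1 : P Q)
    apply hx
    induction x using QuotientGroup.induction_on with
    | H k =>
      have hk : k ∈ commutator ↥(E Q) := by rw [commutator_E hG]; exact Subgroup.mem_top k
      have hle : commutator ↥(E Q) ≤ (QuotientGroup.mk' (Subgroup.center ↥(E Q))).ker := by
        rw [commutator_def, Subgroup.commutator_le]
        intro a _ b _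
        rw [MonoidHom.mem_ker, map_commutatorElement, commutatorElement_eq_one_iff_mul_comm]
        exact hcomm _ _
      exact hle hk

end Q

variable {F U W : Type u} [Field F] [AddCommGroup U] [Module F U] [AddCommGroup W] [Module F W] {m : ℕ}
  {p : QuadraticForm F U} {w : QuadraticForm F W}

theorem scal_mem_Fr (a : Fˣ) : (scal (QM p w m) a).1 ∈ Fr U W m := by
  refine ⟨1, fun i v => ?_⟩
  rw [scal_apply]
  constructor
  · rintro ⟨h1, h2⟩
    refine ⟨?_, fun j hj => ?_⟩
    · have h3 : (a : F) • v.2 = 0 := h1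
      exact (smul_eq_zero.1 h3).resolve_left a.ne_zero
    · have h3 : (a : F) • v.1 j = 0 := h2 j hj
      exact (smul_eq_zero.1 h3).resolve_left a.ne_zero
  · rintro ⟨h1, h2⟩
    refine ⟨?_, fun j hj => ?_⟩
    · change (a : F) • v.2 = 0
      rw [h1, smul_zero]
    · change (a : F) • v.1 j = 0
      rw [h2 j hj, smul_zero]

theorem d3_of_frame (inv : InvTool.{u, v}) [Finite U] [Finite W] (hG : Good (QM p w m))
    (hodd : Odd ((Fr U W m).subgroupOf (Gam (QM p w m))).index) (hpsi : Odd (Psi (QM p w m)).range.index)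
    {Y : Type v} [Group Y] [Finite Y] (f : ↥(TO p w m) →* Y)
    (hsurj : ∀ y, ∃ g : ↥(TO p w m), g.1 ∈ E (QM p w m) ∧ f g = y)
    (hcen : ∀ (g : ↥(TO p w m)) (hg : g.1 ∈ E (QM p w m)), (⟨g.1, hg⟩ : ↥(E (QM p w m))) ∈
      Subgroup.center ↥(E (QM p w m)) → f g = 1)
    (hequi : ∀ (t : Gam (QM p w m)) (ht : t.1 ∈ Fr U W m), ∃ y : Y, ∀ g : ↥(TO p w m),
      f ⟨conjLin t g.1, conj_mem_TO ht g.2⟩ = y * f g * y⁻¹)
    (hY : ∀ R : Sylow 2 Y, Rk 2 R) (τ : MulAut (P (QM p w m))) (hτ : TwoPow τ) (hn : ¬ IsInn τ) :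
    D3 (AutExt τ) := by
  have hsim := good_isSimpleGroup hG
  have hfV : Finite ((Fin m → U) × W) := inferInstance
  have hfG : Finite (((Fin m → U) × W) ≃ₗ[F] ((Fin m → U) × W)) :=
    Finite.of_injective (fun e : ((Fin m → U) × W) ≃ₗ[F] ((Fin m → U) × W) => (e : _ → _)) DFunLike.coe_injective
  have hfP : Finite (P (QM p w m)) := inferInstance
  set H : Subgroup (MulAut (P (QM p w m))) := ((Fr U W m).subgroupOf (Gam (QM p w m))).map (Psi (QM p w m)) with hH
  have hHodd : Odd H.index := by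
    rw [hH, Subgroup.index_map]
    exact (Odd.of_dvd_nat hodd (Subgroup.index_dvd_of_le le_sup_left)).mul hpsi
  obtain ⟨g, s, hgs⟩ := exists_conj_mem hτ hHodd
  apply d3_autExt_conj (g := g)
  set τ₁ := g * τ * g⁻¹ with hτ₁
  -- elements of `M`
  set M : Subgroup (P (QM p w m)) := H.comap (MulAut.conj : P (QM p w m) →* MulAut (P (QM p w m))) with hM
  have hMmem : ∀ h : ↥(E (QM p w m)), (QuotientGroup.mk h : P (QM p w m)) ∈ M ↔ h.1 ∈ TO p w m := by
    intro h
    rw [hM, Subgroup.mem_comap, conj_mk, hH]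
    constructor
    · rintro ⟨t, ht, hth⟩
      refine ⟨E_le_O h.2, ?_⟩
      have h1 : t⁻¹ * iO (QM p w m) ⟨h.1, E_le_O h.2⟩ ∈ (Psi (QM p w m)).ker := by
        rw [MonoidHom.mem_ker, map_mul, map_inv, hth, inv_mul_cancel]
      rw [ker_Psi hG] at h1
      obtain ⟨a, ha⟩ := h1
      have h2 : iO (QM p w m) ⟨h.1, E_le_O h.2⟩ = t * scal (QM p w m) a := by
        rw [ha, mul_inv_cancel_left]
      have h3 : tp _ h.1 = t.1 * (scal (QM p w m) a).1 := congrArg Subtype.val h2
      change tp _ h.1 ∈ Fr U W m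
      rw [h3]
      exact (Fr U W m).mul_mem ht (scal_mem_Fr a)
    · intro h1
      exact ⟨_, h1.2, rfl⟩
  let ME : Subgroup ↥(E (QM p w m)) := (TO p w m).subgroupOf (E (QM p w m))
  let q : ↥ME →* ↥M :=
    ((QuotientGroup.mk' (Subgroup.center ↥(E (QM p w m)))).comp ME.subtype).codRestrict M
      (fun h => (hMmem h.1).2 h.2)
  have hq : Function.Surjective q := by
    rintro ⟨x, hx⟩
    induction x using QuotientGroup.induction_on with
    | H k => exact ⟨⟨k, (hMmem k).1 hx⟩, Subtype.ext rfl⟩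
  let f' : ↥ME →* Y := f.comp
    { toFun := fun h => ⟨h.1.1, h.2⟩
      map_one' := rfl
      map_mul' := fun _ _ => rfl }
  have hker : q.ker ≤ f'.ker := by
    intro h hh
    rw [MonoidHom.mem_ker] at hh ⊢
    refine hcen ⟨h.1.1, h.2⟩ h.1.2 ?_
    have h1 : (QuotientGroup.mk h.1 : P (QM p w m)) = 1 := congrArg Subtype.val hh
    rw [QuotientGroup.eq_one_iff] at h1
    exact h1
  let Φ : ↥M →* Y := q.liftOfSurjective hq ⟨f', hker⟩
  have hΦ : ∀ h : ↥ME, Φ (q h) = f' h := fun h => MonoidHom.liftOfRightInverse_comp_apply _ _ _ ⟨f', hker⟩ h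
  obtain ⟨t, ht, hts⟩ := hgs
  obtain ⟨y, hy⟩ := hequi t ht
  have hact : ∀ k : ↥(E (QM p w m)), (MulAut.conj s * τ₁) (QuotientGroup.mk k : P (QM p w m)) =
      QuotientGroup.mk (conjE (QM p w m) t k) := by
    intro k
    rw [← hts, Psi_mk]
  have hstab : ∀ x ∈ M, (MulAut.conj s * τ₁) x ∈ M := by
    intro x hx
    induction x using QuotientGroup.induction_on with
    | H k =>
      rw [hact, hMmem]
      exact conj_mem_TO ht ((hMmem k).1 hx)
  refine inv (center_P hG) τ₁ (twoPow_conj hτ) (fun h => hn (isInn_conj h)) s M (odd_index_comap hHodd) hstab Φ ?_ y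
    ?_ hY
  · intro y'
    obtain ⟨g', hg', e⟩ := hsurj y'
    refine ⟨q ⟨⟨g'.1, hg'⟩, g'.2⟩, ?_⟩
    rw [hΦ]
    exact e
  · intro x hx
    induction x using QuotientGroup.induction_on with
    | H k =>
      have hk := (hMmem k).1 hx
      have e1 : (⟨(MulAut.conj s * τ₁) (QuotientGroup.mk k), hstab _ hx⟩ : ↥M) =
          q ⟨conjE (QM p w m) t k, conj_mem_TO ht hk⟩ := Subtype.ext (hact k)
      have e2 : (⟨QuotientGroup.mk k, hx⟩ : ↥M) = q ⟨k, hk⟩ := rfl
      rw [e1, e2, hΦ, hΦ]
      exact hy ⟨k.1, hk⟩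

end Cfsg.Agent.H829.K547
end

private theorem dce_cf9c68b62d67 : _root_.True := by
  try have : _root_.True := by simp only [_root_.Cfsg.Agent.H829.K547.QM.eq_1]
  try have : _root_.True := by simp only [_root_.Cfsg.Agent.H829.K547.el1.eq_1]
  try have : _root_.True := by simp only [_root_.Cfsg.Agent.H821.K547.AutExt.eq_1]
  exact _root_.True.intro
end

section
prune_inst 0xb0adfb0df805dfdfff7e7faed5dffc32804fffa6dff94bffe869ff2bdf230209e5ab8109e010ff0ed6621410b87813f9fedeffea6bdc7ffffd5ff45ffbee4fe5f6bd0851d488340f3c2ff603f0778e7f00000000000000000000080000000000020c010000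

-- part: H83/K547/Mono
section
prune_inst 0x4240040205a8002000000051000003cd78b000400002b0000494000000c88074105004f60b410030209c6a0a4003840401200000902000000000000000119008000000200b048a008040018008004000000000000000000000000000000000000000000000
set_option linter.all false
open scoped Cfsg.Agent.FastGrp

-- part: H83/K547/Tool
section
/-!
# S4547, rank tools (helper83)

* `DD n G` : the Sylow 2-subgroups of `G` map onto an elementary abelian group of order `2 ^ n` (`D3 = DD 3`);
* `rk_of_elem`, `rk_of_ab` : elementary abelian (quotients of) groups;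
* `dd_of_sylow`, `dd_congr`;
* `dd_of_hom` : `φ : X →* G` with range of odd index, `f : X →* Y` onto, `ker φ ≤ ker f`, `DD n Y` : `DD n G`;
* `dd_three_of_elementary`, `dd_two_of_elementary` (T3) : squares of elements of the Sylow 2-subgroups of `G` in the derived
  subgroup, `f : G →* Y` onto, `E ≤ Y` of exponent 2 of order more than 4 (2);
* `dd_prod` : products with an elementary abelian group.
-/

set_option autoImplicit false

namespace Cfsg.Agent.H83.K547

open Subgroup Cfsg Cfsg.Agent.H821.K547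

universe u v w

/-- the Sylow 2-subgroups need at least `n` generators -/
def DD (n : ℕ) (G : Type u) [Group G] : Prop := ∀ Q : Sylow 2 G, Rk n Q

/-! ### `Rk` -/

section

variable {P : Type u} {Q : Type v} [Group P] [Group Q] {n m : ℕ}

theorem rk_of_surj (f : P →* Q) (hf : Function.Surjective f) (h : Rk n Q) : Rk n P := by
  obtain ⟨g, hg⟩ := h
  exact ⟨g.comp f, hg.comp hf⟩

theorem rk_congr (e : P ≃* Q) (h : Rk n P) : Rk n Q := rk_of_surj e.symm.toMonoidHom e.symm.surjective h

end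

theorem rk_of_elem {A : Type u} [CommGroup A] [Finite A] {n : ℕ} (h : ∀ a : A, a ^ 2 = 1)
    (hn : 2 ^ n ≤ Nat.card A) : Rk n A := by
  have hV : ∀ x : Additive A, 2 • x = 0 := fun x => congrArg Additive.ofMul (h x.toMul)
  let _ : Module (ZMod 2) (Additive A) := AddCommGroup.zmodModule hV
  have hfin : Module.Finite (ZMod 2) (Additive A) := Module.Finite.of_finite
  have h1 : Nat.card (Additive A) = 2 ^ Module.finrank (ZMod 2) (Additive A) := by
    rw [Module.natCard_eq_pow_finrank (K := ZMod 2), Nat.card_zmod]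
  have h2 : Nat.card (Additive A) = Nat.card A := rfl
  have h3 : n ≤ Module.finrank (ZMod 2) (Additive A) := by
    rw [← h2, h1] at hn
    exact (Nat.pow_le_pow_iff_right (by norm_num)).1 hn
  let b := Module.finBasis (ZMod 2) (Additive A)
  let L : Additive A →ₗ[ZMod 2] (Fin n → ZMod 2) :=
    (LinearMap.funLeft (ZMod 2) (ZMod 2) (Fin.castLE h3)).comp b.equivFun.toLinearMap
  have hL : Function.Surjective L := by
    intro c
    obtain ⟨d, hd⟩ := LinearMap.funLeft_surjective_of_injective (ZMod 2) (ZMod 2) _ (Fin.castLE_injective h3) c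
    obtain ⟨a, ha⟩ := b.equivFun.surjective d
    refine ⟨a, ?_⟩
    show LinearMap.funLeft (ZMod 2) (ZMod 2) (Fin.castLE h3) (b.equivFun a) = c
    rw [ha, hd]
  refine ⟨{ toFun := fun a => Multiplicative.ofAdd (L (Additive.ofMul a))
            map_one' := by rw [ofMul_one, map_zero, ofAdd_zero]
            map_mul' := fun a c => by rw [ofMul_mul, map_add, ofAdd_add] }, ?_⟩
  intro c
  obtain ⟨a, ha⟩ := hL (Multiplicative.toAdd c)
  exact ⟨Additive.toMul a, congrArg Multiplicative.ofAdd ha⟩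

theorem rk_of_ab {Q : Type u} [Group Q] [Finite Q] (h : ∀ x : Q, x ^ 2 ∈ commutator Q) {n : ℕ}
    (hn : 2 ^ n ≤ (commutator Q).index) : Rk n Q := by
  have h1 : Rk n (Abelianization Q) := by
    refine rk_of_elem ?_ hn
    intro a
    obtain ⟨x, rfl⟩ : ∃ x, Abelianization.of x = a := QuotientGroup.mk_surjective a
    rw [← map_pow]
    exact (QuotientGroup.eq_one_iff _).2 (h x)
  exact rk_of_surj Abelianization.of (QuotientGroup.mk_surjective) h1

/-! ### 2-groups with elementary abelian commutator quotient -/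

section TwoGroup

variable {Q : Type u} [Group Q] [Finite Q]

theorem isCyclic_of_index_le_two (hQ : IsPGroup 2 Q) (h : (commutator Q).index ≤ 2) : IsCyclic Q := by
  have : Fact (Nat.Prime 2) := ⟨Nat.prime_two⟩
  have hle := Cfsg.Agent.Lib.FrattiniBasic.commutator_le_frattini hQ
  have key : ∃ x : Q, zpowers x ⊔ commutator Q = ⊤ := by
    by_cases h1 : commutator Q = ⊤
    · exact ⟨1, by rw [h1]; exact sup_top_eq _⟩
    · obtain ⟨x, hx⟩ : ∃ x, x ∉ commutator Q := by
        by_contra hcon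
        push Not at hcon
        exact h1 (eq_top_iff.2 fun x _ => hcon x)
      refine ⟨x, ?_⟩
      by_contra h2
      have h3 : (zpowers x ⊔ commutator Q).index ≠ 1 := fun h4 => h2 (index_eq_one.1 h4)
      have h4 : (commutator Q).relIndex (zpowers x ⊔ commutator Q) ≠ 1 := by
        intro h5
        rw [relIndex_eq_one] at h5
        exact hx (h5 ((le_sup_left : zpowers x ≤ _) (mem_zpowers x)))
      have h5 := relIndex_mul_index (le_sup_right : commutator Q ≤ zpowers x ⊔ commutator Q)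
      have h6 : (zpowers x ⊔ commutator Q).index ≠ 0 := index_ne_zero_of_finite
      have h7 : (commutator Q).relIndex (zpowers x ⊔ commutator Q) ≠ 0 := by
        intro h8
        rw [h8, zero_mul] at h5
        exact index_ne_zero_of_finite h5.symm
      have h8 : 2 * 2 ≤ (commutator Q).relIndex (zpowers x ⊔ commutator Q) * (zpowers x ⊔ commutator Q).index :=
        Nat.mul_le_mul (by omega) (by omega)
      omega
  obtain ⟨x, hx⟩ := key
  have h1 : zpowers x ⊔ frattini Q = ⊤ := top_le_iff.1 (hx ▸ sup_le_sup_left hle _)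
  have h2 : zpowers x = ⊤ := frattini_nongenerating h1
  exact ⟨⟨x, fun y => by
    have : y ∈ zpowers x := by rw [h2]; exact mem_top y
    exact this⟩⟩

/-- few elements of order 2 -/
theorem card_le_of_cyclic {C E : Subgroup Q} (hC : IsCyclic C) (hE : ∀ x ∈ E, x ^ 2 = 1) :
    Nat.card E ≤ 2 * C.index := by
  have h1 : IsCyclic (C.subgroupOf E) := by
    let f : C.subgroupOf E →* C :=
      { toFun := fun x => ⟨((x : E) : Q), x.2⟩
        map_one' := rfl
        map_mul' := fun _ _ => rfl }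
    refine isCyclic_of_injective f ?_
    intro a b hab
    have h2 : ((a : E) : Q) = ((b : E) : Q) := congrArg (fun z : C => (z : Q)) hab
    exact Subtype.ext (Subtype.ext h2)
  obtain ⟨g, hg⟩ := h1
  have h2 : Nat.card (C.subgroupOf E) ≤ 2 := by
    rw [← orderOf_eq_card_of_forall_mem_zpowers hg]
    refine Nat.le_of_dvd (by norm_num) (orderOf_dvd_of_pow_eq_one ?_)
    exact Subtype.ext (Subtype.ext (hE _ (g : E).2))
  have h3 := (C.subgroupOf E).card_mul_index
  have h4 : (C.subgroupOf E).index ≤ C.index := by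
    have h5 : C.relIndex E ≤ C.relIndex ⊤ := relIndex_le_of_le_right le_top (by
      rw [relIndex_top_right]
      exact index_ne_zero_of_finite)
    rwa [relIndex_top_right] at h5
  calc Nat.card E = Nat.card (C.subgroupOf E) * (C.subgroupOf E).index := h3.symm
    _ ≤ 2 * C.index := Nat.mul_le_mul h2 h4

theorem rk_two (hQ : IsPGroup 2 Q) (h : ∀ x : Q, x ^ 2 ∈ commutator Q) {E : Subgroup Q} (hE : ∀ x ∈ E, x ^ 2 = 1)
    (hc : 2 < Nat.card E) : Rk 2 Q := by
  have : Fact (Nat.Prime 2) := ⟨Nat.prime_two⟩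
  refine rk_of_ab h ?_
  by_contra h1
  -- the index is a power of two
  obtain ⟨k, hk⟩ := hQ.index (commutator Q)
  have hk1 : k ≤ 1 := by
    by_contra h2
    apply h1
    rw [hk]
    exact Nat.pow_le_pow_right (by norm_num) (by omega)
  have h2 : (commutator Q).index ≤ 2 := by
    rw [hk]
    calc 2 ^ k ≤ 2 ^ 1 := Nat.pow_le_pow_right (by norm_num) hk1
      _ = 2 := pow_one 2
  have h3 := isCyclic_of_index_le_two hQ h2
  have h4 : IsCyclic (⊤ : Subgroup Q) := isCyclic_of_surjective topEquiv.symm.toMonoidHom topEquiv.symm.surjective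
  have h5 := card_le_of_cyclic h4 hE
  rw [index_top] at h5
  omega

theorem rk_three (hQ : IsPGroup 2 Q) (h : ∀ x : Q, x ^ 2 ∈ commutator Q) {E : Subgroup Q} (hE : ∀ x ∈ E, x ^ 2 = 1)
    (hc : 4 < Nat.card E) : Rk 3 Q := by
  have : Fact (Nat.Prime 2) := ⟨Nat.prime_two⟩
  refine rk_of_ab h ?_
  by_contra h1
  obtain ⟨k, hk⟩ := hQ.index (commutator Q)
  have hk2 : k ≤ 2 := by
    by_contra h2
    apply h1
    rw [hk]
    exact Nat.pow_le_pow_right (by norm_num) (by omega)
  rcases Nat.lt_or_ge k 2 with hk1 | hk1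
  · have h2 : (commutator Q).index ≤ 2 := by
      rw [hk]
      calc 2 ^ k ≤ 2 ^ 1 := Nat.pow_le_pow_right (by norm_num) (by omega)
        _ = 2 := pow_one 2
    have h3 := isCyclic_of_index_le_two hQ h2
    have h4 : IsCyclic (⊤ : Subgroup Q) := isCyclic_of_surjective topEquiv.symm.toMonoidHom topEquiv.symm.surjective
    have h5 := card_le_of_cyclic h4 hE
    rw [index_top] at h5
    omega
  · have hk' : (commutator Q).index = 4 := by
      rw [hk, le_antisymm hk2 hk1]
      norm_num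
    obtain ⟨n, hn⟩ := IsPGroup.iff_card.1 hQ
    have hn3 : 3 ≤ n := by
      by_contra h2
      have h3 : Nat.card E ≤ Nat.card Q := Nat.card_le_card_of_injective _ E.subtype_injective
      rw [hn] at h3
      have h4 : 2 ^ n ≤ 2 ^ 2 := Nat.pow_le_pow_right (by norm_num) (by omega)
      omega
    have h2 : IsKleinFour (Q ⧸ commutator Q) := by
      refine ⟨hk', ?_⟩
      have h3 : Monoid.exponent (Q ⧸ commutator Q) ∣ 2 := by
        rw [Monoid.exponent_dvd_iff_forall_pow_eq_one]
        intro a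
        obtain ⟨x, rfl⟩ := QuotientGroup.mk_surjective a
        rw [← QuotientGroup.mk_pow]
        exact (QuotientGroup.eq_one_iff _).2 (h x)
      rcases (Nat.dvd_prime Nat.prime_two).1 h3 with h4 | h4
      · exfalso
        have h5 : Subsingleton (Q ⧸ commutator Q) := Monoid.exp_eq_one_iff.1 h4
        have h6 : Nat.card (Q ⧸ commutator Q) = 1 := by
          rw [Nat.card_eq_one_iff_unique]
          exact ⟨h5, ⟨1⟩⟩
        have h7 : Nat.card (Q ⧸ commutator Q) = 4 := hk'
        omega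
      · exact h4
    have h3 := (Cfsg.Agent.S0115.result n hn3 hn).2 h2
    obtain ⟨C, hC, hi⟩ := Cfsg.Agent.S0113.result n hn3 hn h3
    have h5 := card_le_of_cyclic hC hE
    rw [hi] at h5
    omega

end TwoGroup

/-! ### `DD` -/

section DD

variable {G : Type u} {Y : Type v} [Group G] [Group Y] {n : ℕ}

theorem dd_of_sylow [Finite G] (Q : Sylow 2 G) (h : Rk n Q) : DD n G := by
  have : Fact (Nat.Prime 2) := ⟨Nat.prime_two⟩
  intro Q'
  exact rk_congr (Sylow.equiv Q Q') h

/-- squares in the derived subgroup, under onto homomorphisms -/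
theorem sq_of_surj {P : Type u} {Q : Type v} [Group P] [Group Q] (f : P →* Q) (hf : Function.Surjective f)
    (h : ∀ x : P, x ^ 2 ∈ commutator P) (y : Q) : y ^ 2 ∈ commutator Q := by
  obtain ⟨x, rfl⟩ := hf y
  rw [← map_pow]
  have h1 : (commutator P).map f ≤ commutator Q := by
    rw [commutator_def, commutator_def, map_commutator]
    exact commutator_mono le_top le_top
  exact h1 ⟨_, h x, rfl⟩

/-- the Sylow subgroup containing `E`, with squares in the derived subgroup -/
theorem exists_sylow_sq [Finite G] [Finite Y] (f : G →* Y) (hf : Function.Surjective f)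
    (h : ∀ (P : Sylow 2 G) (x : P), x ^ 2 ∈ commutator P) {E : Subgroup Y} (hE : ∀ x ∈ E, x ^ 2 = 1) :
    ∃ Q : Sylow 2 Y, E ≤ Q ∧ ∀ x : Q, x ^ 2 ∈ commutator Q := by
  have : Fact (Nat.Prime 2) := ⟨Nat.prime_two⟩
  have hEp : IsPGroup 2 E := fun x => ⟨1, by
    apply Subtype.ext
    rw [pow_one]
    exact hE _ x.2⟩
  obtain ⟨Q, hQ⟩ := hEp.exists_le_sylow
  refine ⟨Q, hQ, ?_⟩
  obtain ⟨P⟩ : Nonempty (Sylow 2 G) := inferInstance
  let Q' : Sylow 2 Y := P.mapSurjective hf
  have h1 : ∀ x : Q', x ^ 2 ∈ commutator Q' :=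
    sq_of_surj (P := P) (Q := ((P : Subgroup G).map f)) (f.subgroupMap (P : Subgroup G))
      (f.subgroupMap_surjective _) (h P)
  exact sq_of_surj (Sylow.equiv Q' Q).toMonoidHom (Sylow.equiv Q' Q).surjective h1

theorem card_subgroupOf_eq {E Q : Subgroup Y} (h : E ≤ Q) : Nat.card (E.subgroupOf Q) = Nat.card E :=
  Nat.card_congr (subgroupOfEquivOfLe h).toEquiv

theorem dd_three_of_elementary [Finite G] [Finite Y] (f : G →* Y) (hf : Function.Surjective f)
    (h : ∀ (P : Sylow 2 G) (x : P), x ^ 2 ∈ commutator P) {E : Subgroup Y} (hE : ∀ x ∈ E, x ^ 2 = 1)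
    (hc : 4 < Nat.card E) : DD 3 Y := by
  obtain ⟨Q, hEQ, h1⟩ := exists_sylow_sq f hf h hE
  refine dd_of_sylow Q (rk_three Q.2 h1 (E := E.subgroupOf Q) ?_ ?_)
  · intro x hx
    exact Subtype.ext (hE _ (mem_subgroupOf.1 hx))
  · rwa [card_subgroupOf_eq hEQ]

theorem dd_two_of_elementary [Finite G] [Finite Y] (f : G →* Y) (hf : Function.Surjective f)
    (h : ∀ (P : Sylow 2 G) (x : P), x ^ 2 ∈ commutator P) {E : Subgroup Y} (hE : ∀ x ∈ E, x ^ 2 = 1)
    (hc : 2 < Nat.card E) : DD 2 Y := by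
  obtain ⟨Q, hEQ, h1⟩ := exists_sylow_sq f hf h hE
  refine dd_of_sylow Q (rk_two Q.2 h1 (E := E.subgroupOf Q) ?_ ?_)
  · intro x hx
    exact Subtype.ext (hE _ (mem_subgroupOf.1 hx))
  · rwa [card_subgroupOf_eq hEQ]

/-- homomorphisms with range of odd index -/
theorem dd_of_hom {X : Type w} [Group X] [Finite X] [Finite G] [Finite Y] (φ : X →* G) (hi : ¬ 2 ∣ φ.range.index)
    (f : X →* Y) (hf : Function.Surjective f) (hk : ∀ x, φ x = 1 → f x = 1) (h : DD n Y) : DD n G := by
  have : Fact (Nat.Prime 2) := ⟨Nat.prime_two⟩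
  obtain ⟨P⟩ : Nonempty (Sylow 2 X) := inferInstance
  set H : Subgroup G := (P : Subgroup X).map φ with hH
  have hcard : Nat.card H = 2 ^ (Nat.card G).factorization 2 := by
    let PM : Sylow 2 φ.range := P.mapSurjective φ.rangeRestrict_surjective
    have h1 : H = (PM : Subgroup φ.range).map φ.range.subtype := by
      show _ = ((P : Subgroup X).map φ.rangeRestrict).map φ.range.subtype
      rw [map_map, hH]
      congr 1
    rw [h1, Subgroup.card_map_of_injective φ.range.subtype_injective, PM.card_eq_multiplicity]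
    congr 1
    rw [← φ.range.card_mul_index, Nat.factorization_mul Nat.card_pos.ne' index_ne_zero_of_finite, Finsupp.add_apply,
      Nat.factorization_eq_zero_of_not_dvd hi, add_zero]
  let Q : Sylow 2 G := Sylow.ofCard H hcard
  refine dd_of_sylow Q ?_
  obtain ⟨g, hg⟩ := h (P.mapSurjective hf)
  let g0 : ((P : Subgroup X).map f) →* Multiplicative (Fin n → ZMod 2) := g
  let g' : P →* Multiplicative (Fin n → ZMod 2) := g0.comp (f.subgroupMap (P : Subgroup X))
  have hg' : Function.Surjective g' := by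
    have h1 : Function.Surjective g0 := hg
    exact h1.comp (f.subgroupMap_surjective _)
  let p : P →* H := φ.subgroupMap (P : Subgroup X)
  have hp : Function.Surjective p := φ.subgroupMap_surjective _
  have hker : p.ker ≤ g'.ker := by
    intro x hx
    have h1 : φ (x : X) = 1 := congrArg Subtype.val (MonoidHom.mem_ker.1 hx)
    have h2 : f.subgroupMap (P : Subgroup X) x = 1 := Subtype.ext (hk _ h1)
    show g0 _ = 1
    rw [h2, map_one]
  let k : H →* Multiplicative (Fin n → ZMod 2) := p.liftOfSurjective hp ⟨g', hker⟩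
  refine ⟨k, fun c => ?_⟩
  obtain ⟨x, hx⟩ := hg' c
  refine ⟨p x, ?_⟩
  rw [← hx]
  exact p.liftOfRightInverse_comp_apply _ _ ⟨g', hker⟩ x

/-- 2-groups -/
theorem dd_of_rk [Finite G] (hG : IsPGroup 2 G) (h : Rk n G) : DD n G := by
  have : Fact (Nat.Prime 2) := ⟨Nat.prime_two⟩
  intro Q
  have h1 : (Q : Subgroup G) = ⊤ := by
    have h2 : IsPGroup 2 (⊤ : Subgroup G) := hG.to_subgroup ⊤
    exact (Q.3 h2 le_top).symm
  refine rk_congr ?_ h
  exact topEquiv.symm.trans (MulEquiv.subgroupCongr h1.symm)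

/-- products with an elementary abelian group -/
theorem dd_prod [Finite Y] (h : DD n Y) {C : Type w} [CommGroup C] [Finite C] (hC : ∀ c : C, c ^ 2 = 1) {m : ℕ}
    (hm : 2 ^ m ≤ Nat.card C) : DD (n + m) (Y × C) := by
  have : Fact (Nat.Prime 2) := ⟨Nat.prime_two⟩
  obtain ⟨Q⟩ : Nonempty (Sylow 2 Y) := inferInstance
  obtain ⟨g, hg⟩ := h Q
  have hCp : IsPGroup 2 C := fun c => ⟨1, by rw [pow_one]; exact hC c⟩
  have hrk : Rk (n + m) (Q × C) := by
    have h1 : Rk (n + m) (Multiplicative (Fin n → ZMod 2) × C) := by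
      refine rk_of_elem ?_ ?_
      · rintro ⟨a, c⟩
        refine Prod.ext ?_ (hC c)
        show a ^ 2 = 1
        have h2 : (2 : ℕ) • (Multiplicative.toAdd a) = 0 := by
          funext i
          show (2 : ℕ) • (Multiplicative.toAdd a i) = 0
          rw [nsmul_eq_mul]
          have h3 : ((2 : ℕ) : ZMod 2) = 0 := ZMod.natCast_self 2
          rw [h3, zero_mul]
        exact congrArg Multiplicative.ofAdd h2
      · rw [Nat.card_prod, pow_add]
        have h2 : Nat.card (Multiplicative (Fin n → ZMod 2)) = 2 ^ n := by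
          show Nat.card (Fin n → ZMod 2) = 2 ^ n
          rw [Nat.card_fun, Nat.card_zmod, Nat.card_fin]
        rw [h2]
        exact Nat.mul_le_mul_left _ hm
    refine rk_of_surj (g.prodMap (MonoidHom.id C)) ?_ h1
    exact hg.prodMap Function.surjective_id
  have hp : IsPGroup 2 (Q × C) := by
    rw [IsPGroup.iff_card]
    obtain ⟨a, ha⟩ := IsPGroup.iff_card.1 Q.2
    obtain ⟨b, hb⟩ := IsPGroup.iff_card.1 hCp
    exact ⟨a + b, by rw [Nat.card_prod, pow_add]; exact congrArg₂ _ ha hb⟩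
  refine dd_of_hom (X := Q × C) ((Q : Subgroup Y).subtype.prodMap (MonoidHom.id C)) ?_ (MonoidHom.id _)
    Function.surjective_id ?_ (dd_of_rk hp hrk)
  · have h1 : Function.Injective ((Q : Subgroup Y).subtype.prodMap (MonoidHom.id C)) :=
      (Q : Subgroup Y).subtype_injective.prodMap Function.injective_id
    have h2 := ((Q : Subgroup Y).subtype.prodMap (MonoidHom.id C)).range.card_mul_index
    rw [← Nat.card_congr (MonoidHom.ofInjective h1).toEquiv, Nat.card_prod, Nat.card_prod] at h2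
    have h3 := (Q : Subgroup Y).card_mul_index
    have h4 : ((Q : Subgroup Y).subtype.prodMap (MonoidHom.id C)).range.index = (Q : Subgroup Y).index := by
      have h5 : 0 < Nat.card (Q : Subgroup Y) * Nat.card C := Nat.mul_pos Nat.card_pos Nat.card_pos
      have h6 : Nat.card (Q : Subgroup Y) * Nat.card C * ((Q : Subgroup Y).subtype.prodMap (MonoidHom.id C)).range.index =
          Nat.card (Q : Subgroup Y) * Nat.card C * (Q : Subgroup Y).index := by
        refine h2.trans ?_
        rw [← h3]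
        ring
      exact Nat.eq_of_mul_eq_mul_left h5 h6
    rw [h4]
    exact Q.not_dvd_index
  · rintro ⟨a, c⟩ hx
    have h1 : (a : Y) = 1 := congrArg Prod.fst hx
    have h2 : c = 1 := congrArg Prod.snd hx
    exact Prod.ext (Subtype.ext h1) h2

end DD

/-! ### Elementary abelian subgroups -/

section Elem

variable {Y : Type u} [Group Y]

theorem closure_sq {S : Set Y} (hc : ∀ x ∈ S, ∀ y ∈ S, x * y = y * x) (h2 : ∀ x ∈ S, x ^ 2 = 1) :
    ∀ x ∈ closure S, x ^ 2 = 1 := by
  have h1 : ∀ x ∈ closure S, ∀ y ∈ closure S, x * y = y * x := by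
    have h3 : ∀ x ∈ S, ∀ y ∈ closure S, x * y = y * x := by
      intro x hx y hy
      have h4 : closure S ≤ centralizer {x} := by
        rw [closure_le]
        intro z hz
        rw [SetLike.mem_coe, mem_centralizer_singleton_iff]
        exact (hc x hx z hz).symm
      exact (mem_centralizer_singleton_iff.1 (h4 hy)).symm
    intro x hx y hy
    have h4 : closure S ≤ centralizer {y} := by
      rw [closure_le]
      intro z hz
      rw [SetLike.mem_coe, mem_centralizer_singleton_iff]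
      exact h3 z hz y hy
    exact mem_centralizer_singleton_iff.1 (h4 hx)
  intro x hx
  induction hx using closure_induction with
  | mem x hx => exact h2 x hx
  | one => exact one_pow 2
  | mul x y hx hy ihx ihy =>
    have h3 : Commute x y := h1 x hx y hy
    rw [h3.mul_pow, ihx, ihy, mul_one]
  | inv x hx ih => rw [inv_pow, ih, inv_one]

theorem exists_E_three [Finite Y] {a b c : Y} (ha : a ^ 2 = 1) (hb : b ^ 2 = 1) (hc : c ^ 2 = 1) (hab : a * b = b * a)
    (hac : a * c = c * a) (hbc : b * c = c * b) (h1 : a ≠ 1) (h2 : b ≠ 1) (h3 : a ≠ b) (h4 : c ≠ 1) (h5 : c ≠ a)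
    (h6 : c ≠ b) (h7 : c ≠ a * b) : ∃ E : Subgroup Y, (∀ x ∈ E, x ^ 2 = 1) ∧ 4 < Nat.card E := by
  refine ⟨closure {a, b, c}, closure_sq ?_ ?_, ?_⟩
  · rintro x (rfl | rfl | rfl) y (rfl | rfl | rfl) <;> first | rfl | assumption | exact hab.symm | exact hac.symm | exact hbc.symm
  · rintro x (rfl | rfl | rfl) <;> assumption
  · have haE : a ∈ closure {a, b, c} := subset_closure (by simp)
    have hbE : b ∈ closure {a, b, c} := subset_closure (by simp)
    have hcE : c ∈ closure {a, b, c} := subset_closure (by simp)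
    have h8 : a * b ≠ 1 := by
      intro h
      apply h3
      have h9 : a * a = 1 := by rwa [pow_two] at ha
      exact mul_left_cancel (h9.trans h.symm)
    have h9 : a * b ≠ a := fun h => h2 (mul_eq_left.1 h)
    have h10 : a * b ≠ b := fun h => h1 (mul_eq_right.1 h)
    let f : Fin 5 → closure {a, b, c} := ![1, ⟨a, haE⟩, ⟨b, hbE⟩, ⟨a * b, mul_mem haE hbE⟩, ⟨c, hcE⟩]
    have hf : Function.Injective f := by
      intro i j hij
      have h11 : ((f i : closure {a, b, c}) : Y) = f j := congrArg Subtype.val hij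
      fin_cases i <;> fin_cases j <;> [rfl;
                                       (
                                                    (exfalso; revert h11) <;>
        (exact h1.symm));
                                       (
                                                    (exfalso; revert h11) <;>
        (exact h2.symm));
                                       (
                                                    (exfalso; revert h11) <;>
        (exact h8.symm));
                                       (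
                                                    (exfalso; revert h11) <;>
        (exact h4.symm));
                                       (
                                                    (exfalso; revert h11) <;>
        (exact h1));
                                       rfl;
                                       (
                                                    (exfalso; revert h11) <;>
        (exact h3));
                                       (
                                                    (exfalso; revert h11) <;>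
        (exact h9.symm));
                                       (
                                                    (exfalso; revert h11) <;>
        (exact h5.symm));
                                       (
                                                    (exfalso; revert h11) <;>
        (exact h2));
                                       (
                                                    (exfalso; revert h11) <;>
        (exact h3.symm));
                                       rfl;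
                                       (
                                                    (exfalso; revert h11) <;>
        (exact h10.symm));
                                       (
                                                    (exfalso; revert h11) <;>
        (exact h6.symm));
                                       (
                                                    (exfalso; revert h11) <;>
        (exact h8));
                                       (
                                                    (exfalso; revert h11) <;>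
        (exact h9));
                                       (
                                                    (exfalso; revert h11) <;>
        (exact h10));
                                       rfl;
                                       (
                                                    (exfalso; revert h11) <;>
        (exact h7.symm));
                                       (
                                                    (exfalso; revert h11) <;>
        (exact h4));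
                                       (
                                                    (exfalso; revert h11) <;>
        (exact h5));
                                       (
                                                    (exfalso; revert h11) <;>
        (exact h6));
                                       (
                                                    (exfalso; revert h11) <;>
        (exact h7));
                                       rfl]
    have h11 := Nat.card_le_card_of_injective f hf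
    rw [Nat.card_fin] at h11
    omega

theorem exists_E_two [Finite Y] {a b : Y} (ha : a ^ 2 = 1) (hb : b ^ 2 = 1) (hab : a * b = b * a) (h1 : a ≠ 1) (h2 : b ≠ 1)
    (h3 : a ≠ b) : ∃ E : Subgroup Y, (∀ x ∈ E, x ^ 2 = 1) ∧ 2 < Nat.card E := by
  refine ⟨closure {a, b}, closure_sq ?_ ?_, ?_⟩
  · rintro x (rfl | rfl) y (rfl | rfl) <;> first | rfl | assumption | exact hab.symm
  · rintro x (rfl | rfl) <;> assumption
  · have haE : a ∈ closure {a, b} := subset_closure (by simp)
    have hbE : b ∈ closure {a, b} := subset_closure (by simp)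
    let f : Fin 3 → closure {a, b} := ![1, ⟨a, haE⟩, ⟨b, hbE⟩]
    have hf : Function.Injective f := by
      intro i j hij
      have h11 : ((f i : closure {a, b}) : Y) = f j := congrArg Subtype.val hij
      fin_cases i <;> fin_cases j <;> first | rfl | (exfalso; revert h11) <;>
        first | exact h1 | exact h2 | exact h3 | exact h1.symm | exact h2.symm | exact h3.symm
    have h11 := Nat.card_le_card_of_injective f hf
    rw [Nat.card_fin] at h11
    omega

end Elem

end Cfsg.Agent.H83.K547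
end

-- part: H83/K547/Mono
section
/-!
# S4547: monomial subgroups of `SL_n(q)`, `q ≡ 1` mod 4 (helper83)

* `XM n F = (Fin n → Fˣ) ⋊ Perm (Fin n)`, `mono : XM n F →* GL (Fin n) F`; `v_card_XM` : same 2-part as `GL_n(q)`;
* `index_SL` : a homomorphism `ψ : X →* SL_n(q)` with `card`... .
-/

set_option autoImplicit false

namespace Cfsg.Agent.H83.K547

open Subgroup Cfsg Cfsg.Agent.H821.K547 Matrix Equiv Cfsg.Agent.H637

universe u

section Mono

variable (n : ℕ) (F : Type u) [Field F]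

/-- permutations acting on diagonal matrices -/
def pact : Perm (Fin n) →* MulAut (Fin n → Fˣ) where
  toFun σ :=
    { toFun := fun t i => t (σ⁻¹ i)
      invFun := fun t i => t (σ i)
      left_inv := fun t => by funext i; simp
      right_inv := fun t => by funext i; simp
      map_mul' := fun _ _ => rfl }
  map_one' := rfl
  map_mul' σ τ := by
    ext t i
    show ((t ((σ * τ)⁻¹ i) : Fˣ) : F) = t (τ⁻¹ (σ⁻¹ i))
    rw [_root_.mul_inv_rev, Perm.mul_apply]

/-- the monomial group -/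
abbrev XM := (Fin n → Fˣ) ⋊[pact n F] Perm (Fin n)

/-- the diagonal matrices -/
def dgGL : (Fin n → Fˣ) →* GL (Fin n) F where
  toFun t :=
    { val := diagonal fun i => (t i : F)
      inv := diagonal fun i => ((t i)⁻¹ : Fˣ)
      val_inv := by rw [diagonal_mul_diagonal, ← diagonal_one]; congr 1; funext i; simp
      inv_val := by rw [diagonal_mul_diagonal, ← diagonal_one]; congr 1; funext i; simp }
  map_one' := by
    apply Units.ext
    show diagonal (fun i => ((1 : Fˣ) : F)) = 1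
    rw [← diagonal_one]
    rfl
  map_mul' s t := by
    apply Units.ext
    show diagonal (fun i => ((s i * t i : Fˣ) : F)) = diagonal (fun i => (s i : F)) * diagonal (fun i => (t i : F))
    rw [diagonal_mul_diagonal]
    rfl

variable {n F}

theorem coe_dgGL (t : Fin n → Fˣ) : (dgGL n F t : Matrix (Fin n) (Fin n) F) = diagonal fun i => (t i : F) := rfl

theorem permGL_apply (σ : Perm (Fin n)) (i j : Fin n) :
    (permGL (Fin n) F σ : Matrix (Fin n) (Fin n) F) i j = if σ⁻¹ i = j then 1 else 0 := by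
  rw [coe_permGL]
  show PEquiv.toMatrix (Equiv.toPEquiv (σ⁻¹)) i j = _
  rw [PEquiv.toMatrix_apply]
  simp [Equiv.toPEquiv_apply, eq_comm]

theorem mono_compat (σ : Perm (Fin n)) : (dgGL n F).comp (pact n F σ).toMonoidHom =
    (MulAut.conj (permGL (Fin n) F σ)).toMonoidHom.comp (dgGL n F) := by
  ext t : 1
  show dgGL n F (pact n F σ t) = permGL (Fin n) F σ * dgGL n F t * (permGL (Fin n) F σ)⁻¹
  rw [eq_mul_inv_iff_mul_eq]
  apply Units.ext
  show (dgGL n F (pact n F σ t) : Matrix (Fin n) (Fin n) F) * (permGL (Fin n) F σ : Matrix (Fin n) (Fin n) F) =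
    (permGL (Fin n) F σ : Matrix (Fin n) (Fin n) F) * (dgGL n F t : Matrix (Fin n) (Fin n) F)
  rw [coe_dgGL, coe_dgGL]
  ext i j
  rw [diagonal_mul, mul_diagonal, permGL_apply]
  show (t (σ⁻¹ i) : F) * (if σ⁻¹ i = j then 1 else 0) = (if σ⁻¹ i = j then 1 else 0) * (t j : F)
  by_cases h : σ⁻¹ i = j
  · rw [if_pos h, h, mul_one, one_mul]
  · rw [if_neg h, mul_zero, zero_mul]

variable (n F) in
/-- monomial matrices -/
def mono : XM n F →* GL (Fin n) F := SemidirectProduct.lift (dgGL n F) (permGL (Fin n) F) mono_compat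

theorem mono_eq (x : XM n F) : mono n F x = dgGL n F x.left * permGL (Fin n) F x.right := rfl

theorem mono_apply (x : XM n F) (i j : Fin n) :
    (mono n F x : Matrix (Fin n) (Fin n) F) i j = if x.right⁻¹ i = j then (x.left i : F) else 0 := by
  rw [mono_eq, Units.val_mul, coe_dgGL, diagonal_mul, permGL_apply]
  by_cases h : x.right⁻¹ i = j
  · rw [if_pos h, if_pos h, mul_one]
  · rw [if_neg h, if_neg h, mul_zero]

theorem mono_scalar {x : XM n F} {r : F} (h : (mono n F x : Matrix (Fin n) (Fin n) F) = scalar (Fin n) r) :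
    x.right = 1 ∧ ∀ i, (x.left i : F) = r := by
  have key : ∀ i j, (if x.right⁻¹ i = j then (x.left i : F) else 0) = if i = j then r else 0 := by
    intro i j
    rw [← mono_apply, h, scalar_apply, diagonal_apply]
  have h1 : x.right = 1 := by
    rw [← inv_eq_one]
    ext i
    have h2 := key i (x.right⁻¹ i)
    rw [if_pos rfl] at h2
    by_cases h3 : i = x.right⁻¹ i
    · exact congrArg Fin.val h3.symm
    · rw [if_neg h3] at h2
      exact absurd h2 (Units.ne_zero _)
  refine ⟨h1, fun i => ?_⟩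
  have h2 := key i i
  rw [h1, if_pos (by rfl), if_pos rfl] at h2
  exact h2

theorem mono_injective : Function.Injective (mono n F) := by
  rw [injective_iff_map_eq_one]
  intro x hx
  have h1 : (mono n F x : Matrix (Fin n) (Fin n) F) = scalar (Fin n) (1 : F) := by
    rw [hx, map_one]; rfl
  obtain ⟨h2, h3⟩ := mono_scalar h1
  refine SemidirectProduct.ext ?_ h2
  funext i
  exact Units.ext (h3 i)

theorem det_mono (x : XM n F) : Matrix.GeneralLinearGroup.det (mono n F x) =
    (∏ i, x.left i) * Units.map (Int.castRingHom F).toMonoidHom (Perm.sign x.right) := by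
  rw [mono_eq, map_mul, det_permGL]
  congr 1
  apply Units.ext
  show (diagonal fun i => (x.left i : F)).det = ((∏ i, x.left i : Fˣ) : F)
  rw [det_diagonal, Units.coe_prod]

variable [Fintype F]

theorem v_add_one (hF : 4 ∣ Fintype.card F - 1) : padicValNat 2 (Fintype.card F + 1) = 1 := by
  have h1 : 1 < Fintype.card F := Fintype.one_lt_card
  obtain ⟨k, hk⟩ := hF
  have h2 : Fintype.card F + 1 = 2 * (2 * k + 1) := by omega
  rw [h2, padicValNat.mul (by norm_num) (by omega), padicValNat.self (by norm_num),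
    padicValNat.eq_zero_of_not_dvd (by omega)]

theorem odd_card (hF : 4 ∣ Fintype.card F - 1) : Odd (Fintype.card F) := by
  have h1 : 1 < Fintype.card F := Fintype.one_lt_card
  obtain ⟨k, hk⟩ := hF
  exact ⟨2 * k, by omega⟩

theorem v_pow (hF : 4 ∣ Fintype.card F - 1) (m : ℕ) : padicValNat 2 (Fintype.card F ^ (m + 1) - 1) =
    padicValNat 2 (Fintype.card F - 1) + padicValNat 2 (m + 1) := by
  have h1 : 1 < Fintype.card F := Fintype.one_lt_card
  have hodd := odd_card hF
  rcases Nat.even_or_odd' m with ⟨j, rfl | rfl⟩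
  · rw [val_pow_odd _ hodd h1, padicValNat.eq_zero_of_not_dvd (n := 2 * j + 1) (by omega), add_zero]
  · have e : 2 * j + 1 + 1 = 2 * (j + 1) := by ring
    rw [e, val_pow_even _ hodd h1 _ (Nat.succ_ne_zero j), padicValNat.mul (by norm_num) (Nat.succ_ne_zero j),
      padicValNat.self (by norm_num)]
    have h2 : Fintype.card F ^ 2 - 1 = (Fintype.card F - 1) * (Fintype.card F + 1) := by
      obtain ⟨k, hk⟩ : ∃ k, Fintype.card F = k + 1 := ⟨Fintype.card F - 1, by omega⟩
      rw [hk, Nat.add_sub_cancel]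
      have : (k + 1) ^ 2 = k * (k + 1 + 1) + 1 := by ring
      omega
    rw [h2, padicValNat.mul (by omega) (by omega), v_add_one hF]
    ring

theorem gv_eq (hF : 4 ∣ Fintype.card F - 1) (m : ℕ) :
    gv F m = m * padicValNat 2 (Fintype.card F - 1) + padicValNat 2 m.factorial := by
  induction m with
  | zero => simp [gv_zero]
  | succ m ih =>
    rw [gv_succ (odd_card hF), ih, v_pow hF, Nat.factorial_succ,
      padicValNat.mul (Nat.succ_ne_zero m) (Nat.factorial_ne_zero m)]
    ring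

theorem card_XM : Nat.card (XM n F) = (Fintype.card F - 1) ^ n * n.factorial := by
  rw [SemidirectProduct.card, Nat.card_fun, Nat.card_fin, Nat.card_perm, Nat.card_fin, Nat.card_units,
    Nat.card_eq_fintype_card]

instance : Finite (XM n F) := Nat.finite_of_card_ne_zero (by
  rw [card_XM]
  have h1 : 1 < Fintype.card F := Fintype.one_lt_card
  exact mul_ne_zero (pow_ne_zero _ (by omega)) (Nat.factorial_ne_zero n))

theorem v_card_XM (hF : 4 ∣ Fintype.card F - 1) : padicValNat 2 (Nat.card (XM n F)) = gv F n := by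
  have h1 : 1 < Fintype.card F := Fintype.one_lt_card
  have h2 : padicValNat 2 ((Fintype.card F - 1) ^ n) = n * padicValNat 2 (Fintype.card F - 1) :=
    padicValNat.pow _ _
  rw [card_XM, gv_eq hF, padicValNat.mul (pow_ne_zero _ (by omega)) (Nat.factorial_ne_zero n), h2]

end Mono

/-! ### `SL` and `PSL` -/

section SL

variable {n : ℕ} {F : Type u} [Field F]

/-- a homomorphism into `GL` with determinants 1 -/
def toSL {X : Type*} [Group X] (φ : X →* GL (Fin n) F) (h : ∀ x, Matrix.GeneralLinearGroup.det (φ x) = 1) :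
    X →* SpecialLinearGroup (Fin n) F where
  toFun x := ⟨(φ x : Matrix (Fin n) (Fin n) F), congrArg Units.val (h x)⟩
  map_one' := Subtype.ext (by show ((φ 1 : GL (Fin n) F) : Matrix (Fin n) (Fin n) F) = 1; rw [map_one]; rfl)
  map_mul' x y := Subtype.ext (by
    show ((φ (x * y) : GL (Fin n) F) : Matrix (Fin n) (Fin n) F) = (φ x : Matrix (Fin n) (Fin n) F) * φ y
    rw [map_mul]; rfl)

theorem toSL_injective {X : Type*} [Group X] {φ : X →* GL (Fin n) F}
    (h : ∀ x, Matrix.GeneralLinearGroup.det (φ x) = 1) (hφ : Function.Injective φ) :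
    Function.Injective (toSL φ h) := fun _ _ hab => hφ (Units.ext (congrArg Subtype.val hab))

/-- the homomorphism into `PSL` -/
def toPSL {X : Type*} [Group X] (φ : X →* GL (Fin n) F) (h : ∀ x, Matrix.GeneralLinearGroup.det (φ x) = 1) :
    X →* ProjectiveSpecialLinearGroup (Fin n) F := (QuotientGroup.mk' _).comp (toSL φ h)

theorem toPSL_eq_one {X : Type*} [Group X] {φ : X →* GL (Fin n) F}
    {h : ∀ x, Matrix.GeneralLinearGroup.det (φ x) = 1} {x : X} (hx : toPSL φ h x = 1) :
    ∃ r : F, (φ x : Matrix (Fin n) (Fin n) F) = scalar (Fin n) r := by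
  have h1 : toSL φ h x ∈ center (SpecialLinearGroup (Fin n) F) := (QuotientGroup.eq_one_iff _).1 hx
  obtain ⟨r, -, hr⟩ := Matrix.SpecialLinearGroup.mem_center_iff.1 h1
  exact ⟨r, hr.symm⟩

instance [Finite F] : Finite (ProjectiveSpecialLinearGroup (Fin n) F) :=
  inferInstanceAs (Finite (SpecialLinearGroup (Fin n) F ⧸ center (SpecialLinearGroup (Fin n) F)))

theorem index_toPSL [Finite F] {X : Type*} [Group X] {φ : X →* GL (Fin n) F}
    {h : ∀ x, Matrix.GeneralLinearGroup.det (φ x) = 1} (hi : ¬ 2 ∣ (toSL φ h).range.index) :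
    ¬ 2 ∣ (toPSL φ h).range.index := by
  intro h2
  apply hi
  refine h2.trans ?_
  have h3 : (toPSL φ h).range = (toSL φ h).range.map (QuotientGroup.mk' _) := by
    rw [toPSL, MonoidHom.range_comp]
  rw [h3]
  exact Subgroup.index_map_dvd _ (QuotientGroup.mk'_surjective _)

variable [Fintype F]

theorem card_SL_mul [NeZero n] : Nat.card (SpecialLinearGroup (Fin n) F) * (Fintype.card F - 1) = Nat.card (GL (Fin n) F) := by
  have h1 : Function.Surjective (Matrix.GeneralLinearGroup.det : GL (Fin n) F →* Fˣ) := by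
    intro u
    refine ⟨dgGL n F (Function.update 1 0 u), ?_⟩
    apply Units.ext
    show (diagonal fun i => ((Function.update (1 : Fin n → Fˣ) 0 u i : Fˣ) : F)).det = (u : F)
    rw [det_diagonal, ← Units.coe_prod, Finset.prod_update_of_mem (Finset.mem_univ _)]
    simp
  have h2 := (Matrix.GeneralLinearGroup.det : GL (Fin n) F →* Fˣ).ker.card_mul_index
  rw [Subgroup.index_ker, MonoidHom.range_eq_top.2 h1, Subgroup.card_top, Nat.card_units, Nat.card_eq_fintype_card (α := F)] at h2
  have h3 : Nat.card (Matrix.GeneralLinearGroup.det : GL (Fin n) F →* Fˣ).ker = Nat.card (SpecialLinearGroup (Fin n) F) := by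
    have h4 : Function.Injective (Matrix.SpecialLinearGroup.toGL : SpecialLinearGroup (Fin n) F →* GL (Fin n) F) :=
      fun a b hab => Subtype.ext (congrArg Units.val hab)
    have h5 : (Matrix.SpecialLinearGroup.toGL : SpecialLinearGroup (Fin n) F →* GL (Fin n) F).range =
        (Matrix.GeneralLinearGroup.det : GL (Fin n) F →* Fˣ).ker := by
      ext g
      constructor
      · rintro ⟨h, rfl⟩
        exact Units.ext h.2
      · intro hg
        exact ⟨⟨(g : Matrix (Fin n) (Fin n) F), congrArg Units.val hg⟩, Units.ext rfl⟩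
    rw [← h5]
    exact (Nat.card_congr (MonoidHom.ofInjective h4).toEquiv).symm
  rw [← h3]
  exact h2

theorem v_card_SL [NeZero n] : padicValNat 2 (Nat.card (SpecialLinearGroup (Fin n) F)) + padicValNat 2 (Fintype.card F - 1) =
    gv F n := by
  have h1 : 1 < Fintype.card F := Fintype.one_lt_card
  rw [gv, ← card_SL_mul, padicValNat.mul Nat.card_pos.ne' (by omega)]

/-- index of an injective homomorphism, by 2-parts -/
theorem index_of_v {X : Type*} {G : Type*} [Group X] [Group G] [Finite X] [Finite G] {ψ : X →* G}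
    (hψ : Function.Injective ψ) (hv : padicValNat 2 (Nat.card X) = padicValNat 2 (Nat.card G)) :
    ¬ 2 ∣ ψ.range.index := by
  intro h2
  have h1 := ψ.range.card_mul_index
  rw [← Nat.card_congr (MonoidHom.ofInjective hψ).toEquiv] at h1
  have h3 : ψ.range.index ≠ 0 := index_ne_zero_of_finite
  rw [← h1, padicValNat.mul Nat.card_pos.ne' h3] at hv
  have h4 := one_le_padicValNat_of_dvd h3 h2
  omega

end SL

end Cfsg.Agent.H83.K547
end

private theorem dce_52cf176f1471 : _root_.True := by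
  try have : _root_.True := by simp only [_root_.Cfsg.Agent.H83.K547.toPSL.eq_1]
  exact _root_.True.intro
end

-- part: H671/K547/Congr
section
set_option linter.all false
open scoped Cfsg.Agent.FastGrp

/-!
# S4547: transport of the rows along isomorphisms, across universes (helper671)

`row_congr`, `extRow_congr`, `baseRow_congr`, `d3_congr`, `xcond_congr`, `gInv3_congr_iff`, `d3_autExt_congr_iff`.
-/

set_option autoImplicit false

namespace Cfsg.Agent.H671.K547

open Cfsg Cfsg.Agent.H601.K4 Cfsg.Agent.H821.K547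

universe u v

section

variable {S : Type u} {T : Type v} [Group S] [Group T]

theorem rk_congr {n : ℕ} (e : S ≃* T) (h : Rk n T) : Rk n S := by
  obtain ⟨f, hf⟩ := h
  exact ⟨f.comp e.toMonoidHom, hf.comp e.surjective⟩

theorem d3_congr [Finite S] (e : S ≃* T) (h : D3 T) : D3 S := by
  have : Fact (Nat.Prime 2) := ⟨Nat.prime_two⟩
  intro Q
  have h1 := h (Q.mapSurjective (f := e.toMonoidHom) e.surjective)
  exact rk_congr ((Q : Subgroup S).equivMapOfInjective e.toMonoidHom e.injective) h1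

theorem d3_congr_iff [Finite S] (e : S ≃* T) : D3 T ↔ D3 S := by
  have : Finite T := Finite.of_equiv S e.toEquiv
  exact ⟨d3_congr e, d3_congr e.symm⟩

theorem xcond_congr (e : S ≃* T) (h : XCond T) : XCond S := by
  obtain ⟨x, n, hx, hn⟩ := h
  refine ⟨e.symm x, n, by rw [MulEquiv.orderOf_eq, hx], fun hd => hn ?_⟩
  have hmap : (Subgroup.normalizer (Subgroup.zpowers (e.symm x) : Set S)).map e.toMonoidHom ≤
      Subgroup.normalizer (Subgroup.zpowers x : Set T) := by
    rintro _ ⟨g, hg, rfl⟩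
    rw [Subgroup.mem_normalizer_iff]
    intro y
    have h1 := (Subgroup.mem_normalizer_iff.1 hg) (e.symm y)
    have h2 : ∀ z : T, z ∈ (Subgroup.zpowers x : Set T) ↔ e.symm z ∈ (Subgroup.zpowers (e.symm x) : Set S) := by
      intro z
      constructor
      · rintro ⟨k, rfl⟩
        exact ⟨k, (map_zpow e.symm x k).symm⟩
      · rintro ⟨k, hk⟩
        refine ⟨k, e.symm.injective ?_⟩
        rw [← hk]
        exact map_zpow e.symm x k
    show y ∈ (Subgroup.zpowers x : Set T) ↔ _ ∈ (Subgroup.zpowers x : Set T)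
    rw [h2, h2]
    refine h1.trans ?_
    rw [show e.symm (e.toMonoidHom g * y * (e.toMonoidHom g)⁻¹) = g * e.symm y * g⁻¹ by simp]
    rfl
  have h3 : Nat.card ((Subgroup.normalizer (Subgroup.zpowers (e.symm x) : Set S)).map e.toMonoidHom) =
      Nat.card (Subgroup.normalizer (Subgroup.zpowers (e.symm x) : Set S)) :=
    (Nat.card_congr (Subgroup.equivMapOfInjective _ e.toMonoidHom e.injective).toEquiv).symm
  rw [← h3] at hd
  exact hd.trans (Subgroup.card_dvd_of_le hmap)

theorem baseRow_congr [Finite S] (e : S ≃* T) (h : BaseRow T) : BaseRow S := by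
  rcases h with ⟨h1, h2⟩ | h
  · exact Or.inl ⟨H740.K4.good5_of_equiv e h1, d3_congr e h2⟩
  · exact Or.inr (xcond_congr e h)

theorem congr_pow (e : S ≃* T) (τ : MulAut S) (n : ℕ) (x : T) :
    ((MulAut.congr e τ) ^ n) x = e ((τ ^ n) (e.symm x)) := by
  rw [← map_pow]
  rfl

theorem congr_app (e : S ≃* T) (τ : MulAut S) (x : S) : (MulAut.congr e τ) (e x) = e (τ x) := by
  show e (τ (e.symm (e x))) = _
  rw [e.symm_apply_apply]

theorem congr_symm (e : S ≃* T) (τ : MulAut S) : MulAut.congr e.symm (MulAut.congr e τ) = τ := by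
  ext x
  show e.symm (e (τ (e.symm (e x)))) = τ x
  rw [e.symm_apply_apply, e.symm_apply_apply]

theorem twoPow_congr (e : S ≃* T) {τ : MulAut S} (h : TwoPow τ) : TwoPow (MulAut.congr e τ) := by
  obtain ⟨k, s, hs⟩ := h
  exact ⟨k, e s, fun x => by rw [congr_pow, hs, map_mul, map_mul, map_inv, e.apply_symm_apply]⟩

theorem isInn_congr (e : S ≃* T) {τ : MulAut S} (h : IsInn τ) : IsInn (MulAut.congr e τ) := by
  obtain ⟨s, hs⟩ := h
  exact ⟨e s, fun x => by
    show e (τ (e.symm x)) = _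
    rw [hs, map_mul, map_mul, map_inv, e.apply_symm_apply]⟩

theorem isInn_congr_iff (e : S ≃* T) {τ : MulAut S} : IsInn (MulAut.congr e τ) ↔ IsInn τ :=
  ⟨fun h => by rw [← congr_symm e τ]; exact isInn_congr e.symm h, isInn_congr e⟩

theorem gInv3_congr (e : S ≃* T) {τ : MulAut S} (h : GInv3 (MulAut.congr e τ)) : GInv3 τ := by
  obtain ⟨χ, h1, h2⟩ := h
  refine ⟨fun i s => χ i (e s), fun i j hij => h1 ?_, fun i => ⟨H740.K4.good_comp e (h2 i).1, fun x => ?_⟩⟩
  · funext t
    have := congrFun hij (e.symm t)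
    simpa using this
  · have h3 := (h2 i).2 (e x)
    rw [congr_app] at h3
    exact h3

theorem gInv3_congr_iff (e : S ≃* T) {τ : MulAut S} : GInv3 (MulAut.congr e τ) ↔ GInv3 τ := by
  refine ⟨gInv3_congr e, fun h => gInv3_congr e.symm ?_⟩
  rwa [congr_symm]

theorem autExt_map (e : S ≃* T) (τ : MulAut S) :
    (AutExt τ).map (MulAut.congr e).toMonoidHom = AutExt (MulAut.congr e τ) := by
  unfold AutExt
  rw [Subgroup.map_sup, MonoidHom.map_zpowers, ← MonoidHom.range_comp]
  have h1 : ((MulAut.congr e).toMonoidHom.comp (MulAut.conj : S →* MulAut S)).range =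
      (MulAut.conj : T →* MulAut T).range := by
    have h2 : (MulAut.congr e).toMonoidHom.comp (MulAut.conj : S →* MulAut S) =
        (MulAut.conj : T →* MulAut T).comp e.toMonoidHom := by
      ext s t
      show e (s * e.symm t * s⁻¹) = e s * t * (e s)⁻¹
      rw [map_mul, map_mul, map_inv, e.apply_symm_apply]
    rw [h2, MonoidHom.range_comp, MonoidHom.range_eq_top.2 e.surjective, ← MonoidHom.range_eq_map]
  rw [h1]
  rfl

/-- the isomorphism of the extensions -/
noncomputable def autExtEquiv (e : S ≃* T) (τ : MulAut S) : AutExt τ ≃* AutExt (MulAut.congr e τ) :=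
  ((AutExt τ).equivMapOfInjective (MulAut.congr e).toMonoidHom (MulAut.congr e).injective).trans
    (MulEquiv.subgroupCongr (autExt_map e τ))

theorem finite_autExt [Finite S] (τ : MulAut S) : Finite (AutExt τ) := by
  have : Finite (MulAut S) := Finite.of_injective (fun f : MulAut S => (f : S → S)) DFunLike.coe_injective
  infer_instance

theorem d3_autExt_congr_iff [Finite S] (e : S ≃* T) (τ : MulAut S) :
    D3 (AutExt (MulAut.congr e τ)) ↔ D3 (AutExt τ) := by
  have := finite_autExt τ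
  exact d3_congr_iff (autExtEquiv e τ)

theorem extRow_congr [Finite S] (e : S ≃* T) {τ : MulAut S} (h : ExtRow T (MulAut.congr e τ)) : ExtRow S τ :=
  (gInv3_congr_iff e).symm.trans (h.trans (d3_autExt_congr_iff e τ))

/-- **Transport of the rows.** -/
theorem row_congr [Finite S] (e : S ≃* T) (h : Row T) : Row S where
  base := baseRow_congr e h.base
  ext τ h2 ho := extRow_congr e (h.ext _ (twoPow_congr e h2) fun hi => ho ((isInn_congr_iff e).1 hi))

end

section

variable {S : Type u} [Group S]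

/-- the standard row -/
theorem row_of (h5 : Good5 S) (hd : D3 S) (hi : GoodInv3 S)
    (he : ∀ τ : MulAut S, TwoPow τ → ¬ IsInn τ → D3 (AutExt τ)) : Row S where
  base := Or.inl ⟨h5, hd⟩
  ext τ h2 ho := ⟨fun _ => he τ h2 ho, fun _ => hi τ h2⟩

/-- the row of a group with few generators but three invariant good characters -/
theorem row_of_xcond (hx : XCond S) (hi : GoodInv3 S)
    (he : ∀ τ : MulAut S, TwoPow τ → ¬ IsInn τ → D3 (AutExt τ)) : Row S where
  base := Or.inr hx
  ext τ h2 ho := ⟨fun _ => he τ h2 ho, fun _ => hi τ h2⟩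

end

end Cfsg.Agent.H671.K547
end

-- part: H569/K547/M24
section
set_option linter.all false
open scoped Cfsg.Agent.FastGrp

-- part: H569/K547/Base
section
/-!
# S4547, tools: `D3` along subgroups of odd index and surjections, in any universes (helper569)
-/

set_option autoImplicit false

namespace Cfsg.Agent.H569.K547

open Cfsg Cfsg.Agent.H821.K547 Subgroup

universe u v

theorem rk_of_surj {P : Type u} {P' : Type v} [Group P] [Group P'] {n : ℕ} (f : P →* P')
    (hf : Function.Surjective f) (h : Rk n P') : Rk n P := by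
  obtain ⟨g, hg⟩ := h
  exact ⟨g.comp f, hg.comp hf⟩

theorem d3_of_sylow {G : Type u} [Group G] [Finite G] (Q : Sylow 2 G) (h : Rk 3 Q) : D3 G := fun R =>
  rk_of_surj (Sylow.equiv R Q).toMonoidHom (Sylow.equiv R Q).surjective h

/-- a subgroup of odd index with a quotient -/
theorem d3_of_map {G : Type u} {Y : Type v} [Group G] [Finite G] [Group Y] {M : Subgroup G} (hM : ¬ 2 ∣ M.index)
    (f : M →* Y) (hf : Function.Surjective f) (h : D3 Y) : D3 G := by
  have h2 : Fact (Nat.Prime 2) := ⟨Nat.prime_two⟩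
  have hY : Finite Y := Finite.of_surjective f hf
  let P : Sylow 2 M := default
  have hP : ¬ 2 ∣ ((P : Subgroup M).map M.subtype).index := by
    rw [index_map_subtype]
    intro hd
    rcases (Nat.prime_two.dvd_mul).1 hd with h1 | h1
    · exact P.not_dvd_index h1
    · exact hM h1
  let Q : Sylow 2 G := (P.isPGroup'.map M.subtype).toSylow hP
  refine d3_of_sylow Q ?_
  have e : (P : Subgroup M) ≃* (Q : Subgroup G) := (P : Subgroup M).equivMapOfInjective M.subtype M.subtype_injective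
  refine rk_of_surj e.symm.toMonoidHom e.symm.surjective ?_
  have h3 := h (P.mapSurjective hf)
  exact rk_of_surj (f.subgroupMap (P : Subgroup M)) (f.subgroupMap_surjective _) h3

theorem d3_of_equiv {G : Type u} {Y : Type v} [Group G] [Finite G] [Group Y] (e : G ≃* Y) (h : D3 Y) : D3 G := by
  refine d3_of_map (M := ⊤) (by rw [index_top]; norm_num) (e.toMonoidHom.comp (⊤ : Subgroup G).subtype) ?_ h
  intro y
  exact ⟨⟨e.symm y, mem_top _⟩, e.apply_symm_apply y⟩

/-- no outer automorphisms -/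
theorem row_of_inner {S : Type u} [Group S] (h : BaseRow S) (hin : ∀ τ : MulAut S, IsInn τ) : Row S :=
  ⟨h, fun τ _ hτ => absurd (hin τ) hτ⟩

end Cfsg.Agent.H569.K547
end

-- part: H569/K547/M24
section
/-!
# S4547: `D3 M24` (helper569), from the octad stabiliser `2⁴:A₈`
-/

set_option autoImplicit false

open scoped Pointwise

namespace Cfsg.Agent.H569.K547

open Cfsg Cfsg.Agent.H821.K547 Subgroup MulAction

theorem mem_iff_of_smul {g : Equiv.Perm GolayPt} {o : Finset GolayPt} (h : g • o = o) (x : GolayPt) :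
    g x ∈ o ↔ x ∈ o := by
  have := Finset.smul_mem_smul_finset_iff (s := o) (b := x) g
  rw [h] at this
  exact this

/-- restriction to an octad -/
def res (o : Finset GolayPt) : stabilizer M24 o →* Equiv.Perm ↥o where
  toFun g := ((g : M24) : Equiv.Perm GolayPt).subtypePerm (fun x => mem_iff_of_smul g.2 x)
  map_one' := by ext x; rfl
  map_mul' := by intro a b; ext x; rfl

theorem range_res {o : Finset GolayPt} (ho : o ∈ octads) : (res o).range = alternatingGroup ↥o := by
  apply SetLike.coe_injective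
  rw [← S1553.result o ho]
  ext e
  constructor
  · rintro ⟨g, rfl⟩
    exact ⟨(g : M24), (g : M24).2, fun x => mem_iff_of_smul g.2 x, rfl⟩
  · rintro ⟨g, hg, h, rfl⟩
    refine ⟨⟨⟨g, hg⟩, ?_⟩, ?_⟩
    · rw [mem_stabilizer_iff]
      apply Finset.eq_of_subset_of_card_le
      · intro x hx
        obtain ⟨y, hy, rfl⟩ := Finset.mem_smul_finset.1 hx
        exact (h y).2 hy
      · rw [Finset.card_smul_finset]
    · rfl

theorem finite_M24 : Finite M24 := Nat.finite_of_card_ne_zero (by rw [S0364.result]; norm_num)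

theorem card_of_octad {o : Finset GolayPt} (ho : o ∈ octads) : Fintype.card ↥o = 8 := by
  rw [Fintype.card_coe]
  exact ho.2

/-- **`D3 M24`** -/
theorem d3_m24 : D3 M24 := by
  have := finite_M24
  have ho := SporadicStructure.SevenTuple.O0_mem
  have h1 := (stabilizer M24 (SporadicStructure.SevenTuple.O0 : Finset GolayPt)).card_mul_index
  rw [H867.OctadCount.card_stabilizer_octad ho, S0364.result] at h1
  have e1 : (res SporadicStructure.SevenTuple.O0).range ≃* alternatingGroup (Fin 8) :=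
    (MulEquiv.subgroupCongr (range_res ho)).trans
      (Equiv.altCongrHom (Fintype.equivFinOfCardEq (card_of_octad ho)))
  refine d3_of_map (M := stabilizer M24 (SporadicStructure.SevenTuple.O0 : Finset GolayPt)) (by omega)
    (e1.toMonoidHom.comp (res _).rangeRestrict) (e1.surjective.comp (res _).rangeRestrict_surjective)
    (Cfsg.Agent.H473.K547.d3_alt le_rfl)

end Cfsg.Agent.H569.K547
end
end

-- part: H829/K547/PslA_mg
section
prune_inst 0x4110005005ea200000000050280003c97ab00059000280000000000400489050005004960b400010200082204003c006012000040420000000a000000011901800008000030000008000096000080000000000000000000000000000000000004000000000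
set_option linter.all false
open scoped Cfsg.Agent.FastGrp

-- part: H829/K547/Cover
section
/-!
# S4547, QO-EXT3: `gen_inner` for a covering group `G → S` (helper829)

`d3_of_cover` : `N ≤ G` of odd index, `f : N →* V` trivial on the kernel, compatible with `τ`.
-/

set_option autoImplicit false

namespace Cfsg.Agent.H829.K547

open Cfsg.Agent.H821.K547 Subgroup

universe u v w

theorem not_rk_two_of_cyclic {P : Type u} [Group P] [IsCyclic P] (h : Rk 2 P) : False := by
  obtain ⟨f, hf⟩ := h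
  have h1 : IsCyclic (Multiplicative (Fin 2 → ZMod 2)) := isCyclic_of_surjective f hf
  have h2 : ∀ x : Multiplicative (Fin 2 → ZMod 2), x * x = 1 := by decide
  have h3 := h1.exponent_eq_card
  have h4 : Monoid.exponent (Multiplicative (Fin 2 → ZMod 2)) ∣ 2 :=
    Monoid.exponent_dvd_of_forall_pow_eq_one fun x => by rw [pow_two]; exact h2 x
  rw [h3] at h4
  have h5 : Nat.card (Multiplicative (Fin 2 → ZMod 2)) = 4 := by
    rw [Nat.card_eq_fintype_card]; rfl
  rw [h5] at h4
  omega

theorem d3_of_cover {G : Type u} {S : Type v} {V : Type w} [Group G] [Group S] [Group V] [Finite S]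
    [IsSimpleGroup S] (pr : G →* S) (hpr : Function.Surjective pr) (N : Subgroup G) (hN : Odd N.index)
    (f : N →* V) (hker : ∀ x : N, pr x = 1 → f x = 1) (τ : MulAut S) (h2 : TwoPow τ) (hni : ¬ IsInn τ)
    (s : S) (α : G → G) (hα : ∀ x, (MulAut.conj s * τ) (pr x) = pr (α x)) (hαN : ∀ x ∈ N, α x ∈ N)
    (v : V) (hv : v ∈ f.range) (hfα : ∀ x : N, f ⟨α x, hαN x x.2⟩ = v * f x * v⁻¹)
    (hY : ∀ Q : Sylow 2 f.range, Rk 2 Q) : D3 (AutExt τ) := by
  let prN : N →* N.map pr := pr.subgroupMap N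
  have hprN : Function.Surjective prN := pr.subgroupMap_surjective N
  have hk : prN.ker ≤ f.rangeRestrict.ker := by
    intro x hx
    rw [MonoidHom.mem_ker] at hx ⊢
    apply Subtype.ext
    exact hker x (congrArg Subtype.val hx)
  let Fm : N.map pr →* f.range := prN.liftOfSurjective hprN ⟨f.rangeRestrict, hk⟩
  have hFm : ∀ x : N, Fm (prN x) = f.rangeRestrict x := fun x =>
    MonoidHom.liftOfRightInverse_comp_apply _ _ (Function.rightInverse_surjInv hprN) ⟨f.rangeRestrict, hk⟩ x
  have hFs : Function.Surjective Fm := by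
    intro y
    obtain ⟨x, rfl⟩ := f.rangeRestrict_surjective y
    exact ⟨prN x, hFm x⟩
  have hna : ¬ ∀ a b : S, a * b = b * a := by
    intro hab
    let _ : CommGroup S := { (inferInstance : Group S) with mul_comm := hab }
    have h1 : IsCyclic S := IsSimpleGroup.isCyclic
    have h3 : IsCyclic (N.map pr) := Subgroup.isCyclic (N.map pr)
    have h4 : IsCyclic f.range := isCyclic_of_surjective Fm hFs
    obtain ⟨Q⟩ : Nonempty (Sylow 2 f.range) := inferInstance
    have h5 : IsCyclic Q := Subgroup.isCyclic (Q : Subgroup f.range)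
    exact not_rk_two_of_cyclic (hY Q)
  refine Cfsg.Agent.H951.K547.gen_inner (Cfsg.Agent.H951.K547.center_of_simple hna)
    (Cfsg.Agent.H951.K547.commutator_of_simple hna) τ h2 hni s (N.map pr) ?_ ?_ Fm hFs ⟨v, hv⟩ ?_ hY
  · intro hd
    exact hN.not_two_dvd_nat (hd.trans (index_map_dvd N hpr))
  · rintro _ ⟨x, hx, rfl⟩
    rw [hα]
    exact ⟨α x, hαN x hx, rfl⟩
  · intro m m' hmm
    obtain ⟨x, rfl⟩ := hprN m
    have h6 : m' = prN ⟨α x, hαN x x.2⟩ := by
      apply Subtype.ext
      rw [hmm]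
      exact hα x
    rw [h6, hFm, hFm]
    apply Subtype.ext
    exact hfα x

/-- the version with an elementary abelian image -/
theorem d3_of_cover_sq {G : Type u} {S : Type v} {V : Type w} [Group G] [Group S] [Group V] [Finite S]
    [IsSimpleGroup S] (pr : G →* S) (hpr : Function.Surjective pr) (N : Subgroup G) (hN : Odd N.index)
    (f : N →* V) (hker : ∀ x : N, pr x = 1 → f x = 1) (τ : MulAut S) (h2 : TwoPow τ) (hni : ¬ IsInn τ)
    (s : S) (α : G → G) (hα : ∀ x, (MulAut.conj s * τ) (pr x) = pr (α x)) (hαN : ∀ x ∈ N, α x ∈ N)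
    (hfα : ∀ x : N, f ⟨α x, hαN x x.2⟩ = f x) (hsq : ∀ x : N, f x * f x = 1)
    (hcomm : ∀ x y : N, f x * f y = f y * f x) (a b : N) (ha : f a ≠ 1) (hb : f b ≠ 1) (hab : f a ≠ f b)
    (hfin : Finite V) : D3 (AutExt τ) := by
  refine d3_of_cover pr hpr N hN f hker τ h2 hni s α hα hαN 1 (one_mem _) (fun x => ?_) ?_
  · rw [hfα, one_mul, inv_one, mul_one]
  · exact Cfsg.Agent.H716.K547.rk_two_sylow (a := f.rangeRestrict a) (b := f.rangeRestrict b)
      (Subtype.ext (hsq a)) (Subtype.ext (hsq b)) (Subtype.ext (hcomm a b))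
      (fun h => ha (congrArg Subtype.val h)) (fun h => hb (congrArg Subtype.val h))
      (fun h => hab (congrArg Subtype.val h))

end Cfsg.Agent.H829.K547
end

-- part: H716/K547/Mono
section
/-!
# S4547 (helper716): the monomial subgroup of `SL_n(q)`, `q ≡ 1 mod 4`

* `IsPM x π` : `x` is monomial with permutation `π`;
* `Mon F n` : the monomial subgroup of `SL_n(F)`, `pm : Mon F n →* Perm (Fin n)` (surjective);
* `odd_index` : `|SL_n(q) : Mon|` is odd if `q ≡ 1 mod 4`.
-/

set_option autoImplicit false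

namespace Cfsg.Agent.H716.K547

open Matrix Equiv

variable {F : Type*} [Field F] {n : ℕ}

theorem aiv (π : Perm (Fin n)) (j : Fin n) : π (π⁻¹ j) = j := Equiv.apply_symm_apply π j

theorem iav (π : Perm (Fin n)) (j : Fin n) : π⁻¹ (π j) = j := Equiv.symm_apply_apply π j

/-- monomial matrices -/
def IsPM (x : Matrix (Fin n) (Fin n) F) (π : Perm (Fin n)) : Prop := ∀ i j, x i j ≠ 0 ↔ i = π j

theorem IsPM.zero {x : Matrix (Fin n) (Fin n) F} {π : Perm (Fin n)} (h : IsPM x π) {i j : Fin n} (hij : i ≠ π j) :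
    x i j = 0 := by
  by_contra h0
  exact hij ((h i j).1 h0)

theorem IsPM.ne_zero {x : Matrix (Fin n) (Fin n) F} {π : Perm (Fin n)} (h : IsPM x π) (j : Fin n) :
    x (π j) j ≠ 0 := (h _ _).2 rfl

theorem IsPM.unique {x : Matrix (Fin n) (Fin n) F} {π ρ : Perm (Fin n)} (h : IsPM x π) (h' : IsPM x ρ) : π = ρ := by
  apply Equiv.ext
  intro j
  exact (h' _ _).1 (h.ne_zero j)

theorem IsPM.one : IsPM (1 : Matrix (Fin n) (Fin n) F) 1 := by
  intro i j
  rw [Perm.one_apply]
  by_cases h : i = j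
  · subst h
    simp
  · simp [Matrix.one_apply_ne h, h]

theorem IsPM.mul {x y : Matrix (Fin n) (Fin n) F} {π ρ : Perm (Fin n)} (h : IsPM x π) (h' : IsPM y ρ) :
    IsPM (x * y) (π * ρ) := by
  intro i j
  have h1 : (x * y) i j = x i (ρ j) * y (ρ j) j := by
    rw [Matrix.mul_apply]
    refine Finset.sum_eq_single (ρ j) (fun k _ hk => ?_) fun hk => absurd (Finset.mem_univ _) hk
    rw [h'.zero hk, mul_zero]
  rw [h1, Perm.mul_apply, mul_ne_zero_iff, h i (ρ j)]
  exact ⟨fun h2 => h2.1, fun h2 => ⟨h2, h'.ne_zero j⟩⟩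

theorem IsPM.inv {x y : Matrix (Fin n) (Fin n) F} {π : Perm (Fin n)} (h : IsPM x π) (hyx : y * x = 1) :
    IsPM y π⁻¹ := by
  have key : ∀ i j, y i (π j) * x (π j) j = (1 : Matrix (Fin n) (Fin n) F) i j := by
    intro i j
    rw [← hyx, Matrix.mul_apply]
    symm
    refine Finset.sum_eq_single (π j) (fun k _ hk => ?_) fun hk => absurd (Finset.mem_univ _) hk
    rw [h.zero hk, mul_zero]
  intro i j
  have h1 := key i (π⁻¹ j)
  rw [aiv] at h1
  have h2 := h.ne_zero (π⁻¹ j)
  rw [aiv] at h2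
  by_cases hi : i = π⁻¹ j
  · rw [← hi, Matrix.one_apply_eq] at h1
    refine ⟨fun _ => hi, fun _ h0 => ?_⟩
    rw [h0, zero_mul] at h1
    exact zero_ne_one h1
  · rw [Matrix.one_apply_ne hi] at h1
    refine ⟨fun h0 => absurd h1 (mul_ne_zero h0 h2), fun h0 => absurd h0 hi⟩

theorem IsPM.transpose {x : Matrix (Fin n) (Fin n) F} {π : Perm (Fin n)} (h : IsPM x π) : IsPM xᵀ π⁻¹ := by
  intro i j
  rw [Matrix.transpose_apply, h j i]
  constructor
  · rintro rfl
    rw [iav]
  · rintro rfl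
    rw [aiv]

variable (F n) in
/-- the monomial subgroup of `SL_n(F)` -/
def Mon : Subgroup (Matrix.SpecialLinearGroup (Fin n) F) where
  carrier := {g | ∃ π, IsPM (g : Matrix (Fin n) (Fin n) F) π}
  one_mem' := ⟨1, IsPM.one⟩
  mul_mem' := by
    rintro a b ⟨π, hπ⟩ ⟨ρ, hρ⟩
    exact ⟨π * ρ, hπ.mul hρ⟩
  inv_mem' := by
    rintro a ⟨π, hπ⟩
    refine ⟨π⁻¹, hπ.inv ?_⟩
    rw [← Matrix.SpecialLinearGroup.coe_mul, inv_mul_cancel, Matrix.SpecialLinearGroup.coe_one]

/-- the permutation of a monomial matrix -/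
noncomputable def pm : Mon F n →* Perm (Fin n) where
  toFun g := g.2.choose
  map_one' := IsPM.unique (Mon F n).one_mem.choose_spec IsPM.one
  map_mul' a b := IsPM.unique (a * b).2.choose_spec (a.2.choose_spec.mul b.2.choose_spec)

theorem pm_spec (g : Mon F n) : IsPM ((g : Matrix.SpecialLinearGroup (Fin n) F) : Matrix (Fin n) (Fin n) F) (pm g) :=
  g.2.choose_spec

theorem pm_eq {g : Mon F n} {π : Perm (Fin n)}
    (h : IsPM ((g : Matrix.SpecialLinearGroup (Fin n) F) : Matrix (Fin n) (Fin n) F) π) : pm g = π :=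
  (pm_spec g).unique h

/-- `pm` is surjective -/
theorem pm_surjective (hn : 1 ≤ n) : Function.Surjective (pm : Mon F n →* Perm (Fin n)) := by
  intro π
  let i0 : Fin n := ⟨0, by omega⟩
  have hsu : IsUnit (((Perm.sign π : ℤˣ) : ℤ) : F) := by
    rcases Int.units_eq_one_or (Perm.sign π) with h | h <;> rw [h] <;> simp
  let c : Fin n → F := Function.update 1 i0 (((Perm.sign π : ℤˣ) : ℤ) : F)
  have hc : ∏ j, c j = (((Perm.sign π : ℤˣ) : ℤ) : F) := by
    rw [Finset.prod_update_of_mem (Finset.mem_univ i0)]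
    simp only [_root_.Pi.one_apply, _root_.Finset.prod_const_one, _root_.mul_one]
  have hc0 : ∀ j, c j ≠ 0 := by
    intro j
    by_cases hj : j = i0
    · subst hj
      simp only [c, Function.update_self]
      exact hsu.ne_zero
    · simp only [c, Function.update_of_ne hj, Pi.one_apply]
      exact one_ne_zero
  have hdet : ((π⁻¹).permMatrix F * diagonal c).det = 1 := by
    rw [det_mul, det_diagonal, det_permutation, hc]
    rcases Int.units_eq_one_or (Perm.sign π) with h | h <;> rw [Perm.sign_inv, h] <;> simp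
  have hpm : IsPM ((π⁻¹).permMatrix F * diagonal c) π := by
    intro i j
    rw [Matrix.mul_diagonal, mul_ne_zero_iff]
    have h1 : (π⁻¹).permMatrix F i j = if π⁻¹ i = j then 1 else 0 := by
      rw [Equiv.Perm.permMatrix, PEquiv.toMatrix_apply]
      simp [Equiv.toPEquiv_apply]
    rw [h1]
    constructor
    · rintro ⟨h2, -⟩
      by_cases h3 : π⁻¹ i = j
      · rw [← h3, aiv]
      · rw [if_neg h3] at h2
        exact absurd rfl h2
    · rintro rfl
      refine ⟨?_, hc0 j⟩
      rw [iav, if_pos rfl]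
      exact one_ne_zero
  exact ⟨⟨⟨_, hdet⟩, π, hpm⟩, pm_eq hpm⟩

/-- the product of the entries -/
def ψ (F : Type*) [Field F] (n : ℕ) : (Fin n → Fˣ) →* Fˣ where
  toFun d := ∏ i, d i
  map_one' := by simp only [_root_.Pi.one_apply, _root_.Finset.prod_const_one]
  map_mul' a b := by simp only [Finset.prod_mul_distrib, _root_.Pi.mul_apply]

/-- the diagonal elements of determinant one -/
def dia : (ψ F n).ker →* Mon F n where
  toFun d := ⟨⟨diagonal fun i => ((d : Fin n → Fˣ) i : F), by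
    rw [det_diagonal, ← Units.coe_prod]
    have : ∏ i, (d : Fin n → Fˣ) i = 1 := d.2
    rw [this, Units.val_one]⟩, 1, by
    intro i j
    rw [Perm.one_apply]
    show (diagonal fun i => ((d : Fin n → Fˣ) i : F)) i j ≠ 0 ↔ i = j
    by_cases h : i = j
    · subst h
      simp
    · simp [h]⟩
  map_one' := by
    apply Subtype.ext
    apply Subtype.ext
    show (diagonal fun i => ((1 : Fˣ) : F)) = 1
    simp
  map_mul' a b := by
    apply Subtype.ext
    apply Subtype.ext
    show diagonal _ = diagonal _ * diagonal _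
    rw [diagonal_mul_diagonal]
    rfl

theorem dia_injective : Function.Injective (dia : (ψ F n).ker →* Mon F n) := by
  intro a b h
  apply Subtype.ext
  funext i
  apply Units.ext
  have h1 := congrArg (fun x : Mon F n => ((x : Matrix.SpecialLinearGroup (Fin n) F) : Matrix (Fin n) (Fin n) F) i i) h
  simpa only [dia, _root_.MonoidHom.coe_mk, _root_.OneHom.coe_mk, _root_.Matrix.diagonal_apply_eq] using h1

theorem pm_dia (d : (ψ F n).ker) : pm (dia d) = 1 := by
  refine pm_eq ?_
  intro i j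
  rw [Perm.one_apply]
  show (diagonal fun i => ((d : Fin n → Fˣ) i : F)) i j ≠ 0 ↔ i = j
  by_cases h : i = j
  · subst h
    simp
  · simp [h]

section card

variable [Fintype F]

theorem card_ker_ψ (hn : 1 ≤ n) : Nat.card (ψ F n).ker * (Fintype.card F - 1) = (Fintype.card F - 1) ^ n := by
  classical
  have h1 : Function.Surjective (ψ F n) := by
    intro a
    refine ⟨Pi.mulSingle ⟨0, by omega⟩ a, ?_⟩
    show ∏ i, (Pi.mulSingle (⟨0, by omega⟩ : Fin n) a : Fin n → Fˣ) i = a
    rw [Finset.prod_eq_single (⟨0, by omega⟩ : Fin n)]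
    · rw [Pi.mulSingle_eq_same]
    · intro i _ hi
      exact Pi.mulSingle_eq_of_ne hi _
    · intro h
      exact absurd (Finset.mem_univ _) h
  have h2 : Nat.card Fˣ = Fintype.card F - 1 := by rw [Nat.card_units, Nat.card_eq_fintype_card]
  have h3 := Subgroup.card_mul_index (ψ F n).ker
  rw [Subgroup.index_ker, MonoidHom.range_eq_top.2 h1, Subgroup.card_top, h2] at h3
  rw [h3, Nat.card_pi, Finset.prod_const, h2, Finset.card_univ, Fintype.card_fin]

theorem dvd_card_Mon (hn : 1 ≤ n) : Nat.card (ψ F n).ker * n.factorial ∣ Nat.card (Mon F n) := by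
  classical
  have h1 : Nat.card (Mon F n) = Nat.card (pm : Mon F n →* Perm (Fin n)).ker * n.factorial := by
    have h3 := Subgroup.card_mul_index (pm : Mon F n →* Perm (Fin n)).ker
    rw [Subgroup.index_ker, MonoidHom.range_eq_top.2 (pm_surjective hn), Subgroup.card_top, Nat.card_perm,
      Nat.card_fin] at h3
    exact h3.symm
  rw [h1]
  refine Nat.mul_dvd_mul_right ?_ _
  let f : (ψ F n).ker →* (pm : Mon F n →* Perm (Fin n)).ker := dia.codRestrict _ fun d => pm_dia d
  exact Subgroup.card_dvd_of_injective f fun a b h => dia_injective (congrArg Subtype.val h)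

end card

/-! ### 2-parts -/

theorem val_pow {q : ℕ} (h : q % 4 = 1) (hq1 : 1 < q) {i : ℕ} (hi : i ≠ 0) :
    padicValNat 2 (q ^ i - 1) = padicValNat 2 (q - 1) + padicValNat 2 i := by
  have hq : Odd q := Nat.odd_iff.2 (by omega)
  rcases Nat.even_or_odd' i with ⟨j, rfl | rfl⟩
  · have hj : j ≠ 0 := by omega
    rw [H637.val_pow_even q hq hq1 j hj]
    have h1 : q ^ 2 - 1 = (q - 1) * (q + 1) := by
      have := Nat.sq_sub_sq q 1
      rw [one_pow] at this
      rw [this, mul_comm]
    have h2 : padicValNat 2 (q + 1) = 1 := by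
      obtain ⟨k, hk⟩ : ∃ k, q + 1 = 2 * (2 * k + 1) := ⟨(q - 1) / 4, by omega⟩
      rw [hk, padicValNat.mul (by norm_num) (by omega), padicValNat.self (by norm_num),
        padicValNat.eq_zero_of_not_dvd (by omega)]
    rw [h1, padicValNat.mul (by omega) (by omega), h2, padicValNat.mul (by norm_num) hj, padicValNat.self (by norm_num)]
    ring
  · rw [H637.val_pow_odd q hq hq1 j, padicValNat.eq_zero_of_not_dvd (n := 2 * j + 1) (by omega), add_zero]

/-- the 2-part of the order of `GL_n(q)` -/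
theorem val_prod {q : ℕ} (h : q % 4 = 1) (hq1 : 1 < q) (n : ℕ) :
    (∏ i : Fin n, (q ^ n - q ^ (i : ℕ))).factorization 2 = n * (q - 1).factorization 2 + n.factorial.factorization 2 := by
  have hlt : ∀ i : Fin n, q ^ (i : ℕ) < q ^ n := fun i => Nat.pow_lt_pow_right hq1 i.2
  rw [Nat.factorization_prod fun i _ => by have := hlt i; omega, Finset.sum_apply']
  have h1 : ∀ i : Fin n, (q ^ n - q ^ (i : ℕ)).factorization 2 = (q - 1).factorization 2 + (n - (i : ℕ)).factorization 2 := by
    intro i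
    have h2 : q ^ n - q ^ (i : ℕ) = q ^ (i : ℕ) * (q ^ (n - (i : ℕ)) - 1) := by
      rw [Nat.mul_sub, ← pow_add, mul_one]
      congr 2
      have := i.2
      omega
    have h4 : n - (i : ℕ) ≠ 0 := by have := i.2; omega
    have h3 : q ^ (n - (i : ℕ)) - 1 ≠ 0 := by
      have := Nat.one_lt_pow h4 hq1
      omega
    have h5 : (q ^ (i : ℕ)).factorization 2 = 0 := by
      apply Nat.factorization_eq_zero_of_not_dvd
      intro hd
      have := Nat.prime_two.dvd_of_dvd_pow hd
      omega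
    rw [h2, Nat.factorization_mul (pow_ne_zero _ (by omega)) h3, Finsupp.add_apply, h5, zero_add,
      Nat.factorization_def _ Nat.prime_two, Nat.factorization_def _ Nat.prime_two, Nat.factorization_def _ Nat.prime_two,
      val_pow h hq1 h4]
  rw [Finset.sum_congr rfl fun i _ => h1 i, Finset.sum_add_distrib, Finset.sum_const, Finset.card_univ,
    Fintype.card_fin, smul_eq_mul]
  congr 1
  have h6 : n.factorial = ∏ i : Fin n, (n - (i : ℕ)) := by
    rw [← Nat.descFactorial_self, Nat.descFactorial_eq_prod_range, Fin.prod_univ_eq_prod_range (fun i => n - i) n]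
  rw [h6, Nat.factorization_prod fun i _ => by have := i.2; omega, Finset.sum_apply']

/-- **The monomial subgroup has odd index.** -/
theorem odd_index [Fintype F] (h : Fintype.card F % 4 = 1) (hn : 1 ≤ n) : ¬ 2 ∣ (Mon F n).index := by
  have hq1 : 1 < Fintype.card F := Fintype.one_lt_card
  have h1 := Cfsg.Agent.S0242.result (F := F) rfl n hn
  have h2 := Subgroup.card_mul_index (Mon F n)
  obtain ⟨c, hc⟩ := dvd_card_Mon (F := F) hn
  have h3 := card_ker_ψ (F := F) hn
  have hi0 : (Mon F n).index ≠ 0 := Subgroup.index_ne_zero_of_finite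
  have hc0 : c ≠ 0 := by
    rintro rfl
    have : 0 < Nat.card (Mon F n) := Nat.card_pos
    rw [hc, mul_zero] at this
    exact lt_irrefl _ this
  have h4 : ∏ i : Fin n, (Fintype.card F ^ n - Fintype.card F ^ (i : ℕ)) =
      (Fintype.card F - 1) ^ n * n.factorial * c * (Mon F n).index := by
    rw [← h1, ← h2, hc, ← h3]
    ring
  have h5 := val_prod h hq1 n
  rw [h4, Nat.factorization_mul, Nat.factorization_mul, Nat.factorization_mul, Nat.factorization_pow] at h5
  · simp only [Finsupp.add_apply, Finsupp.smul_apply, smul_eq_mul] at h5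
    intro hd
    have h6 := (Nat.Prime.dvd_iff_one_le_factorization Nat.prime_two hi0).1 hd
    omega
  · exact pow_ne_zero _ (by omega)
  · exact Nat.factorial_ne_zero _
  · exact mul_ne_zero (pow_ne_zero _ (by omega)) (Nat.factorial_ne_zero _)
  · exact hc0
  · exact mul_ne_zero (mul_ne_zero (pow_ne_zero _ (by omega)) (Nat.factorial_ne_zero _)) hc0
  · exact hi0

end Cfsg.Agent.H716.K547
end

-- part: H716/K547/Inv
section
/-!
# S4547 (helper716): `PSL_n(q)`, `q ≡ 1 mod 4`: every automorphism fixes the monomial group up to inner automorphisms,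
and acts trivially on the permutations
-/

set_option autoImplicit false

namespace Cfsg.Agent.H716.K547

open Matrix Equiv
open Cfsg.Agent.ClassicalGeometry.AutPSL.Root
open Cfsg.Agent.ClassicalGeometry.AutPSL.Auto
open Cfsg.Agent.ClassicalGeometry.AutPSL.Main
open Cfsg.Agent.H183.OutPSL

variable {F : Type*} [Field F] {n : ℕ}

theorem ispm_cj {D : GL (Fin n) F} {d : Fin n → F} (hD : (D : Matrix (Fin n) (Fin n) F) = diagonal d)
    (hd : ∀ i, d i ≠ 0) {x : Matrix.SpecialLinearGroup (Fin n) F} {π : Perm (Fin n)}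
    (h : IsPM (x : Matrix (Fin n) (Fin n) F) π) :
    IsPM ((cj D x : Matrix.SpecialLinearGroup (Fin n) F) : Matrix (Fin n) (Fin n) F) π := by
  have hDi : ((D⁻¹ : GL (Fin n) F) : Matrix (Fin n) (Fin n) F) = diagonal fun i => (d i)⁻¹ := by
    have h1 : ((D⁻¹ : GL (Fin n) F) : Matrix (Fin n) (Fin n) F) * diagonal d = 1 := by
      rw [← hD, ← Units.val_mul, inv_mul_cancel, Units.val_one]
    have h2 : diagonal d * (diagonal fun i => (d i)⁻¹) = (1 : Matrix (Fin n) (Fin n) F) := by
      rw [diagonal_mul_diagonal, ← diagonal_one]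
      congr 1
      funext i
      exact mul_inv_cancel₀ (hd i)
    calc ((D⁻¹ : GL (Fin n) F) : Matrix (Fin n) (Fin n) F) =
        ((D⁻¹ : GL (Fin n) F) : Matrix (Fin n) (Fin n) F) * (diagonal d * (diagonal fun i => (d i)⁻¹)) := by
          rw [h2, mul_one]
      _ = diagonal fun i => (d i)⁻¹ := by rw [← mul_assoc, h1, one_mul]
  intro i j
  rw [coe_cj, hD, hDi, mul_diagonal, diagonal_mul, mul_ne_zero_iff, mul_ne_zero_iff, h i j]
  exact ⟨fun h1 => h1.1.2, fun h1 => ⟨⟨hd i, h1⟩, inv_ne_zero (hd j)⟩⟩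

theorem ispm_fld (σ : F ≃+* F) {x : Matrix.SpecialLinearGroup (Fin n) F} {π : Perm (Fin n)}
    (h : IsPM (x : Matrix (Fin n) (Fin n) F) π) :
    IsPM ((fld σ x : Matrix.SpecialLinearGroup (Fin n) F) : Matrix (Fin n) (Fin n) F) π := by
  intro i j
  rw [coe_fld_apply, ← h i j]
  constructor
  · intro h1 h2
    exact h1 (by rw [h2, map_zero])
  · intro h1 h2
    exact h1 (σ.injective (by rw [h2, map_zero]))

theorem ispm_itr {x : Matrix.SpecialLinearGroup (Fin n) F} {π : Perm (Fin n)}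
    (h : IsPM (x : Matrix (Fin n) (Fin n) F) π) :
    IsPM ((itr x : Matrix.SpecialLinearGroup (Fin n) F) : Matrix (Fin n) (Fin n) F) π := by
  rw [coe_itr]
  have h1 : IsPM ((x⁻¹ : Matrix.SpecialLinearGroup (Fin n) F) : Matrix (Fin n) (Fin n) F) π⁻¹ :=
    h.inv (by rw [← Matrix.SpecialLinearGroup.coe_mul, inv_mul_cancel, Matrix.SpecialLinearGroup.coe_one])
  have h2 := h1.transpose
  rwa [inv_inv] at h2

/-- the projection of the monomial group -/
def prM : Mon F n →* (Mon F n).map (pr : Matrix.SpecialLinearGroup (Fin n) F →* _) :=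
  (pr : Matrix.SpecialLinearGroup (Fin n) F →* _).subgroupMap (Mon F n)

theorem prM_surjective : Function.Surjective (prM : Mon F n →* _) := MonoidHom.subgroupMap_surjective _ _

theorem pm_of_center {x : Mon F n} (h : (x : Matrix.SpecialLinearGroup (Fin n) F) ∈
    Subgroup.center (Matrix.SpecialLinearGroup (Fin n) F)) : pm x = 1 := by
  obtain ⟨r, hr, hx⟩ := Matrix.SpecialLinearGroup.mem_center_iff.1 h
  refine pm_eq ?_
  intro i j
  rw [Perm.one_apply, ← hx]
  have hr0 : r ≠ 0 := by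
    rintro rfl
    have h1 := x.1.2
    rw [← hx] at h1
    rcases Nat.eq_zero_or_pos n with hn | hn
    · subst hn
      exact i.elim0
    · rw [scalar_apply, det_diagonal, Finset.prod_const, Finset.card_univ, Fintype.card_fin, zero_pow (by omega)] at h1
      exact zero_ne_one h1
  rw [scalar_apply]
  by_cases hij : i = j
  · subst hij
    simp [hr0]
  · simp [hij]

theorem ker_prM_le : (prM : Mon F n →* _).ker ≤ (pm : Mon F n →* Perm (Fin n)).ker := by
  intro x hx
  rw [MonoidHom.mem_ker] at hx ⊢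
  refine pm_of_center ?_
  have h1 : pr (x : Matrix.SpecialLinearGroup (Fin n) F) = 1 := congrArg Subtype.val hx
  exact (pr_eq_one_iff _).1 h1

/-- the permutation of an element of the image of the monomial group -/
noncomputable def pq : (Mon F n).map (pr : Matrix.SpecialLinearGroup (Fin n) F →* _) →* Perm (Fin n) :=
  (prM : Mon F n →* _).liftOfSurjective prM_surjective ⟨pm, ker_prM_le⟩

theorem pq_prM (x : Mon F n) : pq (prM x) = pm x :=
  MonoidHom.liftOfRightInverse_comp_apply _ _ (Function.rightInverse_surjInv prM_surjective) ⟨pm, ker_prM_le⟩ x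

/-- decomposition of the elements of `GL_n` -/
theorem exists_decomp (hn : 1 ≤ n) (A : GL (Fin n) F) : ∃ (B : Matrix.SpecialLinearGroup (Fin n) F) (D : GL (Fin n) F)
    (d : Fin n → F), (D : Matrix (Fin n) (Fin n) F) = diagonal d ∧ (∀ i, d i ≠ 0) ∧
      A = Matrix.SpecialLinearGroup.toGL B * D := by
  classical
  let a : Fˣ := Matrix.GeneralLinearGroup.det A
  let i0 : Fin n := ⟨0, by omega⟩
  let d : Fin n → Fˣ := Pi.mulSingle i0 a
  let D : GL (Fin n) F := ⟨diagonal fun i => (d i : F), diagonal fun i => ((d i)⁻¹ : Fˣ), by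
      rw [diagonal_mul_diagonal, ← diagonal_one]
      congr 1
      funext i
      exact Units.mul_inv _, by
      rw [diagonal_mul_diagonal, ← diagonal_one]
      congr 1
      funext i
      exact Units.inv_mul _⟩
  have hD : (D : Matrix (Fin n) (Fin n) F).det = a := by
    show (diagonal fun i => (d i : F)).det = a
    rw [det_diagonal, ← Units.coe_prod, Finset.prod_eq_single i0]
    · show ((Pi.mulSingle i0 a : Fin n → Fˣ) i0 : F) = a
      rw [Pi.mulSingle_eq_same]
    · intro i _ hi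
      exact Pi.mulSingle_eq_of_ne hi _
    · intro h
      exact absurd (Finset.mem_univ _) h
  have hdet : ((A * D⁻¹ : GL (Fin n) F) : Matrix (Fin n) (Fin n) F).det = 1 := by
    have h1 : ((A * D⁻¹ : GL (Fin n) F) : Matrix (Fin n) (Fin n) F).det * (D : Matrix (Fin n) (Fin n) F).det = a := by
      rw [← det_mul, ← Units.val_mul, inv_mul_cancel_right]
      rfl
    rw [hD] at h1
    exact mul_right_cancel₀ a.ne_zero (by rw [h1, one_mul])
  refine ⟨⟨_, hdet⟩, D, fun i => (d i : F), rfl, fun i => (d i).ne_zero, ?_⟩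
  have h2 : Matrix.SpecialLinearGroup.toGL (⟨((A * D⁻¹ : GL (Fin n) F) : Matrix (Fin n) (Fin n) F), hdet⟩ :
      Matrix.SpecialLinearGroup (Fin n) F) = A * D⁻¹ := Units.ext rfl
  rw [h2, inv_mul_cancel_right]

/-- the automorphisms preserving the monomial group -/
def Pres (α : MulAut (Matrix.SpecialLinearGroup (Fin n) F)) : Prop :=
  ∀ (x : Matrix.SpecialLinearGroup (Fin n) F) (π : Perm (Fin n)), IsPM (x : Matrix (Fin n) (Fin n) F) π →
    IsPM ((α x : Matrix.SpecialLinearGroup (Fin n) F) : Matrix (Fin n) (Fin n) F) π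

/-- **automorphisms and the monomial group** -/
theorem exists_inv [Fintype F] (h1 : Fintype.card F % 4 = 1) (hn : 3 ≤ n)
    (τ : MulAut (ProjectiveSpecialLinearGroup (Fin n) F)) :
    ∃ (M : Subgroup (ProjectiveSpecialLinearGroup (Fin n) F)) (s : ProjectiveSpecialLinearGroup (Fin n) F)
      (f : M →* Perm (Fin n)), ¬ 2 ∣ M.index ∧ Function.Surjective f ∧
      ∀ m : M, ∃ h : s * τ m * s⁻¹ ∈ M, f ⟨s * τ m * s⁻¹, h⟩ = f m := by
  obtain ⟨p, hp⟩ := CharP.exists F
  have : Fact p.Prime := ⟨CharP.char_is_prime F p⟩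
  have key : ∃ (B : Matrix.SpecialLinearGroup (Fin n) F) (α : MulAut (Matrix.SpecialLinearGroup (Fin n) F)),
      Pres α ∧ τ = MulAut.conj (pr B) * lift α := by
    rcases surj_three p hn τ with ⟨A, σ, rfl⟩ | ⟨A, σ, rfl⟩
    · obtain ⟨B, D, d, hD, hd, rfl⟩ := exists_decomp (by omega) A
      refine ⟨B, cj D * fld σ, fun x π h => ?_, ?_⟩
      · exact ispm_cj hD hd (ispm_fld σ h)
      · rw [← lift_cj_toGL, ← map_mul, ← mul_assoc, ← map_mul]
    · obtain ⟨B, D, d, hD, hd, rfl⟩ := exists_decomp (by omega) A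
      refine ⟨B, cj D * fld σ * itr, fun x π h => ?_, ?_⟩
      · exact ispm_cj hD hd (ispm_fld σ (ispm_itr h))
      · rw [← lift_cj_toGL, ← map_mul, ← mul_assoc, ← mul_assoc, ← map_mul]
  obtain ⟨B, α, hα, rfl⟩ := key
  refine ⟨(Mon F n).map pr, (pr B)⁻¹, pq, ?_, ?_, ?_⟩
  · intro hd
    exact odd_index h1 (by omega) (hd.trans (Subgroup.index_map_dvd _ pr_surjective))
  · intro π
    obtain ⟨x, hx⟩ := pm_surjective (F := F) (n := n) (by omega) π
    exact ⟨prM x, by rw [pq_prM, hx]⟩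
  · rintro ⟨m, hm⟩
    obtain ⟨x, hx⟩ := prM_surjective (⟨m, hm⟩ : (Mon F n).map (pr : Matrix.SpecialLinearGroup (Fin n) F →* _))
    have hxm : pr (x : Matrix.SpecialLinearGroup (Fin n) F) = m := congrArg Subtype.val hx
    have h2 := hα x (pm x) (pm_spec x)
    have hmem : α (x : Matrix.SpecialLinearGroup (Fin n) F) ∈ Mon F n := ⟨_, h2⟩
    have h3 : (pr B)⁻¹ * (MulAut.conj (pr B) * lift α) m * (pr B)⁻¹⁻¹ = pr (α x) := by
      rw [← hxm, MulAut.mul_apply, lift_pr, MulAut.conj_apply]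
      group
    refine ⟨?_, ?_⟩
    · show (pr B)⁻¹ * (MulAut.conj (pr B) * lift α) m * (pr B)⁻¹⁻¹ ∈ _
      rw [h3]
      exact ⟨_, hmem, rfl⟩
    · have h4 : (⟨(pr B)⁻¹ * (MulAut.conj (pr B) * lift α) m * (pr B)⁻¹⁻¹, by rw [h3]; exact ⟨_, hmem, rfl⟩⟩ :
          (Mon F n).map (pr : Matrix.SpecialLinearGroup (Fin n) F →* _)) = prM ⟨α x, hmem⟩ := Subtype.ext h3
      show pq (⟨(pr B)⁻¹ * (MulAut.conj (pr B) * lift α) m * (pr B)⁻¹⁻¹, _⟩ :
          (Mon F n).map (pr : Matrix.SpecialLinearGroup (Fin n) F →* _)) = pq ⟨m, hm⟩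
      rw [h4, pq_prM, ← hx, pq_prM]
      exact pm_eq h2

end Cfsg.Agent.H716.K547
end

-- part: H829/K547/PslA
section
/-!
# S4547, QO-EXT3: outer automorphisms of `PSL_3(q)`, `q ≡ 1 mod 4` (helper829)
-/

set_option autoImplicit false

namespace Cfsg.Agent.H829.K547.PslA

open Matrix Equiv
open Cfsg.Agent.ClassicalGeometry.AutPSL.Root
open Cfsg.Agent.ClassicalGeometry.AutPSL.Auto
open Cfsg.Agent.ClassicalGeometry.AutPSL.Main
open Cfsg.Agent.H183.OutPSL
open Cfsg.Agent.H716.K547 Cfsg.Agent.H821.K547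

variable {F : Type*} [Field F]

/-- the entry at `(0, 0)` of a product -/
theorem entry_mul {x y : Matrix (Fin 3) (Fin 3) F} {ρ : Perm (Fin 3)} (hy : IsPM y ρ) (hρ : ρ 0 = 0) :
    (x * y) 0 0 = x 0 0 * y 0 0 := by
  rw [Matrix.mul_apply]
  refine Finset.sum_eq_single 0 (fun k _ hk => ?_) fun hk => absurd (Finset.mem_univ _) hk
  rw [hy.zero (i := k) (j := 0) (by rw [hρ]; exact hk), mul_zero]

theorem entry_ne {x : Matrix (Fin 3) (Fin 3) F} {π : Perm (Fin 3)} (h : IsPM x π) (hπ : π 0 = 0) : x 0 0 ≠ 0 :=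
  (h 0 0).2 hπ.symm

variable (F) in
/-- monomial matrices fixing the first line -/
noncomputable def N1 : Subgroup (Matrix.SpecialLinearGroup (Fin 3) F) :=
  ((MulAction.stabilizer (Perm (Fin 3)) (0 : Fin 3)).comap (pm : Mon F 3 →* _)).map (Mon F 3).subtype

theorem mem_N1 {x : Matrix.SpecialLinearGroup (Fin 3) F} :
    x ∈ N1 F ↔ ∃ π : Perm (Fin 3), IsPM (x : Matrix (Fin 3) (Fin 3) F) π ∧ π 0 = 0 := by
  constructor
  · rintro ⟨y, hy, rfl⟩
    exact ⟨pm y, pm_spec y, hy⟩
  · rintro ⟨π, h1, h2⟩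
    refine ⟨⟨x, π, h1⟩, ?_, rfl⟩
    show pm (⟨x, π, h1⟩ : Mon F 3) ∈ MulAction.stabilizer (Perm (Fin 3)) (0 : Fin 3)
    rw [pm_eq h1]
    exact h2

theorem odd_index_N1 [Fintype F] (h : Fintype.card F % 4 = 1) : Odd (N1 F).index := by
  have h1 : (N1 F).index = 3 * (Mon F 3).index := by
    rw [N1, Subgroup.index_map_subtype, Subgroup.index_comap_of_surjective _ (pm_surjective (by norm_num)),
      MulAction.index_stabilizer_of_transitive, Nat.card_fin]
  rw [h1]
  refine Odd.mul (by decide) ?_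
  have h2 := H716.K547.odd_index h (n := 3) (by norm_num)
  rw [← Nat.not_even_iff_odd, even_iff_two_dvd]
  exact h2

/-- the entry as a unit -/
noncomputable def u0 (x : N1 F) : Fˣ :=
  Units.mk0 (((x : Matrix.SpecialLinearGroup (Fin 3) F) : Matrix (Fin 3) (Fin 3) F) 0 0)
    (entry_ne (mem_N1.1 x.2).choose_spec.1 (mem_N1.1 x.2).choose_spec.2)

theorem u0_mul (x y : N1 F) : u0 (x * y) = u0 x * u0 y :=
  Units.ext (entry_mul (x := ((x : Matrix.SpecialLinearGroup (Fin 3) F) : Matrix (Fin 3) (Fin 3) F))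
    (mem_N1.1 y.2).choose_spec.1 (mem_N1.1 y.2).choose_spec.2)

/-- the two homomorphisms together -/
noncomputable def f1 (F : Type*) [Field F] (e : ℕ) : N1 F →* Perm (Fin 3) × Fˣ :=
  MonoidHom.mk' (fun x => ((mem_N1.1 x.2).choose, u0 x ^ e)) (by
    intro x y
    refine Prod.ext ?_ ?_
    · exact (mem_N1.1 (x * y).2).choose_spec.1.unique
        ((mem_N1.1 x.2).choose_spec.1.mul (mem_N1.1 y.2).choose_spec.1)
    · simp only [Prod.snd_mul]
      rw [u0_mul, mul_pow])

theorem f1_fst {e : ℕ} (x : N1 F) : IsPM ((x : Matrix.SpecialLinearGroup (Fin 3) F) : Matrix (Fin 3) (Fin 3) F)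
    (f1 F e x).1 ∧ (f1 F e x).1 0 = 0 := (mem_N1.1 x.2).choose_spec

theorem f1_snd {e : ℕ} (x : N1 F) :
    (((f1 F e x).2 : Fˣ) : F) = ((x : Matrix.SpecialLinearGroup (Fin 3) F) : Matrix (Fin 3) (Fin 3) F) 0 0 ^ e := by
  show ((u0 x ^ e : Fˣ) : F) = _
  rw [Units.val_pow_eq_pow_val]
  rfl

theorem f1_eq {e : ℕ} {x y : N1 F} {π : Perm (Fin 3)}
    (hx : IsPM ((x : Matrix.SpecialLinearGroup (Fin 3) F) : Matrix (Fin 3) (Fin 3) F) π)
    (hy : IsPM ((y : Matrix.SpecialLinearGroup (Fin 3) F) : Matrix (Fin 3) (Fin 3) F) π)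
    (hxy : ((x : Matrix.SpecialLinearGroup (Fin 3) F) : Matrix (Fin 3) (Fin 3) F) 0 0 ^ e =
      ((y : Matrix.SpecialLinearGroup (Fin 3) F) : Matrix (Fin 3) (Fin 3) F) 0 0 ^ e) : f1 F e x = f1 F e y := by
  refine Prod.ext ?_ (Units.ext ?_)
  · rw [(f1_fst x).1.unique hx, (f1_fst y).1.unique hy]
  · rw [f1_snd, f1_snd, hxy]

section fin

variable [Fintype F]

/-- the automorphisms we need -/
def Ok (e : ℕ) (α : MulAut (Matrix.SpecialLinearGroup (Fin 3) F)) : Prop :=
  ∀ (x : Matrix.SpecialLinearGroup (Fin 3) F) (π : Perm (Fin 3)), IsPM (x : Matrix (Fin 3) (Fin 3) F) π →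
    π 0 = 0 → IsPM ((α x : Matrix.SpecialLinearGroup (Fin 3) F) : Matrix (Fin 3) (Fin 3) F) π ∧
      ((α x : Matrix.SpecialLinearGroup (Fin 3) F) : Matrix (Fin 3) (Fin 3) F) 0 0 ^ e =
        (x : Matrix (Fin 3) (Fin 3) F) 0 0 ^ e

omit [Fintype F] in
theorem Ok.mul {e : ℕ} {α β : MulAut (Matrix.SpecialLinearGroup (Fin 3) F)} (hα : Ok e α) (hβ : Ok e β) :
    Ok e (α * β) := by
  intro x π h h0
  obtain ⟨h1, h2⟩ := hβ x π h h0
  obtain ⟨h3, h4⟩ := hα (β x) π h1 h0
  exact ⟨h3, h4.trans h2⟩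

omit [Fintype F] in
theorem ok_cj (e : ℕ) {D : GL (Fin 3) F} {d : Fin 3 → F} (hD : (D : Matrix (Fin 3) (Fin 3) F) = diagonal d)
    (hd : ∀ i, d i ≠ 0) : Ok e (cj D) := by
  intro x π h h0
  refine ⟨ispm_cj hD hd h, ?_⟩
  congr 1
  have hDi : ((D⁻¹ : GL (Fin 3) F) : Matrix (Fin 3) (Fin 3) F) = diagonal fun i => (d i)⁻¹ := by
    have h1 : ((D⁻¹ : GL (Fin 3) F) : Matrix (Fin 3) (Fin 3) F) * diagonal d = 1 := by
      rw [← hD, ← Units.val_mul, inv_mul_cancel, Units.val_one]
    have h2 : diagonal d * (diagonal fun i => (d i)⁻¹) = (1 : Matrix (Fin 3) (Fin 3) F) := by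
      rw [diagonal_mul_diagonal, ← diagonal_one]
      congr 1
      funext i
      exact mul_inv_cancel₀ (hd i)
    calc ((D⁻¹ : GL (Fin 3) F) : Matrix (Fin 3) (Fin 3) F) =
        ((D⁻¹ : GL (Fin 3) F) : Matrix (Fin 3) (Fin 3) F) * (diagonal d * (diagonal fun i => (d i)⁻¹)) := by
          rw [h2, mul_one]
      _ = diagonal fun i => (d i)⁻¹ := by rw [← mul_assoc, h1, one_mul]
  rw [coe_cj, hD, hDi, mul_diagonal, diagonal_mul]
  field_simp [hd 0]

theorem pow_dich (h2 : (2 : F) ≠ 0) {a : F} (ha : a ≠ 0) :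
    a ^ (Fintype.card F / 2) = 1 ∨ a ^ (Fintype.card F / 2) = -1 := by
  refine FiniteField.pow_dichotomy ?_ ha
  intro h
  apply h2
  have := ringChar.spec F 2
  rw [h] at this
  exact_mod_cast this.2 (dvd_refl 2)

theorem ok_fld (h2 : (2 : F) ≠ 0) (σ : F ≃+* F) : Ok (Fintype.card F / 2) (fld σ) := by
  intro x π h h0
  refine ⟨ispm_fld σ h, ?_⟩
  rw [coe_fld_apply, ← map_pow]
  rcases pow_dich h2 (entry_ne h h0) with h3 | h3
  · rw [h3, map_one]
  · rw [h3, map_neg, map_one]

theorem ok_itr (h2 : (2 : F) ≠ 0) : Ok (Fintype.card F / 2) (itr : MulAut (Matrix.SpecialLinearGroup (Fin 3) F)) := by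
  intro x π h h0
  refine ⟨ispm_itr h, ?_⟩
  have h1 : ((x⁻¹ : Matrix.SpecialLinearGroup (Fin 3) F) : Matrix (Fin 3) (Fin 3) F) 0 0 *
      (x : Matrix (Fin 3) (Fin 3) F) 0 0 = 1 := by
    rw [← entry_mul h h0, ← Matrix.SpecialLinearGroup.coe_mul, inv_mul_cancel, Matrix.SpecialLinearGroup.coe_one,
      Matrix.one_apply_eq]
  rw [coe_itr, transpose_apply]
  have h3 : (((x⁻¹ : Matrix.SpecialLinearGroup (Fin 3) F) : Matrix (Fin 3) (Fin 3) F) 0 0) ^ (Fintype.card F / 2) *
      (x : Matrix (Fin 3) (Fin 3) F) 0 0 ^ (Fintype.card F / 2) = 1 := by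
    rw [← mul_pow, h1, one_pow]
  rcases pow_dich h2 (entry_ne h h0) with h4 | h4
  · rw [h4, mul_one] at h3
    rw [h3, h4]
  · rw [h4] at h3 ⊢
    linear_combination -h3

/-- the kernel -/
theorem f1_ker (h2 : (2 : F) ≠ 0) (x : N1 F) (hx : pr (x : Matrix.SpecialLinearGroup (Fin 3) F) = 1) :
    f1 F (Fintype.card F / 2) x = 1 := by
  obtain ⟨r, hr, hxr⟩ := Matrix.SpecialLinearGroup.mem_center_iff.1 ((pr_eq_one_iff _).1 hx)
  rw [Fintype.card_fin] at hr
  have hr0 : r ≠ 0 := by
    rintro rfl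
    rw [zero_pow (by norm_num)] at hr
    exact zero_ne_one hr
  have e1 : ((x : Matrix.SpecialLinearGroup (Fin 3) F) : Matrix (Fin 3) (Fin 3) F) 0 0 = r := by
    rw [← hxr, scalar_apply, diagonal_apply_eq]
  rw [← map_one (f1 F (Fintype.card F / 2))]
  refine f1_eq (π := 1) ?_ IsPM.one ?_
  · rw [← hxr]
    intro i j
    rw [Perm.one_apply, scalar_apply]
    by_cases hij : i = j
    · subst hij
      simp [hr0]
    · simp [hij]
  · rw [e1]
    show r ^ _ = ((1 : Matrix (Fin 3) (Fin 3) F) 0 0) ^ _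
    rw [Matrix.one_apply_eq, one_pow]
    rcases pow_dich h2 hr0 with h3 | h3
    · exact h3
    · exfalso
      have h4 : (r ^ (Fintype.card F / 2)) ^ 3 = 1 := by rw [← pow_mul, mul_comm, pow_mul, hr, one_pow]
      rw [h3] at h4
      apply h2
      linear_combination -h4

theorem perm_sq (π : Perm (Fin 3)) (h : π 0 = 0) : π * π = 1 := by
  revert π
  decide

theorem perm_comm (π ρ : Perm (Fin 3)) (h : π 0 = 0) (h' : ρ 0 = 0) : π * ρ = ρ * π := by
  revert π ρ
  decide +kernel

theorem f1_sq (h2 : (2 : F) ≠ 0) (x : N1 F) : f1 F (Fintype.card F / 2) x * f1 F (Fintype.card F / 2) x = 1 := by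
  have h1 := f1_fst (e := Fintype.card F / 2) x
  refine Prod.ext (perm_sq _ h1.2) (Units.ext ?_)
  have h3 := f1_snd (e := Fintype.card F / 2) x
  show ((f1 F (Fintype.card F / 2) x).2 : F) * ((f1 F (Fintype.card F / 2) x).2 : F) = 1
  rw [h3]
  rcases pow_dich h2 (entry_ne h1.1 h1.2) with h4 | h4
  · rw [h4, one_mul]
  · rw [h4]; ring

theorem f1_comm (x y : N1 F) : f1 F (Fintype.card F / 2) x * f1 F (Fintype.card F / 2) y =
    f1 F (Fintype.card F / 2) y * f1 F (Fintype.card F / 2) x :=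
  Prod.ext (perm_comm _ _ (f1_fst x).2 (f1_fst y).2) (mul_comm _ _)

omit [Fintype F] in
/-- an element with a given permutation -/
theorem exists_swap : ∃ a : N1 F, IsPM ((a : Matrix.SpecialLinearGroup (Fin 3) F) : Matrix (Fin 3) (Fin 3) F)
    (_root_.Equiv.swap 1 2) := by
  obtain ⟨x, hx⟩ := pm_surjective (F := F) (n := 3) (by norm_num) (_root_.Equiv.swap 1 2)
  have h1 := pm_spec x
  rw [hx] at h1
  exact ⟨⟨x, mem_N1.2 ⟨_, h1, by decide⟩⟩, h1⟩

omit [Fintype F] in
/-- a diagonal element with a given entry -/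
theorem exists_dg {δ : F} (hδ : δ ≠ 0) : ∃ b : N1 F,
    IsPM ((b : Matrix.SpecialLinearGroup (Fin 3) F) : Matrix (Fin 3) (Fin 3) F) 1 ∧
      ((b : Matrix.SpecialLinearGroup (Fin 3) F) : Matrix (Fin 3) (Fin 3) F) 0 0 = δ := by
  have hdet : (diagonal ![δ, δ⁻¹, 1]).det = 1 := by
    rw [det_diagonal, Fin.prod_univ_three]
    simp [hδ]
  have hpm : IsPM (diagonal ![δ, δ⁻¹, 1]) 1 := by
    intro i j
    rw [Perm.one_apply]
    by_cases hij : i = j
    · subst hij
      rw [diagonal_apply_eq]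
      refine ⟨fun _ => rfl, fun _ => ?_⟩
      fin_cases i
      · exact hδ
      · exact inv_ne_zero hδ
      · exact one_ne_zero
    · rw [diagonal_apply_ne _ hij]
      exact ⟨fun h => absurd rfl h, fun h => absurd h hij⟩
  exact ⟨⟨⟨_, hdet⟩, mem_N1.2 ⟨1, hpm, rfl⟩⟩, hpm, by show (diagonal ![δ, δ⁻¹, 1]) 0 0 = δ; simp⟩

theorem exists_nonsq (h2 : (2 : F) ≠ 0) : ∃ δ : F, δ ≠ 0 ∧ δ ^ (Fintype.card F / 2) ≠ 1 := by
  have h0 : ringChar F ≠ 2 := by
    intro h
    apply h2
    have := ringChar.spec F 2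
    rw [h] at this
    exact_mod_cast this.2 (dvd_refl 2)
  obtain ⟨δ, hδ⟩ := FiniteField.exists_nonsquare h0
  have hδ0 : δ ≠ 0 := by
    rintro rfl
    exact hδ (IsSquare.zero)
  exact ⟨δ, hδ0, fun h => hδ ((FiniteField.isSquare_iff h0 hδ0).2 h)⟩

/-- **outer automorphisms of `PSL_3(q)`, `q ≡ 1 mod 4`** -/
theorem ext_one (h1 : Fintype.card F % 4 = 1) (τ : MulAut (ProjectiveSpecialLinearGroup (Fin 3) F))
    (ht : TwoPow τ) (hni : ¬ IsInn τ) : D3 (AutExt τ) := by
  have h2 : (2 : F) ≠ 0 := by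
    intro h0
    have h1' : ringChar F ∣ 2 := (ringChar.spec F 2).1 (by exact_mod_cast h0)
    have h3 : ringChar F = 2 := by
      rcases (Nat.dvd_prime Nat.prime_two).1 h1' with h4 | h4
      · exact absurd h4 (CharP.ringChar_ne_one)
      · exact h4
    have h4 := FiniteField.even_card_of_char_two h3
    omega
  obtain ⟨p, hp⟩ := CharP.exists F
  have : Fact p.Prime := ⟨CharP.char_is_prime F p⟩
  have hsimple : IsSimpleGroup (ProjectiveSpecialLinearGroup (Fin 3) F) := Cfsg.Agent.S0249.result 3 (by norm_num)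
  have key : ∃ (B : Matrix.SpecialLinearGroup (Fin 3) F) (α : MulAut (Matrix.SpecialLinearGroup (Fin 3) F)),
      Ok (Fintype.card F / 2) α ∧ τ = MulAut.conj (pr B) * lift α := by
    rcases surj_three p (by norm_num) τ with ⟨A, σ, rfl⟩ | ⟨A, σ, rfl⟩
    · obtain ⟨B, D, d, hD, hd, rfl⟩ := exists_decomp (by omega) A
      refine ⟨B, cj D * fld σ, (ok_cj _ hD hd).mul (ok_fld h2 σ), ?_⟩
      rw [← lift_cj_toGL, ← map_mul, ← mul_assoc, ← map_mul]
    · obtain ⟨B, D, d, hD, hd, rfl⟩ := exists_decomp (by omega) A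
      refine ⟨B, cj D * fld σ * itr, ((ok_cj _ hD hd).mul (ok_fld h2 σ)).mul (ok_itr h2), ?_⟩
      rw [← lift_cj_toGL, ← map_mul, ← mul_assoc, ← mul_assoc, ← map_mul]
  obtain ⟨B, α, hα, rfl⟩ := key
  obtain ⟨a, ha⟩ := exists_swap (F := F)
  obtain ⟨δ, hδ0, hδ⟩ := exists_nonsq h2
  obtain ⟨b, hb, hb'⟩ := exists_dg hδ0
  have hN : ∀ x ∈ N1 F, α x ∈ N1 F := by
    intro x hx
    obtain ⟨π, h3, h4⟩ := mem_N1.1 hx
    exact mem_N1.2 ⟨π, (hα x π h3 h4).1, h4⟩
  have e1 : (f1 F (Fintype.card F / 2) a).1 = _root_.Equiv.swap 1 2 := (f1_fst a).1.unique ha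
  have e2 : (f1 F (Fintype.card F / 2) b).1 = 1 := (f1_fst b).1.unique hb
  refine d3_of_cover_sq pr pr_surjective (N1 F) (odd_index_N1 h1) (f1 F (Fintype.card F / 2)) (f1_ker h2) _ ht hni
    (pr B)⁻¹ α ?_ hN ?_ (f1_sq h2) f1_comm a b ?_ ?_ ?_ inferInstance
  · intro x
    rw [MulAut.mul_apply, MulAut.mul_apply, lift_pr, MulAut.conj_apply, MulAut.conj_apply]
    group
  · intro x
    obtain ⟨h3, h4⟩ := f1_fst (e := Fintype.card F / 2) x
    obtain ⟨h5, h6⟩ := hα x _ h3 h4
    exact f1_eq h5 h3 h6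
  · intro h
    rw [h] at e1
    exact absurd (show (1 : Perm (Fin 3)) = _root_.Equiv.swap 1 2 from e1) (by decide)
  · intro h
    have h3 := f1_snd (e := Fintype.card F / 2) b
    rw [h, hb'] at h3
    exact hδ h3.symm
  · intro h
    rw [h, e2] at e1
    exact absurd e1 (by decide)

end fin

end Cfsg.Agent.H829.K547.PslA
end

-- part: H716/K547/Sq
section
/-!
# S4547 (helper716): outer automorphisms of `PSL_n(q)`, `q ≡ 3 mod 4`: the squares are inner
-/

set_option autoImplicit false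

namespace Cfsg.Agent.H716.K547

open Matrix Cfsg Cfsg.Agent.H821.K547
open Cfsg.Agent.ClassicalGeometry.AutPSL.Root
open Cfsg.Agent.ClassicalGeometry.AutPSL.Auto
open Cfsg.Agent.ClassicalGeometry.AutPSL.Main
open Cfsg.Agent.H183.OutPSL

variable {F : Type*} [Field F] [Fintype F] {n : ℕ}

/-- field automorphisms of 2-power order -/
theorem fld_eq_one (h3 : Fintype.card F % 4 = 3) : ∀ (m : ℕ) (σ : F ≃+* F), σ ^ 2 ^ m = 1 → σ = 1 := by
  intro m
  induction m with
  | zero =>
    intro σ h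
    rwa [pow_zero, pow_one] at h
  | succ m ih =>
    intro σ h
    have h1 : σ ^ 2 = 1 := by
      apply ih
      rw [← pow_mul, ← pow_succ']
      exact h
    by_contra hne
    obtain ⟨p, k, -, -, hF, -⟩ := H304.Ppd.exists_frobenius (σ := σ) hne (fun x => by
      have := RingEquiv.congr_fun h1 x
      exact this)
    generalize p ^ k = s at hF
    rw [hF] at h3
    have h4 : s % 4 < 4 := Nat.mod_lt _ (by norm_num)
    rw [Nat.pow_mod] at h3
    interval_cases (s % 4) <;> simp at h3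

omit [Fintype F] in
/-- powers -/
theorem pow_form (A : GL (Fin n) F) (σ : F ≃+* F) (m : ℕ) : ∃ A' : GL (Fin n) F,
    (cj A * fld σ) ^ m = cj A' * fld (σ ^ m) := by
  induction m with
  | zero => exact ⟨1, by rw [pow_zero, pow_zero, map_one, map_one, mul_one]⟩
  | succ m ih =>
    obtain ⟨A', hA'⟩ := ih
    refine ⟨A' * fldGL (σ ^ m) A, ?_⟩
    rw [pow_succ, hA', pow_succ, map_mul, map_mul, mul_assoc, ← mul_assoc (fld (σ ^ m)), fld_mul_cj, mul_assoc, mul_assoc]

omit [Fintype F] in
/-- the square in the presence of the graph automorphism -/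
theorem sq_form (A : GL (Fin n) F) (σ : F ≃+* F) :
    (cj A * fld σ * itr) * (cj A * fld σ * itr) = cj (A * fldGL σ (itrGL A)) * fld (σ * σ) := by
  calc (cj A * fld σ * itr) * (cj A * fld σ * itr) = cj A * fld σ * (itr * cj A) * (fld σ * itr) := by
        simp only [mul_assoc]
    _ = cj A * (fld σ * cj (itrGL A)) * (itr * fld σ) * itr := by
        rw [itr_mul_cj]
        simp only [mul_assoc]
    _ = cj A * cj (fldGL σ (itrGL A)) * (fld σ * fld σ) * (itr * itr) := by
        rw [fld_mul_cj, ← fld_mul_itr]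
        simp only [mul_assoc]
    _ = cj (A * fldGL σ (itrGL A)) * fld (σ * σ) := by
        rw [itr_mul_itr, mul_one, map_mul, map_mul]

omit [Fintype F] in
theorem isInn_iff {τ : MulAut (ProjectiveSpecialLinearGroup (Fin n) F)} :
    (∃ s, ∀ x, τ x = s * x * s⁻¹) ↔ ∃ g : Matrix.SpecialLinearGroup (Fin n) F,
      τ = lift (cj (Matrix.SpecialLinearGroup.toGL g)) := by
  constructor
  · rintro ⟨s, hs⟩
    obtain ⟨g, rfl⟩ := pr_surjective s
    refine ⟨g, ?_⟩
    rw [lift_cj_toGL]
    exact MulEquiv.ext hs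
  · rintro ⟨g, rfl⟩
    refine ⟨pr g, fun x => ?_⟩
    rw [lift_cj_toGL]
    rfl

omit [Fintype F] in
/-- comparison of the field parts -/
theorem fld_of_lift [Nontrivial (Fin n)] {A B : GL (Fin n) F} {σ : F ≃+* F} (h : lift (cj A * fld σ) = lift (cj B)) :
    (∃ r : F, scalar (Fin n) r = ((B⁻¹ * A : GL (Fin n) F) : Matrix (Fin n) (Fin n) F)) ∧ σ = 1 := by
  have h1 : lift (cj (B⁻¹ * A) * fld σ) = lift (fld (1 : F ≃+* F)) := by
    rw [map_mul cj, mul_assoc, map_mul, h, ← map_mul, ← map_mul, inv_mul_cancel, map_one cj, map_one fld]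
  exact injective_aux h1

omit [Fintype F] in
/-- inner by an element of determinant a power -/
theorem isInn_of_det {A : GL (Fin n) F} {s : F} (hs : s ≠ 0) (h : (A : Matrix (Fin n) (Fin n) F).det = s ^ n) :
    ∃ g : Matrix.SpecialLinearGroup (Fin n) F, (lift (cj A) : MulAut (ProjectiveSpecialLinearGroup (Fin n) F)) =
      lift (cj (Matrix.SpecialLinearGroup.toGL g)) := by
  have h1 : (s⁻¹ • (A : Matrix (Fin n) (Fin n) F)).det = 1 := by
    rw [det_smul, Fintype.card_fin, h, ← mul_pow, inv_mul_cancel₀ hs, one_pow]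
  refine ⟨⟨s⁻¹ • (A : Matrix (Fin n) (Fin n) F), h1⟩, ?_⟩
  have h2 : cj (A * (Matrix.SpecialLinearGroup.toGL ⟨s⁻¹ • (A : Matrix (Fin n) (Fin n) F), h1⟩)⁻¹) = 1 := by
    refine cj_eq_one_of_scalar (r := s) ?_
    have h3 : ((A * (Matrix.SpecialLinearGroup.toGL ⟨s⁻¹ • (A : Matrix (Fin n) (Fin n) F), h1⟩)⁻¹ : GL (Fin n) F) :
        Matrix (Fin n) (Fin n) F) * ((Matrix.SpecialLinearGroup.toGL ⟨s⁻¹ • (A : Matrix (Fin n) (Fin n) F), h1⟩ :
        GL (Fin n) F) : Matrix (Fin n) (Fin n) F) = A := by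
      rw [← Units.val_mul, inv_mul_cancel_right]
    have h4 : scalar (Fin n) s * ((Matrix.SpecialLinearGroup.toGL ⟨s⁻¹ • (A : Matrix (Fin n) (Fin n) F), h1⟩ :
        GL (Fin n) F) : Matrix (Fin n) (Fin n) F) = A := by
      show scalar (Fin n) s * (s⁻¹ • (A : Matrix (Fin n) (Fin n) F)) = A
      rw [scalar_apply, ← smul_one_eq_diagonal, smul_mul_assoc, one_mul, smul_smul, mul_inv_cancel₀ hs, one_smul]
    exact (Units.mul_left_inj (Matrix.SpecialLinearGroup.toGL ⟨s⁻¹ • (A : Matrix (Fin n) (Fin n) F), h1⟩)).1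
      (h4.trans h3.symm)
  rw [map_mul, map_inv, mul_inv_eq_one] at h2
  rw [h2]

/-- `q ≡ 3 mod 4`: if a 2-power of `x` is an `n`-th power then `x ^ 2` is an `n`-th power -/
theorem exists_root (h3 : Fintype.card F % 4 = 3) {x r : F} (hx : x ≠ 0) {k : ℕ} (h : x ^ 2 ^ k = r ^ n) :
    ∃ s : F, s ≠ 0 ∧ x ^ 2 = s ^ n := by
  obtain ⟨m, hm⟩ : ∃ m, Fintype.card F - 1 = 2 * (2 * m + 1) := ⟨(Fintype.card F - 3) / 4, by omega⟩
  have h1 : (x ^ 2) ^ (2 * m + 1) = 1 := by
    rw [← pow_mul, ← hm]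
    exact FiniteField.pow_card_sub_one_eq_one x hx
  have hco : Nat.Coprime (2 ^ k) (2 * m + 1) := Nat.Coprime.pow_left k (by simp)
  rcases Nat.eq_zero_or_pos m with rfl | hm0
  · refine ⟨1, one_ne_zero, ?_⟩
    rw [one_pow]
    simpa only [_root_.sq_eq_one_iff, _root_.MulZeroClass.mul_zero, _root_.zero_add, _root_.pow_one] using h1
  · obtain ⟨j, -, hj⟩ := Nat.exists_mul_mod_eq_one_of_coprime hco (by omega)
    have hr : r ≠ 0 ∨ n = 0 := by
      by_contra hcon
      push Not at hcon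
      rw [hcon.1, zero_pow hcon.2] at h
      exact pow_ne_zero _ hx h
    have h2 : x ^ 2 = (x ^ 2) ^ (2 ^ k * j) := by
      have h4 : 2 ^ k * j = (2 * m + 1) * (2 ^ k * j / (2 * m + 1)) + 1 := by
        have := Nat.div_add_mod (2 ^ k * j) (2 * m + 1)
        rw [hj] at this
        exact this.symm
      rw [h4, pow_add, pow_mul, h1, one_pow, one_mul, pow_one]
    have h5 : (x ^ 2) ^ (2 ^ k * j) = (r ^ (2 * j)) ^ n := by
      rw [← pow_mul, ← pow_mul]
      calc x ^ (2 * (2 ^ k * j)) = (x ^ 2 ^ k) ^ (2 * j) := by rw [← pow_mul]; congr 1; ring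
        _ = r ^ (2 * j * n) := by rw [h, ← pow_mul]; congr 1; ring
    rcases hr with hr | hr
    · exact ⟨r ^ (2 * j), pow_ne_zero _ hr, h2.trans h5⟩
    · refine ⟨1, one_ne_zero, ?_⟩
      rw [h2, h5, hr, pow_zero, pow_zero]

/-- **`q ≡ 3 mod 4`: the square of an outer automorphism of 2-power order is inner.** -/
theorem sq_inner (h3 : Fintype.card F % 4 = 3) (hn : 3 ≤ n) (τ : MulAut (ProjectiveSpecialLinearGroup (Fin n) F))
    (hτ : TwoPow τ) : ∃ s, ∀ x, (τ ^ 2) x = s * x * s⁻¹ := by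
  rw [isInn_iff]
  obtain ⟨p, hp⟩ := CharP.exists F
  have : Fact p.Prime := ⟨CharP.char_is_prime F p⟩
  have : Nontrivial (Fin n) := Fin.nontrivial_iff_two_le.2 (by omega)
  obtain ⟨k, hk⟩ := hτ
  obtain ⟨g, hg⟩ := isInn_iff.1 hk
  rcases surj_three p hn τ with ⟨A, σ, rfl⟩ | ⟨A, σ, rfl⟩
  · obtain ⟨A', hA'⟩ := pow_form A σ (2 ^ k)
    rw [← map_pow, hA'] at hg
    have hσ : σ = 1 := fld_eq_one h3 k σ (fld_of_lift hg).2
    subst hσ
    rw [map_one, mul_one]
    rw [map_one, mul_one, one_pow, map_one, mul_one] at hA'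
    rw [one_pow, map_one, mul_one, ← hA', ← map_pow] at hg
    have h1 := (fld_of_lift (σ := 1) (A := A ^ 2 ^ k) (B := Matrix.SpecialLinearGroup.toGL g) (by
      rw [map_one, mul_one]
      exact hg)).1
    obtain ⟨r, hr⟩ := h1
    have hdet : ((A : Matrix (Fin n) (Fin n) F).det) ^ 2 ^ k = r ^ n := by
      have h5 : ((A ^ 2 ^ k : GL (Fin n) F) : Matrix (Fin n) (Fin n) F) =
          (g : Matrix (Fin n) (Fin n) F) * scalar (Fin n) r := by
        rw [hr]
        show _ = ((Matrix.SpecialLinearGroup.toGL g : GL (Fin n) F) : Matrix (Fin n) (Fin n) F) * _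
        rw [← Units.val_mul, mul_inv_cancel_left]
      have h6 := congrArg Matrix.det h5
      rw [Units.val_pow_eq_pow_val, det_pow, det_mul, g.2, one_mul, scalar_apply, det_diagonal, Finset.prod_const,
        Finset.card_univ, Fintype.card_fin] at h6
      exact h6
    have hx0 : (A : Matrix (Fin n) (Fin n) F).det ≠ 0 := by
      have := (Matrix.GeneralLinearGroup.det A).ne_zero
      exact this
    obtain ⟨s, hs0, hs⟩ := exists_root h3 hx0 hdet
    rw [← map_pow, ← map_pow]
    refine isInn_of_det (A := A ^ 2) hs0 ?_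
    rw [Units.val_pow_eq_pow_val, det_pow]
    exact hs
  · have hsq : (lift (cj A * fld σ * itr) : MulAut (ProjectiveSpecialLinearGroup (Fin n) F)) ^ 2 =
        lift (cj (A * fldGL σ (itrGL A)) * fld (σ * σ)) := by
      rw [← map_pow, pow_two, sq_form]
    obtain ⟨A', hA'⟩ := pow_form (A * fldGL σ (itrGL A)) (σ * σ) (2 ^ k)
    have h1 : lift (cj A' * fld ((σ * σ) ^ 2 ^ k)) = lift (cj (Matrix.SpecialLinearGroup.toGL (g * g))) := by
      rw [← hA', map_pow lift, ← hsq, ← pow_mul, mul_comm, pow_mul, hg, ← map_pow, ← map_pow, ← map_pow, pow_two]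
    have h2 : σ * σ = 1 := fld_eq_one h3 k _ (fld_of_lift h1).2
    have hσ : σ = 1 := fld_eq_one h3 1 σ (by rw [pow_one, pow_two]; exact h2)
    subst hσ
    rw [hsq, mul_one, map_one fld, mul_one]
    refine isInn_of_det (s := 1) one_ne_zero ?_
    have h4 : (fldGL (1 : F ≃+* F) (itrGL A) : GL (Fin n) F) = itrGL A := by
      apply Units.ext
      rw [coe_fldGL]
      ext i j
      rfl
    rw [h4, Units.val_mul, det_mul]
    have h5 : ((itrGL A : GL (Fin n) F) : Matrix (Fin n) (Fin n) F) = ((A⁻¹ : GL (Fin n) F) : Matrix (Fin n) (Fin n) F)ᵀ := rfl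
    rw [h5, det_transpose, ← det_mul, ← Units.val_mul, mul_inv_cancel, Units.val_one, det_one, one_pow]

end Cfsg.Agent.H716.K547
end

private theorem dce_11173beb7e04 : _root_.True := by
  try have : _root_.True := by simp only [_root_.Cfsg.Agent.H829.K547.PslA.N1.eq_1]
  try have : _root_.True := by simp only [_root_.Cfsg.Agent.H716.K547.dia.eq_1]
  exact _root_.True.intro
end

-- part: H71/K547/M11_mg
section
set_option linter.all false
open scoped Cfsg.Agent.FastGrp

-- part: H71/K547/M11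
section
/-!
# S4547, row `M₁₁` (helper71)
-/

set_option autoImplicit false

namespace Cfsg.Agent.H71.K547

open Cfsg Cfsg.Agent.H821.K547 Cfsg.Agent.Cit.Eleven

universe u

/-- an element of order eight of `GL(2,3)` -/
def g8 : X := ⟨!![1, 1; 1, 0], !![0, 1; 1, -1], by decide, by decide⟩

theorem g8_aux : (!![1, 1; 1, 0] * !![1, 1; 1, 0] * (!![1, 1; 1, 0] * !![1, 1; 1, 0]) : Matrix (Fin 2) (Fin 2) (ZMod 3)) = -1 := by
  decide

theorem g8_four : g8 ^ 4 = -1 := by
  apply Units.ext
  have h : (g8 ^ 4 : X) = g8 * g8 * (g8 * g8) := by rw [pow_succ, pow_succ, pow_succ, pow_one, mul_assoc (g8 * g8)]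
  rw [h]
  exact g8_aux

theorem orderOf_g8 : orderOf g8 = 8 := by
  have h : orderOf g8 = 2 ^ (2 + 1) := by
    apply orderOf_eq_prime_pow
    · rw [show (2 : ℕ) ^ 2 = 4 from rfl, g8_four]
      intro h
      have h1 := congrArg (fun g : X => (g : Matrix (Fin 2) (Fin 2) (ZMod 3)) 0 0) h
      revert h1
      decide
    · rw [show (2 : ℕ) ^ (2 + 1) = 4 * 2 from rfl, pow_mul, g8_four]
      exact neg_one_sq
  rw [h]
  norm_num

/-- **S4547, row `M₁₁`** -/
theorem row_m11 {S : Type u} [Group S] (h : Cfsg.Spor.IsoM11 S) : Row S where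
  base := by
    right
    have hfin := finite h
    have hcard : Nat.card S = 7920 := (isM11 h).2
    have : Fact (Nat.Prime 2) := ⟨Nat.prime_two⟩
    obtain ⟨z, hz⟩ := exists_prime_orderOf_dvd_card' (G := S) 2 (by rw [hcard]; norm_num)
    obtain ⟨e⟩ := nonempty_equiv h hz
    refine ⟨(e.symm g8 : Subgroup.centralizer ({z} : Set S)), 3, ?_, ?_⟩
    · rw [Subgroup.orderOf_coe, MulEquiv.orderOf_eq, orderOf_g8]
      norm_num
    · intro hd
      have h1 := hd.trans (Subgroup.card_subgroup_dvd_card _)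
      rw [hcard] at h1
      exact absurd h1 (by norm_num)
  ext τ _ hτ := by
    exfalso
    obtain ⟨g, hg⟩ := aut_inner h τ
    exact hτ ⟨g, fun x => by rw [hg]; rfl⟩

end Cfsg.Agent.H71.K547
end

-- part: H569/K547/M
section
/-!
# S4547, row `M` (helper569)

`2^{1+24}.Co₁ ≤ M` and `2^{11}:M₂₄ ≤ Co₁` have odd index.
-/

set_option autoImplicit false

namespace Cfsg.Agent.H569.K547

open Cfsg Cfsg.Agent.H821.K547 Subgroup

universe u

theorem finite_co1 : Finite Spor.Co1 :=
  Nat.finite_of_card_ne_zero (by rw [Cfsg.Agent.MonsterU.CoFrameF.card_Co1]; norm_num)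

theorem d3_co1 (h : D3 M24) : D3 Spor.Co1 := by
  have := finite_co1
  refine d3_of_map (M := Cfsg.Agent.MonsterU.CoFrameF.F) ?_ Cfsg.Agent.MonsterU.CoFrameF.toM24
    Cfsg.Agent.MonsterU.CoFrameF.toM24_surjective h
  rw [Cfsg.Agent.MonsterU.CoFrameF.index_F]
  norm_num

theorem d3_monster (h : D3 Spor.Co1) : D3 Spor.Monster := by
  have := Cfsg.Agent.H848.MonsterSetup.finite
  obtain ⟨Q, z, eta, pi, y, τ, hc, -⟩ := Cfsg.Agent.H848.MonsterSetup.exists_setup
  refine d3_of_map (M := centralizer ({z} : Set Spor.Monster)) ?_ pi hc.pi_surj h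
  intro hd
  have h3 := (Subgroup.centralizer ({z} : Set Spor.Monster)).card_mul_index
  rw [Cfsg.Agent.H848.MonsterSetup.card, Cfsg.Agent.MonsterU.AmalElts.card_centralizer hc] at h3
  obtain ⟨k, hk⟩ := hd
  rw [hk] at h3
  omega

/-- outer automorphism group trivial: every automorphism is inner -/
theorem isInn_of_out {S T : Type*} [Group S] [Group T] (e : S ≃* T) (h : Nat.card (Cfsg.Out T) = 1) (τ : MulAut S) :
    IsInn τ := by
  have h0 : (Inn T).index = 1 := h
  rw [Subgroup.index_eq_one] at h0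
  obtain ⟨t, ht⟩ : ((e.symm.trans τ).trans e : MulAut T) ∈ Inn T := h0 ▸ mem_top _
  refine ⟨e.symm t, fun x => ?_⟩
  have h1 := congrArg (fun f : MulAut T => e.symm (f (e x))) ht.symm
  simpa using h1

/-- **S4547, row `M`**, from `D3 M24` -/
theorem row_m_of (h24 : D3 M24) {S : Type u} [Group S] (h : Spor.IsoM S) : Row S := by
  obtain ⟨e⟩ := id h
  have := Cfsg.Agent.H848.MonsterSetup.finite
  have : Finite S := Finite.of_equiv _ e.symm.toEquiv
  exact row_of_inner (.inl ⟨Cfsg.Agent.H740.K4.M.good5_m h, d3_of_equiv e (d3_monster (d3_co1 h24))⟩)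
    (isInn_of_out e Cfsg.Agent.S2085.result)

end Cfsg.Agent.H569.K547
end

-- part: H569/K547/MRow
section
/-!
# S4547, row `M` (helper569)
-/

set_option autoImplicit false

namespace Cfsg.Agent.H569.K547

open Cfsg Cfsg.Agent.H821.K547

universe u

/-- **S4547, row `M`** -/
theorem row_m {S : Type u} [Group S] (h : Spor.IsoM S) : Row S := row_m_of d3_m24 h

end Cfsg.Agent.H569.K547
end
end

-- part: H581/K547/PSpExt_mg
section
prune_inst 0x10008000000000000000000800000000000009000000000000000400000004000008000000000000008000000000020000000000000000000000000000000001000000000000000000000000080000000000000000000000000000000000004000000000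
set_option linter.all false
open scoped Cfsg.Agent.FastGrp

-- part: H269/K547/Elem
section
/-!
# Elementary abelian 2-subgroups

Adjoining a commuting involution to an elementary abelian 2-subgroup, three commuting independent involutions.
-/

set_option autoImplicit false

namespace Cfsg.Agent.H269.K547

universe u

variable {Y : Type u} [Group Y]

/-- adjoin a commuting involution -/
def adj (H : Subgroup Y) (z : Y) (hz : z * z = 1) (hc : ∀ h ∈ H, h * z = z * h) : Subgroup Y where
  carrier := {y | y ∈ H ∨ y * z ∈ H}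
  one_mem' := Or.inl H.one_mem
  mul_mem' := by
    rintro a b (ha | ha) (hb | hb)
    · exact Or.inl (H.mul_mem ha hb)
    · right
      rw [mul_assoc]
      exact H.mul_mem ha hb
    · right
      have h1 : a * b * z = (a * z) * b := by
        rw [mul_assoc, hc b hb, mul_assoc]
      rw [h1]
      exact H.mul_mem ha hb
    · left
      have h1 : a * b = (a * z) * (b * z) := by
        have h2 := hc _ hb
        have h3 : b = z * (b * z) := by
          rw [← h2, mul_assoc, hz, mul_one]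
        calc a * b = a * (z * (b * z)) := by rw [← h3]
          _ = _ := by rw [mul_assoc]
      rw [h1]
      exact H.mul_mem ha hb
  inv_mem' := by
    rintro a (ha | ha)
    · exact Or.inl (H.inv_mem ha)
    · right
      have h1 : z⁻¹ = z := inv_eq_of_mul_eq_one_left hz
      have h2 := H.inv_mem ha
      rw [mul_inv_rev, h1] at h2
      have h3 := hc _ h2
      have h4 : a⁻¹ = z * (z * a⁻¹) := by rw [← mul_assoc, hz, one_mul]
      have h5 : a⁻¹ * z = z * a⁻¹ := by
        calc a⁻¹ * z = z * (z * a⁻¹) * z := by rw [← h4]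
          _ = z * ((z * a⁻¹) * z) := by rw [mul_assoc]
          _ = z * (z * (z * a⁻¹)) := by rw [h3]
          _ = z * a⁻¹ := by rw [← h4]
      rw [h5]
      exact h2

theorem mem_adj {H : Subgroup Y} {z : Y} {hz : z * z = 1} {hc : ∀ h ∈ H, h * z = z * h} {y : Y} :
    y ∈ adj H z hz hc ↔ y ∈ H ∨ y * z ∈ H := Iff.rfl

theorem le_adj (H : Subgroup Y) (z : Y) (hz : z * z = 1) (hc : ∀ h ∈ H, h * z = z * h) : H ≤ adj H z hz hc :=
  fun _ h => Or.inl h

theorem card_adj (H : Subgroup Y) (z : Y) (hz : z * z = 1) (hc : ∀ h ∈ H, h * z = z * h) (hzH : z ∉ H) :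
    Nat.card (adj H z hz hc) = 2 * Nat.card H := by
  have h1 : (H.subgroupOf (adj H z hz hc)).index = 2 := by
    rw [Subgroup.index_eq_two_iff]
    refine ⟨⟨z, Or.inr (by rw [hz]; exact H.one_mem)⟩, ?_⟩
    rintro ⟨b, hb⟩
    rw [Subgroup.mem_subgroupOf, Subgroup.mem_subgroupOf]
    change Xor (b * z ∈ H) (b ∈ H)
    rcases hb with hb | hb
    · refine Or.inr ⟨hb, fun h => hzH ?_⟩
      have := H.mul_mem (H.inv_mem hb) h
      rwa [inv_mul_cancel_left] at this
    · refine Or.inl ⟨hb, fun h => hzH ?_⟩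
      have := H.mul_mem (H.inv_mem h) hb
      rwa [inv_mul_cancel_left] at this
  have h2 := Subgroup.card_mul_index (H.subgroupOf (adj H z hz hc))
  rw [h1, Nat.card_congr (Subgroup.subgroupOfEquivOfLe (le_adj H z hz hc)).toEquiv] at h2
  rw [← h2, mul_comm]

theorem sq_adj (H : Subgroup Y) (z : Y) (hz : z * z = 1) (hc : ∀ h ∈ H, h * z = z * h) (hH : ∀ h ∈ H, h * h = 1) :
    ∀ h ∈ adj H z hz hc, h * h = 1 := by
  rintro h (hh | hh)
  · exact hH h hh
  · have h1 := hH _ hh
    have h2 := hc _ hh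
    have h3 : h = z * (h * z) := by
      rw [← h2, mul_assoc, hz, mul_one]
    have h4 : h * h = (h * z) * (h * z) := by
      calc h * h = h * (z * (h * z)) := by rw [← h3]
        _ = _ := by rw [mul_assoc]
    rw [h4, h1]

/-- three commuting independent involutions generate an elementary abelian group of order 8 -/
theorem exists_elem {x y z : Y} (hx : x * x = 1) (hy : y * y = 1) (hz : z * z = 1) (hxy : x * y = y * x)
    (hxz : x * z = z * x) (hyz : y * z = z * y) (hx1 : x ≠ 1) (hy1 : y ≠ 1) (hyx : y * x ≠ 1) (hz1 : z ≠ 1)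
    (hzx : z * x ≠ 1) (hzy : z * y ≠ 1) (hzyx : z * y * x ≠ 1) :
    ∃ E : Subgroup Y, Nat.card E = 8 ∧ ∀ e ∈ E, e * e = 1 := by
  let K1 := adj (⊥ : Subgroup Y) x hx (fun h hh => by rw [Subgroup.mem_bot.1 hh]; simp)
  have hm1 : ∀ {h : Y}, h ∈ K1 ↔ h = 1 ∨ h * x = 1 := by
    intro h
    rw [mem_adj, Subgroup.mem_bot, Subgroup.mem_bot]
  have hix : x⁻¹ = x := inv_eq_of_mul_eq_one_left hx
  have hm1' : ∀ {h : Y}, h ∈ K1 → h = 1 ∨ h = x := by
    intro h hh
    rcases hm1.1 hh with h1 | h1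
    · exact Or.inl h1
    · right
      rw [← hix]
      exact eq_inv_of_mul_eq_one_left h1
  let K2 := adj K1 y hy (fun h hh => by
    rcases hm1' hh with h1 | h1
    · rw [h1]; simp
    · rw [h1, hxy])
  have hm2 : ∀ {h : Y}, h ∈ K2 ↔ (h = 1 ∨ h * x = 1) ∨ (h * y = 1 ∨ h * y * x = 1) := by
    intro h
    rw [mem_adj, hm1, hm1]
  have hiy : y⁻¹ = y := inv_eq_of_mul_eq_one_left hy
  let K3 := adj K2 z hz (fun h hh => by
    rcases hh with h1 | h1
    · rcases hm1' h1 with h1 | h1
      · rw [h1]; simp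
      · rw [h1, hxz]
    · have h2 : h * y = 1 ∨ h * y = x := hm1' h1
      have h3 : h = 1 * y ∨ h = x * y := by
        rcases h2 with h2 | h2
        · left
          rw [← h2, mul_assoc, hy, mul_one]
        · right
          rw [← h2, mul_assoc, hy, mul_one]
      rcases h3 with h3 | h3
      · rw [h3, one_mul, hyz]
      · rw [h3, mul_assoc, hyz, ← mul_assoc, hxz, mul_assoc])
  have c1 : Nat.card K1 = 2 := by
    have := card_adj (⊥ : Subgroup Y) x hx (fun h hh => by rw [Subgroup.mem_bot.1 hh]; simp)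
      (fun h => hx1 (Subgroup.mem_bot.1 h))
    rw [Subgroup.card_bot] at this
    simpa only [_root_.mul_one] using this
  have c2 : Nat.card K2 = 4 := by
    have := card_adj K1 y hy (fun h hh => by
      rcases hm1' hh with h1 | h1
      · rw [h1]; simp
      · rw [h1, hxy]) (fun h => by
        rcases hm1.1 h with h | h
        · exact hy1 h
        · exact hyx h)
    rw [c1] at this
    simpa only [_root_.Nat.reduceMul] using this
  have c3 : Nat.card K3 = 8 := by
    have := card_adj K2 z hz (fun h hh => by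
      rcases hh with h1 | h1
      · rcases hm1' h1 with h1 | h1
        · rw [h1]; simp
        · rw [h1, hxz]
      · have h2 : h * y = 1 ∨ h * y = x := hm1' h1
        have h3 : h = 1 * y ∨ h = x * y := by
          rcases h2 with h2 | h2
          · left
            rw [← h2, mul_assoc, hy, mul_one]
          · right
            rw [← h2, mul_assoc, hy, mul_one]
        rcases h3 with h3 | h3
        · rw [h3, one_mul, hyz]
        · rw [h3, mul_assoc, hyz, ← mul_assoc, hxz, mul_assoc]) (fun h => by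
        rcases hm2.1 h with (h | h) | (h | h)
        · exact hz1 h
        · exact hzx h
        · exact hzy h
        · exact hzyx h)
    rw [c2] at this
    simpa only [_root_.Nat.reduceMul] using this
  exact ⟨K3, c3, sq_adj _ _ _ _ (sq_adj _ _ _ _ (sq_adj _ _ _ _ (fun h hh => by
    rw [Subgroup.mem_bot.1 hh, one_mul])))⟩

end Cfsg.Agent.H269.K547
end

-- part: H269/K547/PSpElem
section
/-!
# An elementary abelian subgroup of order 8 in `PSp_2m(F)`, `m ≥ 2`, odd characteristic
-/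

set_option autoImplicit false

open Cfsg Matrix

namespace Cfsg.Agent.H269.K547

universe u

variable {F : Type u} [Field F] {m : ℕ}

/-- the block matrix with scalar blocks `a, b, b, -a` -/
def jmat (m : ℕ) (a b : F) : Matrix (Fin m ⊕ Fin m) (Fin m ⊕ Fin m) F :=
  fromBlocks (a • 1) (b • 1) (b • 1) (-(a • 1))

theorem jmat_mul (a b : F) (h : a * a + b * b = -1) : jmat m a b * jmat m a b = -1 := by
  unfold jmat
  rw [fromBlocks_multiply]
  have e1 : (-1 : Matrix (Fin m ⊕ Fin m) (Fin m ⊕ Fin m) F) = fromBlocks (-1) 0 0 (-1) := by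
    rw [← fromBlocks_one, fromBlocks_neg, neg_zero]
  rw [e1]
  congr 1
  · simp only [smul_mul_smul, mul_one]
    rw [← add_smul, h, neg_smul, one_smul]
  · simp only [smul_mul_smul, mul_one, mul_neg]
    rw [← sub_eq_add_neg, ← sub_smul, mul_comm a b, sub_self, zero_smul]
  · simp only [smul_mul_smul, mul_one, neg_mul]
    rw [← sub_eq_add_neg, ← sub_smul, mul_comm a b, sub_self, zero_smul]
  · simp only [smul_mul_smul, mul_one, neg_mul, mul_neg, neg_neg]
    rw [← add_smul, add_comm (b * b), h, neg_smul, one_smul]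

theorem jmat_J (a b : F) : jmat m a b * J (Fin m) F = jmat m b (-a) := by
  unfold jmat J
  rw [fromBlocks_multiply]
  simp only [_root_.MulZeroClass.mul_zero, _root_.mul_one, _root_.zero_add, _root_.mul_neg, _root_.add_zero, _root_.neg_smul]

theorem J_jmat (a b : F) : J (Fin m) F * jmat m a b = fromBlocks (-(b • 1)) (a • 1) (a • 1) (b • 1) := by
  unfold jmat J
  rw [fromBlocks_multiply]
  simp only [_root_.Algebra.mul_smul_comm, _root_.mul_one, _root_.smul_zero, _root_.smul_neg, _root_.zero_add, _root_.mul_neg, _root_.neg_neg, _root_.add_zero, _root_.neg_zero]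

theorem jmat_transpose (a b : F) : (jmat m a b)ᵀ = jmat m a b := by
  unfold jmat
  rw [fromBlocks_transpose]
  simp

theorem jmat_anti (a b : F) : J (Fin m) F * jmat m a b = -(jmat m a b * J (Fin m) F) := by
  rw [jmat_J, J_jmat, jmat, fromBlocks_neg]
  simp only [_root_.neg_smul, _root_.neg_neg]

theorem jmat_mem (a b : F) (h : a * a + b * b = -1) : jmat m a b ∈ symplecticGroup (Fin m) F := by
  rw [SymplecticGroup.mem_iff, jmat_transpose]
  have h1 : jmat m a b * J (Fin m) F = -(J (Fin m) F * jmat m a b) := by rw [jmat_anti, neg_neg]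
  rw [h1, neg_mul, mul_assoc, jmat_mul a b h]
  simp

/-- the diagonal matrix `diag(-1, 1, ..., 1)` in both blocks -/
def dvec (F : Type u) [Field F] (m : ℕ) : Fin m → F := fun k => if (k : ℕ) = 0 then -1 else 1

def zmat (F : Type u) [Field F] (m : ℕ) : Matrix (Fin m ⊕ Fin m) (Fin m ⊕ Fin m) F :=
  fromBlocks (diagonal (dvec F m)) 0 0 (diagonal (dvec F m))

theorem dvec_mul (k : Fin m) : dvec F m k * dvec F m k = 1 := by
  unfold dvec
  split_ifs <;> simp

theorem diag_mul : diagonal (dvec F m) * diagonal (dvec F m) = 1 := by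
  rw [diagonal_mul_diagonal]
  simp only [dvec_mul]
  exact diagonal_one

theorem zmat_mul : zmat F m * zmat F m = 1 := by
  unfold zmat
  rw [fromBlocks_multiply, diag_mul]
  simp only [mul_zero, zero_mul, add_zero, zero_add]
  exact fromBlocks_one

theorem zmat_J : zmat F m * J (Fin m) F = J (Fin m) F * zmat F m := by
  unfold zmat J
  rw [fromBlocks_multiply, fromBlocks_multiply]
  simp

theorem zmat_jmat (a b : F) : zmat F m * jmat m a b = jmat m a b * zmat F m := by
  unfold zmat jmat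
  rw [fromBlocks_multiply, fromBlocks_multiply]
  simp

theorem zmat_transpose : (zmat F m)ᵀ = zmat F m := by
  unfold zmat
  rw [fromBlocks_transpose]
  simp

theorem zmat_mem : zmat F m ∈ symplecticGroup (Fin m) F := by
  rw [SymplecticGroup.mem_iff, zmat_transpose, zmat_J, mul_assoc, zmat_mul, mul_one]

/-- a scalar matrix has equal diagonal blocks and zero off-diagonal blocks -/
theorem blocks_of_scalar {A B C D : Matrix (Fin m) (Fin m) F} {c : F}
    (h : fromBlocks A B C D = c • (1 : Matrix (Fin m ⊕ Fin m) (Fin m ⊕ Fin m) F)) :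
    A = c • 1 ∧ B = 0 ∧ C = 0 ∧ D = c • 1 := by
  rw [← fromBlocks_one, fromBlocks_smul, fromBlocks_inj, smul_zero] at h
  exact h

theorem smul_one_eq_zero (hm : 1 ≤ m) {a : F} (h : a • (1 : Matrix (Fin m) (Fin m) F) = 0) : a = 0 := by
  have := congrFun (congrFun h ⟨0, hm⟩) ⟨0, hm⟩
  simpa using this

theorem smul_diag_eq_zero {a : F} (hm : 1 ≤ m) (h : a • diagonal (dvec F m) = 0) : a = 0 := by
  have h1 : a • (1 : Matrix (Fin m) (Fin m) F) = 0 := by
    rw [← diag_mul, ← smul_mul_assoc, h, zero_mul]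
  exact smul_one_eq_zero hm h1

theorem no_ab {a b : F} (h : a * a + b * b = -1) (ha : a = 0) (hb : b = 0) : False := by
  rw [ha, hb] at h
  simp at h

section Elts

variable (h2 : (2 : F) ≠ 0) (hm : 2 ≤ m)

theorem two_zero (h2 : (2 : F) ≠ 0) {a : F} (h : a = -a) : a = 0 := by
  have : (2 : F) * a = 0 := by linear_combination h
  exact (mul_eq_zero.1 this).resolve_left h2

include hm in
theorem J_not_scalar (c : F) : J (Fin m) F ≠ c • 1 := by
  intro h
  unfold J at h
  obtain ⟨-, -, h3, -⟩ := blocks_of_scalar h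
  have := smul_one_eq_zero (F := F) (m := m) (by omega) (a := 1) (by rw [one_smul]; exact h3)
  exact one_ne_zero this

include h2 hm in
theorem scal_not_scalar {a b : F} (hab : ¬ (a = 0 ∧ b = 0)) (c : F) :
    jmat m a b ≠ c • 1 := by
  intro h
  unfold jmat at h
  obtain ⟨h1, h2', -, h4⟩ := blocks_of_scalar h
  refine hab ⟨?_, smul_one_eq_zero (by omega) h2'⟩
  have h5 : (a - (-a)) • (1 : Matrix (Fin m) (Fin m) F) = 0 := by
    rw [sub_smul, neg_smul, sub_eq_zero]
    exact h1.trans h4.symm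
  have h6 := smul_one_eq_zero (F := F) (m := m) (by omega) h5
  exact two_zero h2 (sub_eq_zero.1 h6)

include h2 hm in
theorem dscal_not_scalar {a b : F} (hab : ¬ (a = 0 ∧ b = 0)) (c : F) :
    zmat F m * jmat m a b ≠ c • 1 := by
  intro h
  have h0 : zmat F m * jmat m a b = fromBlocks (a • diagonal (dvec F m)) (b • diagonal (dvec F m))
      (b • diagonal (dvec F m)) (-(a • diagonal (dvec F m))) := by
    unfold zmat jmat
    rw [fromBlocks_multiply]
    simp
  rw [h0] at h
  obtain ⟨h1, h2', -, h4⟩ := blocks_of_scalar h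
  refine hab ⟨?_, smul_diag_eq_zero (by omega) h2'⟩
  have h5 : (a - (-a)) • diagonal (dvec F m) = 0 := by
    rw [sub_smul, neg_smul, sub_eq_zero]
    exact h1.trans h4.symm
  have h6 := smul_diag_eq_zero (F := F) (m := m) (by omega) h5
  exact two_zero h2 (sub_eq_zero.1 h6)

include h2 hm in
theorem zmat_not_scalar (c : F) : zmat F m ≠ c • 1 := by
  intro h
  unfold zmat at h
  obtain ⟨h1, -, -, -⟩ := blocks_of_scalar h
  have e0 := congrFun (congrFun h1 ⟨0, by omega⟩) ⟨0, by omega⟩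
  have e1 := congrFun (congrFun h1 ⟨1, by omega⟩) ⟨1, by omega⟩
  simp [dvec] at e0 e1
  have : (1 : F) = -1 := by rw [e0, ← e1]
  exact one_ne_zero (two_zero h2 this)

include hm in
theorem zJ_not_scalar (c : F) : zmat F m * J (Fin m) F ≠ c • 1 := by
  intro h
  unfold zmat J at h
  rw [fromBlocks_multiply] at h
  obtain ⟨-, -, h3, -⟩ := blocks_of_scalar h
  have h4 : (1 : F) • diagonal (dvec F m) = 0 := by
    rw [one_smul, ← h3]
    simp
  exact one_ne_zero (smul_diag_eq_zero (by omega) h4)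

end Elts

/-- `PSp_2m(F)` contains an elementary abelian subgroup of order 8, if `-1` is a sum of two squares -/
theorem psp_elem (h2 : (2 : F) ≠ 0) (hm : 2 ≤ m) {a b : F} (hab : a * a + b * b = -1) :
    ∃ E : Subgroup (PSp m F), Nat.card E = 8 ∧ ∀ e ∈ E, e * e = 1 := by
  let x : symplecticGroup (Fin m) F := ⟨J (Fin m) F, SymplecticGroup.J_mem _ _⟩
  let y : symplecticGroup (Fin m) F := ⟨jmat m a b, jmat_mem a b hab⟩
  let z : symplecticGroup (Fin m) F := ⟨zmat F m, zmat_mem⟩
  have hab' : ¬ (a = 0 ∧ b = 0) := fun h => no_ab hab h.1 h.2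
  let π : symplecticGroup (Fin m) F →* PSp m F := QuotientGroup.mk' _
  have hπ : ∀ g : symplecticGroup (Fin m) F, π g = 1 ↔ ∃ c : F, g.1 = c • 1 := by
    intro g
    rw [← LieClassical.SympCenter.mem_center_iff]
    exact QuotientGroup.eq_one_iff g
  have hneg : ∀ g : symplecticGroup (Fin m) F, g.1 = -1 → π g = 1 := by
    intro g hg
    exact (hπ g).2 ⟨-1, by rw [hg, neg_smul, one_smul]⟩
  have hxx : π x * π x = 1 := by
    rw [← map_mul]
    apply hneg
    change J (Fin m) F * J (Fin m) F = -1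
    exact J_squared _ _
  have hyy : π y * π y = 1 := by
    rw [← map_mul]
    apply hneg
    exact jmat_mul a b hab
  have hzz : π z * π z = 1 := by
    rw [← map_mul]
    have : z * z = 1 := Subtype.ext zmat_mul
    rw [this, map_one]
  let w : symplecticGroup (Fin m) F := ⟨-1, by
    rw [SymplecticGroup.mem_iff]
    simp⟩
  have hw : π w = 1 := hneg w rfl
  have hxy : π x * π y = π y * π x := by
    have h1 : x * y = w * (y * x) := by
      apply Subtype.ext
      change J (Fin m) F * jmat m a b = -1 * (jmat m a b * J (Fin m) F)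
      rw [jmat_anti]
      simp
    rw [← map_mul, ← map_mul, h1, map_mul, hw, one_mul]
  have hxz : π x * π z = π z * π x := by
    rw [← map_mul, ← map_mul]
    (with_reducible congr 1)
    exact Subtype.ext zmat_J.symm
  have hyz : π y * π z = π z * π y := by
    rw [← map_mul, ← map_mul]
    (with_reducible congr 1)
    exact Subtype.ext (zmat_jmat a b).symm
  have hab'' : ¬ (b = 0 ∧ -a = 0) := fun h => no_ab hab (neg_eq_zero.1 h.2) h.1
  have hns : ∀ g : symplecticGroup (Fin m) F, (∀ c : F, g.1 ≠ c • 1) → π g ≠ 1 := by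
    intro g hg h
    obtain ⟨c, hc⟩ := (hπ g).1 h
    exact hg c hc
  refine exists_elem hxx hyy hzz hxy hxz hyz ?_ ?_ ?_ ?_ ?_ ?_ ?_
  · exact hns x (J_not_scalar hm)
  · exact hns y (scal_not_scalar h2 hm hab')
  · rw [← map_mul]
    refine hns _ (fun c => ?_)
    change jmat m a b * J (Fin m) F ≠ _
    rw [jmat_J]
    exact scal_not_scalar h2 hm hab'' c
  · exact hns z (zmat_not_scalar h2 hm)
  · rw [← map_mul]
    exact hns _ (zJ_not_scalar hm)
  · rw [← map_mul]
    exact hns _ (dscal_not_scalar h2 hm hab')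
  · rw [← map_mul, ← map_mul]
    refine hns _ (fun c => ?_)
    change zmat F m * jmat m a b * J (Fin m) F ≠ _
    rw [mul_assoc, jmat_J]
    exact dscal_not_scalar h2 hm hab'' c

/-- the version for finite fields of odd order -/
theorem psp_elem_of_odd [Fintype F] (hF : Odd (Fintype.card F)) (hm : 2 ≤ m) :
    ∃ E : Subgroup (PSp m F), Nat.card E = 8 ∧ ∀ e ∈ E, e * e = 1 := by
  obtain ⟨a, b, hab⟩ := FiniteField.exists_root_sum_quadratic (R := F) (f := Polynomial.X ^ 2) (g := Polynomial.X ^ 2 + 1)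
    (by simp only [_root_.Polynomial.degree_pow, _root_.Polynomial.degree_X, _root_.nsmul_eq_mul, _root_.Nat.cast_ofNat, _root_.mul_one]) (by compute_degree!) (by rw [Nat.odd_iff] at hF; exact hF)
  have h1 : a * a + b * b = -1 := by
    simp only [_root_.Polynomial.eval_pow, _root_.Polynomial.eval_X, _root_.Polynomial.eval_add, _root_.Polynomial.eval_one] at hab
    linear_combination hab
  have h2 : (2 : F) ≠ 0 := by
    intro h
    have : ringChar F ≠ 2 := by
      intro hc
      have := FiniteField.even_card_iff_char_two.1 hc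
      rw [Nat.odd_iff] at hF
      omega
    exact (Ring.two_ne_zero this) h
  exact psp_elem h2 hm h1

end Cfsg.Agent.H269.K547
end

-- part: H269/K547/PSp
section
/-!
# S4547, row QO-PSP: `D3 (PSp m F)` for `m ≥ 2` and `|F|` odd
-/

set_option autoImplicit false

open Cfsg Matrix

namespace Cfsg.Agent.H269.K547

open Cfsg.Agent.H821.K547

universe u v

/-- the Sylow 2-subgroups of `PSp_2m(F)`, `m ≥ 2`, `|F|` odd, need at least three generators -/
theorem d3_psp {F : Type u} [Field F] [Fintype F] (hF : Odd (Fintype.card F)) (m : ℕ) (hm : 2 ≤ m) : D3 (PSp m F) := by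
  obtain ⟨E, hE, hE2⟩ := psp_elem_of_odd (m := m) hF hm
  exact d3_quot (QuotientGroup.mk' (Subgroup.center (symplecticGroup (Fin m) F)))
    (QuotientGroup.mk'_surjective _) (fun P x => S4624.result hF m (by omega) P x) E hE
    (fun x hx => by rw [pow_two]; exact hE2 x hx)

end Cfsg.Agent.H269.K547
end

-- part: H581/K547/SpMon
section
/-!
# S4547: the monomial subgroup of `PSp` and two homomorphisms to `C_2` (helper581, task 5038)

* `NM m F` : the monomial subgroup of `Sp`, `PN m F` : its image in `PSp`;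
* `not_two_dvd_index` : odd index if `4 ∣ q - 1`;
* `fhom` : the homomorphism `PN m F →* ℤˣ × ℤˣ`, `fhom_surjective`.
-/

set_option autoImplicit false
set_option linter.unusedSectionVars false

namespace Cfsg.Agent.H581.K547.SpMon

open Cfsg Cfsg.Agent.S0777 Cfsg.Agent.ClassicalGeometry.SympBasic
open scoped Matrix

universe u

variable {F : Type u} [Field F] {m : ℕ}

/-- the monomial subgroup of `Sp` -/
def NM (m : ℕ) (F : Type u) [Field F] : Subgroup (Matrix.symplecticGroup (Fin m) F) :=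
  Subgroup.normalizer (torus m F : Set (Matrix.symplecticGroup (Fin m) F))

/-- the data of a monomial matrix -/
abbrev Dt (m : ℕ) (F : Type u) [Field F] := Equiv.Perm (Fin m) × (Fin m → Bool) × (Fin m → Fˣ)

theorem pm_comp {x y z : Dt m F} (h : (monS z : Matrix.symplecticGroup (Fin m) F) = monS x * monS y)
    (i : Fin m ⊕ Fin m) : pm z.1 z.2.1 i = pm x.1 x.2.1 (pm y.1 y.2.1 i) := by
  have h1 := monS_mulVec z i
  rw [h, coe_mul_mulVec, monS_mulVec, Matrix.mulVec_smul, monS_mulVec, smul_smul, ← Units.val_mul] at h1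
  exact (smul_single_eq h1).1.symm

theorem fst_mul {x y z : Dt m F} (h : (monS z : Matrix.symplecticGroup (Fin m) F) = monS x * monS y) :
    z.1 = x.1 * y.1 ∧ ∀ i, z.2.1 i = xor (y.2.1 i) (x.2.1 (y.1 i)) := by
  have key : ∀ i, z.1 i = x.1 (y.1 i) ∧ z.2.1 i = xor (y.2.1 i) (x.2.1 (y.1 i)) := by
    intro i
    have h1 := pm_comp h (Sum.inl i)
    rcases ha : z.2.1 i with _ | _ <;> rcases hb : y.2.1 i with _ | _ <;> rcases hc : x.2.1 (y.1 i) with _ | _ <;>
      simp_all only [pm, _root_.Sum.elim_inl, _root_.Bool.false_eq_true, ↓ _root_.reduceIte, _root_.Sum.inl.injEq, _root_.bne_self_eq_false, _root_.and_self, _root_.reduceCtorEq, _root_.Sum.elim_inr, _root_.Sum.inr.injEq, _root_.Bool.bne_true, _root_.Bool.not_false, _root_.Bool.bne_false]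
  exact ⟨Equiv.ext fun i => (key i).1, fun i => (key i).2⟩

/-- the sign of a sign vector -/
def sb (ε : Fin m → Bool) : ℤˣ := ∏ i, if ε i then -1 else 1

theorem sb_mul {x y z : Dt m F} (h : (monS z : Matrix.symplecticGroup (Fin m) F) = monS x * monS y) :
    sb z.2.1 = sb x.2.1 * sb y.2.1 := by
  obtain ⟨-, h2⟩ := fst_mul h
  have h3 : sb x.2.1 = ∏ i, if x.2.1 (y.1 i) then (-1 : ℤˣ) else 1 := by
    unfold sb
    exact (Equiv.prod_comp y.1 (fun i => if x.2.1 i then (-1 : ℤˣ) else 1)).symm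
  rw [h3]
  unfold sb
  rw [← Finset.prod_mul_distrib]
  refine Finset.prod_congr rfl fun i _ => ?_
  rw [h2 i]
  cases y.2.1 i <;> cases x.2.1 (y.1 i) <;> rfl

section hom

variable [Finite F] (hF : 3 < Nat.card F)

/-- the data of an element of `NM` -/
noncomputable def dat (A : NM m F) : Dt m F := Classical.choose (exists_monS hF A.2)

theorem monS_dat (A : NM m F) : monS (dat hF A) = A.1 := Classical.choose_spec (exists_monS hF A.2)

theorem monS_dat_mul (A B : NM m F) : monS (dat hF (A * B)) = monS (dat hF A) * monS (dat hF B) := by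
  rw [monS_dat, monS_dat, monS_dat]
  rfl

/-- the homomorphism on the monomial subgroup of `Sp` -/
noncomputable def f0 : NM m F →* ℤˣ × ℤˣ :=
  MonoidHom.mk' (fun A => (Equiv.Perm.sign (dat hF A).1, sb (dat hF A).2.1)) fun A B => by
    have h := monS_dat_mul hF A B
    refine Prod.ext ?_ ?_
    · change Equiv.Perm.sign _ = Equiv.Perm.sign _ * Equiv.Perm.sign _
      rw [(fst_mul h).1, Equiv.Perm.sign_mul]
    · exact sb_mul h

theorem f0_apply {A : NM m F} {x : Dt m F} (h : monS x = A.1) : f0 hF A = (Equiv.Perm.sign x.1, sb x.2.1) := by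
  have h1 : dat hF A = x := monS_injective (by rw [monS_dat, h])
  change (Equiv.Perm.sign (dat hF A).1, sb (dat hF A).2.1) = _
  rw [h1]

theorem card_NM [Fintype F] (h4 : 4 ≤ Fintype.card F) :
    Nat.card (NM m F) = 2 ^ m * Nat.factorial m * (Fintype.card F - 1) ^ m := by
  have h0 : (⨅ i : Fin m ⊕ Fin m, Cfsg.stabilizing (Cfsg.spToMat m F) ((Submodule.span F
      {(Pi.single i (1 : F) : Fin m ⊕ Fin m → F)} : Submodule F (Fin m ⊕ Fin m → F)) :
      Set (Fin m ⊕ Fin m → F)) : Set (Matrix.symplecticGroup (Fin m) F)) =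
      (torus m F : Set (Matrix.symplecticGroup (Fin m) F)) := by
    rw [torus, Subgroup.coe_iInf]
    rfl
  rw [NM, ← h0]
  exact S0777.result rfl h4 m

end hom

/-! ### The index -/

theorem padic_factor {q : ℕ} (hq : 1 < q) (h4 : 4 ∣ q - 1) (i : ℕ) :
    padicValNat 2 (q ^ (2 * (i + 1)) - 1) = padicValNat 2 (q - 1) + 1 + padicValNat 2 (i + 1) := by
  have hodd : ¬ 2 ∣ q := by omega
  have h1 := padicValNat.pow_two_sub_one (x := q) (n := 2 * (i + 1)) hq hodd (by omega) (even_two_mul _)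
  have h2 : padicValNat 2 (q + 1) = 1 := by
    obtain ⟨k, hk⟩ := h4
    have h3 : q + 1 = 2 ^ 1 * (2 * k + 1) := by (clear * - hq hk; omega)
    rw [h3, padicValNat.mul (by norm_num) (by omega), padicValNat.prime_pow, padicValNat.eq_zero_of_not_dvd (by omega)]
  rw [h2, padicValNat.mul (by norm_num) (by omega), padicValNat.self (by norm_num)] at h1
  omega

theorem padic_prod {q : ℕ} (hq : 1 < q) (h4 : 4 ∣ q - 1) (m : ℕ) :
    padicValNat 2 (∏ i ∈ Finset.range m, (q ^ (2 * (i + 1)) - 1)) =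
      m * (padicValNat 2 (q - 1) + 1) + padicValNat 2 (Nat.factorial m) := by
  have hpos : ∀ i, q ^ (2 * (i + 1)) - 1 ≠ 0 := fun i => by
    have : 1 < q ^ (2 * (i + 1)) := Nat.one_lt_pow (by omega) hq
    omega
  induction m with
  | zero => simp only [_root_.Finset.range_zero, _root_.Finset.prod_empty, _root_.padicValNat_one_right, _root_.MulZeroClass.zero_mul, _root_.Nat.factorial_zero, _root_.add_zero]
  | succ m ih =>
    rw [Finset.prod_range_succ, padicValNat.mul (Finset.prod_ne_zero_iff.2 fun i _ => hpos i) (hpos m), ih,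
      padic_factor hq h4, Nat.factorial_succ, padicValNat.mul (by omega) (Nat.factorial_ne_zero m)]
    ring

theorem not_two_dvd_index_NM [Fintype F] (h4 : 4 ∣ Fintype.card F - 1) : ¬ 2 ∣ (NM m F).index := by
  have hq1 : 1 < Fintype.card F := Fintype.one_lt_card
  have hq : 4 ≤ Fintype.card F := by omega
  have h1 := (NM m F).card_mul_index
  have hpos : ∀ i, Fintype.card F ^ (2 * (i + 1)) - 1 ≠ 0 := fun i => by
    have : 1 < Fintype.card F ^ (2 * (i + 1)) := Nat.one_lt_pow (by omega) hq1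
    omega
  have hpow : ∀ (a : ℕ) {n : ℕ}, a ≠ 0 → padicValNat 2 (a ^ n) = n * padicValNat 2 a := fun a n ha => by
    rw [padicValNat.pow a n]
  rw [card_NM hq, S0245.result rfl m] at h1
  have h2 := congrArg (padicValNat 2) h1
  have hidx : (NM m F).index ≠ 0 := by
    intro h0
    rw [h0, mul_zero] at h1
    have h3 : (Fintype.card F) ^ (m ^ 2) * ∏ i ∈ Finset.range m, (Fintype.card F ^ (2 * (i + 1)) - 1) ≠ 0 :=
      mul_ne_zero (pow_ne_zero _ (by omega)) (Finset.prod_ne_zero_iff.2 fun i _ => hpos i)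
    exact h3 h1.symm
  rw [padicValNat.mul (mul_ne_zero (mul_ne_zero (by positivity) (Nat.factorial_ne_zero m)) (pow_ne_zero _ (by omega)))
    hidx, padicValNat.mul (mul_ne_zero (by positivity) (Nat.factorial_ne_zero m)) (pow_ne_zero _ (by omega)),
    padicValNat.mul (by positivity) (Nat.factorial_ne_zero m), padicValNat.prime_pow,
    padicValNat.mul (pow_ne_zero _ (by omega)) (Finset.prod_ne_zero_iff.2 fun i _ => hpos i),
    padic_prod hq1 h4, hpow _ (by omega), hpow (Fintype.card F) (by omega),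
    padicValNat.eq_zero_of_not_dvd (n := Fintype.card F) (by omega)] at h2
  intro h
  have h3 : 1 ≤ padicValNat 2 (NM m F).index := by
    have : Fact (Nat.Prime 2) := ⟨Nat.prime_two⟩
    exact one_le_padicValNat_of_dvd hidx h
  linarith only [h2, h3]

/-! ### The group `PSp` -/

/-- the image in `PSp` -/
def PN (m : ℕ) (F : Type u) [Field F] : Subgroup (PSp m F) :=
  (NM m F).map (QuotientGroup.mk' (Subgroup.center (Matrix.symplecticGroup (Fin m) F)))

theorem not_two_dvd_index [Fintype F] (h4 : 4 ∣ Fintype.card F - 1) : ¬ 2 ∣ (PN m F).index := by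
  intro h
  refine not_two_dvd_index_NM (m := m) h4 (h.trans ?_)
  exact Subgroup.index_map_dvd (NM m F) (QuotientGroup.mk'_surjective _)

section hom

variable [Finite F] (hF : 3 < Nat.card F)

/-- the projection -/
noncomputable def pr : NM m F →* PN m F :=
  (QuotientGroup.mk' (Subgroup.center (Matrix.symplecticGroup (Fin m) F))).subgroupMap (NM m F)

theorem pr_surjective : Function.Surjective (pr (m := m) (F := F)) := MonoidHom.subgroupMap_surjective _ _

theorem f0_of_center {A : NM m F} (hA : A.1 ∈ Subgroup.center (Matrix.symplecticGroup (Fin m) F)) :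
    f0 hF A = 1 := by
  obtain ⟨a, ha⟩ := (LieClassical.SympCenter.mem_center_iff m A.1).1 hA
  have h1 : ∀ i, pm (dat hF A).1 (dat hF A).2.1 i = i := by
    intro i
    have h2 := monS_mulVec (dat hF A) i
    rw [monS_dat, ha, Matrix.smul_mulVec, Matrix.one_mulVec] at h2
    by_contra hne
    have h3 := congrFun h2 (pm (dat hF A).1 (dat hF A).2.1 i)
    simp [hne] at h3
    exact (Units.ne_zero _) h3.symm
  have h2 : ∀ i, (dat hF A).1 i = i ∧ (dat hF A).2.1 i = false := by
    intro i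
    have h3 := h1 (Sum.inl i)
    rcases ha : (dat hF A).2.1 i with _ | _
    · simp only [pm, Sum.elim_inl, ha, Bool.false_eq_true, if_false, Sum.inl.injEq] at h3
      exact ⟨h3, rfl⟩
    · simp [pm, ha] at h3
  have h3 : (dat hF A).1 = 1 := Equiv.ext fun i => (h2 i).1
  have h4 : sb (dat hF A).2.1 = 1 := Finset.prod_eq_one fun i _ => by rw [(h2 i).2]; rfl
  rw [f0_apply hF (monS_dat hF A), h3, h4, Equiv.Perm.sign_one]
  rfl

theorem ker_le : (pr (m := m) (F := F)).ker ≤ (f0 (m := m) hF).ker := by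
  intro A hA
  rw [MonoidHom.mem_ker] at hA ⊢
  apply f0_of_center hF
  have h1 : (QuotientGroup.mk' (Subgroup.center (Matrix.symplecticGroup (Fin m) F))) A.1 = 1 :=
    congrArg Subtype.val hA
  exact (QuotientGroup.eq_one_iff A.1).1 h1

/-- **The homomorphism** -/
noncomputable def fhom : PN m F →* ℤˣ × ℤˣ :=
  (pr (m := m) (F := F)).liftOfSurjective pr_surjective ⟨f0 hF, ker_le hF⟩

theorem fhom_pr (A : NM m F) : fhom hF (pr A) = f0 hF A :=
  (pr (m := m) (F := F)).liftOfRightInverse_comp_apply _ _ ⟨f0 hF, ker_le hF⟩ A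

theorem fhom_surjective (hm : 2 ≤ m) : Function.Surjective (fhom (m := m) hF) := by
  classical
  have key : ∀ (x : Dt m F), ∃ k, fhom hF k = (Equiv.Perm.sign x.1, sb x.2.1) := fun x =>
    ⟨pr ⟨monS x, monS_mem_normalizer x⟩, by rw [fhom_pr, f0_apply hF rfl]⟩
  have h0 : sb (fun _ : Fin m => false) = 1 := Finset.prod_eq_one fun i _ => rfl
  have h1 : sb (fun i : Fin m => decide (i = ⟨0, by omega⟩)) = -1 := by
    unfold sb
    rw [Finset.prod_eq_single (⟨0, by omega⟩ : Fin m)]
    · simp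
    · intro i _ hi
      simp [hi]
    · simp only [_root_.Finset.mem_univ, _root_.not_true_eq_false, _root_.decide_true, ↓ _root_.reduceIte, _root_.neg_units_ne_self, _root_.imp_self]
  have h2 : Equiv.Perm.sign (Equiv.swap (⟨0, by omega⟩ : Fin m) ⟨1, by omega⟩) = -1 :=
    Equiv.Perm.sign_swap (by simp [Fin.ext_iff])
  rintro ⟨a, b⟩
  have ha : ∃ σ : Equiv.Perm (Fin m), Equiv.Perm.sign σ = a := by
    rcases Int.units_eq_one_or a with rfl | rfl
    · exact ⟨1, Equiv.Perm.sign_one⟩
    · exact ⟨_, h2⟩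
  have hb : ∃ ε : Fin m → Bool, sb ε = b := by
    rcases Int.units_eq_one_or b with rfl | rfl
    · exact ⟨_, h0⟩
    · exact ⟨_, h1⟩
  obtain ⟨σ, rfl⟩ := ha
  obtain ⟨ε, rfl⟩ := hb
  exact key ⟨σ, ε, fun _ => 1⟩

end hom

end Cfsg.Agent.H581.K547.SpMon
end

-- part: H581/K547/SpDiag
section
/-!
# S4547: diagonal-field automorphisms of `PSp` and the monomial subgroup (helper581, task 5038)

* `exists_rep` : every automorphism of `PSp m F` is `conj s * Psi h` with `h` semilinear and diagonal;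
* `map_PN`, `fhom_map` : `Psi h` stabilises `PN m F` and `fhom`.
-/

set_option autoImplicit false
set_option linter.unusedSectionVars false

namespace Cfsg.Agent.H581.K547.SpDiag

open Cfsg Cfsg.Agent.S0777 Cfsg.Agent.ClassicalGeometry.SympBasic Cfsg.Agent.ClassicalGeometry.SympAutSemi
open Cfsg.Agent.ClassicalGeometry.SympGamma
open Cfsg.Agent.H581.K547.SpMon
open scoped Matrix

universe u

variable {F : Type u} [Field F] {m : ℕ}

/-- diagonal semilinear maps -/
def DS (h : Equiv.Perm (Fin m ⊕ Fin m → F)) : Prop :=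
  ∀ i, ∃ c : F, c ≠ 0 ∧ h (Pi.single i 1) = c • Pi.single i 1

theorem ds_inv {h : Equiv.Perm (Fin m ⊕ Fin m → F)} {σ : F ≃+* F} {l : F} (hs : IsSemi h σ l) (hd : DS h) :
    DS h⁻¹ := by
  intro i
  obtain ⟨c, hc, e⟩ := hd i
  refine ⟨σ.symm c⁻¹, by simpa using hc, ?_⟩
  apply h.injective
  rw [perm_apply_inv_self, hs.2.1, e, RingEquiv.apply_symm_apply, smul_smul, inv_mul_cancel₀ hc, one_smul]

/-- conjugation by a diagonal semilinear map -/
theorem conj_single {g : semiSim m F} (hd : DS g.1) {A : Matrix.symplecticGroup (Fin m) F} {i j : Fin m ⊕ Fin m}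
    {c : F} (h : (A : Matrix (Fin m ⊕ Fin m) (Fin m ⊕ Fin m) F) *ᵥ Pi.single i 1 = c • Pi.single j 1) :
    ∃ c' : F, (c ≠ 0 → c' ≠ 0) ∧ ((conjHom m F g A : Matrix.symplecticGroup (Fin m) F) :
      Matrix (Fin m ⊕ Fin m) (Fin m ⊕ Fin m) F) *ᵥ Pi.single i 1 = c' • Pi.single j 1 := by
  obtain ⟨σ, l, hl, hs⟩ := g.2
  obtain ⟨a, ha, e1⟩ := ds_inv hs hd i
  obtain ⟨b, hb, e2⟩ := hd j
  refine ⟨σ (a * c) * b, fun hc => mul_ne_zero (by simp [ha, hc]) hb, ?_⟩
  rw [← rho_apply, rho_conjHom, Equiv.Perm.mul_apply, Equiv.Perm.mul_apply, e1, rho_apply, Matrix.mulVec_smul, h,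
    smul_smul, hs.2.1, e2, smul_smul]

theorem torus_conj {g : semiSim m F} (hd : DS g.1) {A : Matrix.symplecticGroup (Fin m) F} (hA : A ∈ torus m F) :
    conjHom m F g A ∈ torus m F := by
  rw [mem_torus_iff] at hA ⊢
  intro i
  obtain ⟨c, hc⟩ := hA i
  obtain ⟨c', -, e⟩ := conj_single hd hc
  exact ⟨c', e⟩

theorem ds_inv' {g : semiSim m F} (hd : DS g.1) : DS (g⁻¹ : semiSim m F).1 := by
  obtain ⟨σ, l, hl, hs⟩ := g.2
  exact ds_inv hs hd

theorem torus_conj_iff {g : semiSim m F} (hd : DS g.1) {A : Matrix.symplecticGroup (Fin m) F} :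
    conjHom m F g A ∈ torus m F ↔ A ∈ torus m F := by
  refine ⟨fun h => ?_, torus_conj hd⟩
  have h1 := torus_conj (ds_inv' hd) h
  have h2 : conjHom m F g⁻¹ (conjHom m F g A) = A := by
    rw [← MulAut.mul_apply, ← map_mul, inv_mul_cancel, map_one]
    rfl
  rwa [h2] at h1

theorem NM_conj {g : semiSim m F} (hd : DS g.1) {A : Matrix.symplecticGroup (Fin m) F} (hA : A ∈ NM m F) :
    conjHom m F g A ∈ NM m F := by
  unfold NM at hA ⊢
  rw [Subgroup.mem_normalizer_iff] at hA ⊢
  intro t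
  obtain ⟨t, rfl⟩ := (conjHom m F g).surjective t
  rw [← map_inv, ← map_mul, ← map_mul]
  have h1 := hA t
  constructor
  · intro h
    exact (torus_conj_iff hd).2 (h1.1 ((torus_conj_iff hd).1 h))
  · intro h
    exact (torus_conj_iff hd).2 (h1.2 ((torus_conj_iff hd).1 h))

section hom

variable [Finite F] (hF : 3 < Nat.card F)

theorem f0_conj {g : semiSim m F} (hd : DS g.1) (A : NM m F) :
    f0 hF ⟨conjHom m F g A.1, NM_conj hd A.2⟩ = f0 hF A := by
  set B : NM m F := ⟨conjHom m F g A.1, NM_conj hd A.2⟩ with hB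
  have h1 : ∀ i, pm (dat hF B).1 (dat hF B).2.1 i = pm (dat hF A).1 (dat hF A).2.1 i := by
    intro i
    have h2 := monS_mulVec (dat hF A) i
    rw [monS_dat] at h2
    obtain ⟨c', hc', e⟩ := conj_single hd h2
    have h3 := monS_mulVec (dat hF B) i
    rw [monS_dat] at h3
    have h4 := h3.symm.trans e
    exact (smul_single_eq (d := Units.mk0 c' (hc' (Units.ne_zero _))) h4).1
  have h2 : ∀ i, (dat hF B).1 i = (dat hF A).1 i ∧ (dat hF B).2.1 i = (dat hF A).2.1 i := by
    intro i
    have h3 := h1 (Sum.inl i)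
    rcases ha : (dat hF A).2.1 i with _ | _ <;> rcases hb : (dat hF B).2.1 i with _ | _ <;>
      simp only [pm, Sum.elim_inl, ha, hb, Bool.false_eq_true, if_false, if_true, Sum.inl.injEq, Sum.inr.injEq,
        reduceCtorEq] at h3
    · exact ⟨h3, rfl⟩
    · exact ⟨h3, rfl⟩
  rw [f0_apply hF (monS_dat hF B), f0_apply hF (monS_dat hF A), show (dat hF B).1 = (dat hF A).1 from
    Equiv.ext fun i => (h2 i).1, show (dat hF B).2.1 = (dat hF A).2.1 from funext fun i => (h2 i).2]

theorem map_PN {g : semiSim m F} (hd : DS g.1) : ∀ x ∈ PN m F, Psi m F g x ∈ PN m F := by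
  rintro _ ⟨A, hA, rfl⟩
  exact ⟨conjHom m F g A, NM_conj hd hA, rfl⟩

theorem fhom_map {g : semiSim m F} (hd : DS g.1) (x : PN m F) :
    fhom hF ⟨Psi m F g x.1, map_PN hd x.1 x.2⟩ = fhom hF x := by
  obtain ⟨A, rfl⟩ := pr_surjective x
  rw [fhom_pr, ← f0_conj hF hd A, ← fhom_pr]
  rfl

end hom

/-! ### Representatives -/

/-- the diagonal semilinear map -/
def hp (l : Fˣ) (σ : F ≃+* F) : Equiv.Perm (Fin m ⊕ Fin m → F) where
  toFun v := Sum.elim (fun i => (l : F) * σ (v (Sum.inl i))) (fun i => σ (v (Sum.inr i)))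
  invFun v := Sum.elim (fun i => σ.symm ((l⁻¹ : Fˣ) * v (Sum.inl i))) (fun i => σ.symm (v (Sum.inr i)))
  left_inv v := by
    funext j
    rcases j with j | j
    · simp
    · simp
  right_inv v := by
    funext j
    rcases j with j | j
    · simp only [_root_.Units.val_inv_eq_inv_val, _root_.map_mul, _root_.map_inv₀, _root_.Sum.elim_inl, _root_.RingEquiv.apply_symm_apply, _root_.ne_eq, _root_.Units.ne_zero, _root_.not_false_eq_true, _root_.mul_inv_cancel_left₀, _root_.Sum.elim_inr]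
    · simp only [_root_.Units.val_inv_eq_inv_val, _root_.map_mul, _root_.map_inv₀, _root_.Sum.elim_inl, _root_.RingEquiv.apply_symm_apply, _root_.ne_eq, _root_.Units.ne_zero, _root_.not_false_eq_true, _root_.mul_inv_cancel_left₀, _root_.Sum.elim_inr]

theorem hp_ss (l : Fˣ) (σ : F ≃+* F) : IsSemi (hp (m := m) l σ) σ l := by
  refine ⟨fun u v => ?_, fun a v => ?_, fun u v => ?_⟩
  · funext j
    rcases j with j | j
    · change (l : F) * σ (u (Sum.inl j) + v (Sum.inl j)) = l * σ (u (Sum.inl j)) + l * σ (v (Sum.inl j))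
      rw [map_add, mul_add]
    · exact map_add σ _ _
  · funext j
    rcases j with j | j
    · change (l : F) * σ (a * v (Sum.inl j)) = σ a * (l * σ (v (Sum.inl j)))
      rw [map_mul]; ring
    · exact map_mul σ _ _
  · rw [sympForm_eq_sum, sympForm_eq_sum, map_sum, Finset.mul_sum]
    refine Finset.sum_congr rfl fun i _ => ?_
    change σ (u (Sum.inr i)) * ((l : F) * σ (v (Sum.inl i))) - (l : F) * σ (u (Sum.inl i)) * σ (v (Sum.inr i)) = _
    rw [map_sub, map_mul, map_mul]
    ring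

theorem hp_ds (l : Fˣ) (σ : F ≃+* F) : DS (hp (m := m) l σ) := by
  intro i
  rcases i with i | i
  · refine ⟨l, l.ne_zero, ?_⟩
    funext j
    rcases j with j | j
    · change (l : F) * σ (Pi.single (M := fun _ => F) (Sum.inl i) 1 (Sum.inl j)) = l * Pi.single (M := fun _ => F) (Sum.inl i) 1 (Sum.inl j)
      by_cases h : j = i
      · subst h; simp
      · have h' : (Sum.inl j : Fin m ⊕ Fin m) ≠ Sum.inl i := fun e => h (Sum.inl.inj e)
        rw [Pi.single_eq_of_ne h', map_zero]
    · change σ (Pi.single (M := fun _ => F) (Sum.inl i) 1 (Sum.inr j)) = l * Pi.single (M := fun _ => F) (Sum.inl i) 1 (Sum.inr j)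
      rw [Pi.single_eq_of_ne Sum.inr_ne_inl, map_zero, mul_zero]
  · refine ⟨1, one_ne_zero, ?_⟩
    rw [one_smul]
    funext j
    rcases j with j | j
    · change (l : F) * σ (Pi.single (M := fun _ => F) (Sum.inr i) 1 (Sum.inl j)) = Pi.single (M := fun _ => F) (Sum.inr i) 1 (Sum.inl j)
      rw [Pi.single_eq_of_ne Sum.inl_ne_inr, map_zero, mul_zero]
    · change σ (Pi.single (M := fun _ => F) (Sum.inr i) 1 (Sum.inr j)) = Pi.single (M := fun _ => F) (Sum.inr i) 1 (Sum.inr j)
      by_cases h : j = i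
      · subst h; simp
      · have h' : (Sum.inr j : Fin m ⊕ Fin m) ≠ Sum.inr i := fun e => h (Sum.inr.inj e)
        rw [Pi.single_eq_of_ne h', map_zero]

/-- **Every automorphism is inner times diagonal-field.** -/
theorem exists_rep [Finite F] (hm : 2 ≤ m) (h : 3 ≤ m ∨ (2 : F) ≠ 0) (τ : MulAut (PSp m F)) :
    ∃ (s : PSp m F) (l : Fˣ) (σ : F ≃+* F),
      τ = MulAut.conj s * Psi m F ⟨hp l σ, σ, l, l.ne_zero, hp_ss l σ⟩ := by
  obtain ⟨⟨g, σ, l, hl, hs⟩, rfl⟩ := ClassicalGeometry.SympAutExists.exists_semi hm τ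
    (ClassicalGeometry.SympAutOddA.recog hm h τ)
  set! k : semiSim m F := ⟨hp (Units.mk0 l hl) σ, σ, Units.mk0 l hl, (Units.mk0 l hl).ne_zero, hp_ss _ σ⟩ with hk
  have h1 := hs.mul ((hp_ss (m := m) (Units.mk0 l hl) σ).inv (Units.ne_zero _))
  obtain ⟨A, hA⟩ := exists_rho_eq (g * (hp (Units.mk0 l hl) σ)⁻¹) h1.1 (fun a v => by
      rw [h1.2.1]
      congr 1
      change σ (σ.symm a) = a
      exact σ.apply_symm_apply a) (fun u v => by
      rw [h1.2.2, RingEquiv.apply_symm_apply]
      change l * ((Units.mk0 l hl : Fˣ) : F)⁻¹ * σ (σ.symm (sympForm m F u v)) = _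
      rw [RingEquiv.apply_symm_apply, Units.val_mk0, mul_inv_cancel₀ hl, one_mul])
  have hr : rho m F A ∈ semiSim m F := ⟨RingEquiv.refl F, 1, one_ne_zero, isSemi_rho A⟩
  refine ⟨QuotientGroup.mk A, Units.mk0 l hl, σ, ?_⟩
  rw [← H966.PSpAut.Psi_rho A hr, ← map_mul]
  congr 1
  apply Subtype.ext
  change g = rho m F A * hp (Units.mk0 l hl) σ
  rw [hA, inv_mul_cancel_right]

end Cfsg.Agent.H581.K547.SpDiag
end

-- part: H581/K547/SpExt
section
/-!
# S4547: outer 2-automorphisms of `PSp_{2m}(q)`, `q` odd (helper581, task 5038)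
-/

set_option autoImplicit false
set_option linter.unusedSectionVars false

namespace Cfsg.Agent.H581.K547.SpExt

open Cfsg Cfsg.Agent.S0777 Cfsg.Agent.ClassicalGeometry.SympBasic Cfsg.Agent.ClassicalGeometry.SympAutSemi
open Cfsg.Agent.ClassicalGeometry.SympGamma Cfsg.Agent.H821.K547
open Cfsg.Agent.H581.K547.SpMon Cfsg.Agent.H581.K547.SpDiag
open scoped Matrix

universe u

section gen

variable {S : Type u} [Group S]

theorem mul_conj_pow (s : S) (φ : MulAut S) (n : ℕ) : ∃ t : S, (MulAut.conj s * φ) ^ n = MulAut.conj t * φ ^ n := by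
  induction n with
  | zero => exact ⟨1, by simp⟩
  | succ n ih =>
    obtain ⟨t, ht⟩ := ih
    refine ⟨t * (φ ^ n) s, ?_⟩
    ext x
    rw [pow_succ, ht, pow_succ]
    simp only [MulAut.mul_apply, MulAut.conj_apply, map_mul, map_inv, mul_inv_rev, mul_assoc]

end gen

variable {F : Type u} [Field F] {m : ℕ}

theorem isSemi_pow {g : semiSim m F} {σ : F ≃+* F} {c : F} (hc : c ≠ 0) (hs : IsSemi g.1 σ c) (n : ℕ) :
    ∃ d : F, d ≠ 0 ∧ IsSemi (g ^ n).1 (σ ^ n) d := by
  induction n with
  | zero => exact ⟨1, one_ne_zero, fun _ _ => rfl, fun _ _ => rfl, fun _ _ => by rw [one_mul]; rfl⟩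
  | succ n ih =>
    obtain ⟨d, hd, h⟩ := ih
    have h1 := h.mul hs
    refine ⟨d * (σ ^ n) c, mul_ne_zero hd ((map_ne_zero_iff (σ ^ n) (σ ^ n).injective).2 hc), ?_⟩
    rw [pow_succ, pow_succ]
    exact h1

/-- a semilinear map which induces an inner automorphism is linear -/
theorem fld_of_inn (hm : 1 ≤ m) {g : semiSim m F} {σ : F ≃+* F} {c : F} (hs : IsSemi g.1 σ c) {t : PSp m F}
    (h : Psi m F g = MulAut.conj t) : σ = 1 := by
  obtain ⟨A, rfl⟩ := QuotientGroup.mk_surjective t
  have hr : rho m F A ∈ semiSim m F := ⟨RingEquiv.refl F, 1, one_ne_zero, isSemi_rho A⟩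
  rw [← H966.PSpAut.Psi_rho A hr] at h
  have h1 : Psi m F (g * (⟨rho m F A, hr⟩ : semiSim m F)⁻¹) = 1 := by
    rw [map_mul, map_inv, h, mul_inv_cancel]
  obtain ⟨a, ha⟩ := exists_scal_of_Psi_eq_one hm _ h1
  have h2 : g.1 = scal m F a * rho m F A := by
    have h3 : g.1 * (rho m F A)⁻¹ = scal m F a := ha
    rw [← h3, inv_mul_cancel_right]
  have i : Fin m := ⟨0, by omega⟩
  ext x
  have h3 := hs.2.1 x (Pi.single (Sum.inl i) 1)
  have h4 : g.1 (x • Pi.single (Sum.inl i) 1) = x • g.1 (Pi.single (Sum.inl i) 1) := by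
    rw [h2, Equiv.Perm.mul_apply, Equiv.Perm.mul_apply, rho_apply, Matrix.mulVec_smul, scal_apply, scal_apply,
      rho_apply, smul_comm]
  rw [h4] at h3
  have h5 : (x - σ x) • g.1 (Pi.single (Sum.inl i) 1) = 0 := by rw [sub_smul, h3, sub_self]
  rcases smul_eq_zero.1 h5 with h6 | h6
  · exact (sub_eq_zero.1 h6).symm
  · exfalso
    have h0 : g.1 0 = 0 := by
      have := hs.2.1 (0 : F) (0 : Fin m ⊕ Fin m → F)
      rwa [zero_smul, RingEquiv.map_zero σ, zero_smul] at this
    rw [← h0] at h6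
    have h7 := congrFun (g.1.injective h6) (Sum.inl i)
    rw [Pi.single_eq_same] at h7
    exact one_ne_zero h7

theorem pow_eq_one_of_twoPow (hm : 1 ≤ m) {s : PSp m F} {l : Fˣ} {σ : F ≃+* F}
    (h : TwoPow (MulAut.conj s * Psi m F ⟨hp l σ, σ, l, l.ne_zero, hp_ss l σ⟩)) : ∃ k : ℕ, σ ^ 2 ^ k = 1 := by
  obtain ⟨k, t, ht⟩ := h
  refine ⟨k, ?_⟩
  obtain ⟨r, hr⟩ := mul_conj_pow s (Psi m F ⟨hp l σ, σ, l, l.ne_zero, hp_ss l σ⟩) (2 ^ k)
  rw [← map_pow] at hr
  obtain ⟨d, -, hd⟩ := isSemi_pow (g := ⟨hp l σ, σ, l, l.ne_zero, hp_ss l σ⟩) l.ne_zero (hp_ss (m := m) l σ) (2 ^ k)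
  refine (fld_of_inn hm hd (t := r⁻¹ * t) ?_ :)
  have h1 : MulAut.conj r * Psi m F (⟨hp l σ, σ, l, l.ne_zero, hp_ss l σ⟩ ^ 2 ^ k) = MulAut.conj t := by
    rw [← hr]
    ext x
    exact ht x
  rw [map_mul, ← h1, map_inv, inv_mul_cancel_left]

theorem sq_inn (s : PSp m F) (l : Fˣ) :
    ∃ t : PSp m F, ∀ x, ((MulAut.conj s * Psi m F ⟨hp l 1, 1, l, l.ne_zero, hp_ss l 1⟩) ^ 2) x = t * x * t⁻¹ := by
  obtain ⟨r, hr⟩ := mul_conj_pow s (Psi m F ⟨hp l 1, 1, l, l.ne_zero, hp_ss l 1⟩) 2
  have h2 : IsSemi (hp (m := m) l 1 * hp l 1) (1 : F ≃+* F) ((l : F) * l) := (hp_ss (m := m) l 1).mul (hp_ss l 1)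
  have h3 := (isSemi_scal (m := m) l⁻¹).mul h2
  obtain ⟨A, hA⟩ := exists_rho_eq (scal m F l⁻¹ * (hp (m := m) l 1 * hp l 1)) h3.1 h3.2.1 (by
    intro u v
    rw [h3.2.2]
    have : ((((l⁻¹ : Fˣ) : F) * ((l⁻¹ : Fˣ) : F)) * (RingEquiv.refl F) ((l : F) * l)) = 1 := by
      change (((l⁻¹ : Fˣ) : F) * ((l⁻¹ : Fˣ) : F)) * ((l : F) * l) = 1
      rw [Units.val_inv_eq_inv_val]
      have := l.ne_zero
      field_simp
    rw [this, one_mul]
    rfl)
  have hs : scal m F l ∈ semiSim m F :=
    ⟨RingEquiv.refl F, _, mul_ne_zero (Units.ne_zero _) (Units.ne_zero _), isSemi_scal _⟩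
  have hrA : rho m F A ∈ semiSim m F := ⟨RingEquiv.refl F, 1, one_ne_zero, isSemi_rho A⟩
  have h4 : (⟨hp l 1, 1, l, l.ne_zero, hp_ss l 1⟩ : semiSim m F) ^ 2 = ⟨scal m F l, hs⟩ * ⟨rho m F A, hrA⟩ := by
    apply Subtype.ext
    change (hp l 1) ^ 2 = scal m F l * rho m F A
    rw [hA, ← mul_assoc, pow_two]
    ext1 v
    rw [Equiv.Perm.mul_apply, Equiv.Perm.mul_apply, Equiv.Perm.mul_apply, scal_apply, scal_apply, smul_smul,
      ← Units.val_mul, mul_inv_cancel, Units.val_one, one_smul]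
    rfl
  refine ⟨r * QuotientGroup.mk A, fun x => ?_⟩
  rw [hr, ← map_pow, h4, map_mul, Psi_scal, one_mul, H966.PSpAut.Psi_rho, ← map_mul]
  rfl

theorem odd_of_not_four {p f q : ℕ} (hq : q = p ^ f) (hodd : Odd q) (h4 : ¬ 4 ∣ q - 1) : Odd f := by
  by_contra hcon
  rw [Nat.not_odd_iff_even] at hcon
  obtain ⟨k, rfl⟩ := hcon
  apply h4
  have h1 : q = p ^ k * p ^ k := by rw [hq, pow_add]
  have h2 : Odd (p ^ k) := by
    rw [h1] at hodd
    exact (Nat.odd_mul.1 hodd).1
  obtain ⟨j, hj⟩ := h2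
  rw [h1, hj]
  exact ⟨j * j + j, by ring_nf; (clear * -; omega)⟩

theorem fld_eq_one [Fintype F] {k : ℕ} {σ : F ≃+* F} (hσ : σ ^ 2 ^ k = 1) (hodd : Odd (Fintype.card F))
    (h4 : ¬ 4 ∣ Fintype.card F - 1) : σ = 1 := by
  obtain ⟨p, _⟩ := CharP.exists F
  obtain ⟨f, hp, hf⟩ := FiniteField.card F p
  have : Fact p.Prime := ⟨hp⟩
  have hf' : Nat.card (F ≃+* F) = f := Lib.FieldAutCard.card_ringAut f.pos hf
  have h1 : orderOf σ ∣ f := by rw [← hf']; exact orderOf_dvd_natCard σ
  have h2 : orderOf σ ∣ 2 ^ k := orderOf_dvd_of_pow_eq_one hσ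
  have h3 : Nat.Coprime (f : ℕ) (2 ^ k) := (Nat.coprime_two_right.2 (odd_of_not_four hf hodd h4)).pow_right k
  have h5 : orderOf σ ∣ Nat.gcd f (2 ^ k) := Nat.dvd_gcd h1 h2
  rw [h3] at h5
  exact orderOf_eq_one_iff.1 (Nat.dvd_one.1 h5)

end Cfsg.Agent.H581.K547.SpExt
end

-- part: H581/K547/SpFour
section
/-!
# S4547: outer 2-automorphisms of `PSp_{2m}(q)`, `q ≡ 1 mod 4` (helper581, task 5038)
-/

set_option autoImplicit false
set_option linter.unusedSectionVars false

namespace Cfsg.Agent.H581.K547.SpFour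

open Cfsg Cfsg.Agent.S0777 Cfsg.Agent.ClassicalGeometry.SympBasic Cfsg.Agent.ClassicalGeometry.SympAutSemi
open Cfsg.Agent.ClassicalGeometry.SympGamma Cfsg.Agent.H821.K547
open Cfsg.Agent.H581.K547.SpMon Cfsg.Agent.H581.K547.SpDiag Cfsg.Agent.H581.K547.SpExt
open scoped Matrix

universe u

variable {F : Type u} [Field F] {m : ℕ}

theorem ds_mul {g h : Equiv.Perm (Fin m ⊕ Fin m → F)} {σ : F ≃+* F} {l : F} (hs : IsSemi g σ l) (hg : DS g)
    (hh : DS h) : DS (g * h) := by
  intro i
  obtain ⟨c, hc, e⟩ := hh i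
  obtain ⟨d, hd, e'⟩ := hg i
  refine ⟨σ c * d, mul_ne_zero (by simpa using hc) hd, ?_⟩
  rw [Equiv.Perm.mul_apply, e, hs.2.1, e', smul_smul]

theorem ds_pow {g : semiSim m F} (hd : DS g.1) (n : ℕ) : DS (g ^ n).1 := by
  induction n with
  | zero => exact fun i => ⟨1, one_ne_zero, by rw [one_smul]; rfl⟩
  | succ n ih =>
    obtain ⟨σ, l, hl, hs⟩ := (g ^ n).2
    rw [pow_succ]
    exact ds_mul hs ih hd

/-- an inner diagonal semilinear map is given by an element of the torus -/
theorem torus_of_inn (hm : 1 ≤ m) {g : semiSim m F} (hd : DS g.1) {t : PSp m F} (h : Psi m F g = MulAut.conj t) :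
    ∃ A ∈ torus m F, QuotientGroup.mk A = t := by
  obtain ⟨A, rfl⟩ := QuotientGroup.mk_surjective t
  refine ⟨A, ?_, rfl⟩
  have hr : rho m F A ∈ semiSim m F := ⟨RingEquiv.refl F, 1, one_ne_zero, isSemi_rho A⟩
  rw [← H966.PSpAut.Psi_rho A hr] at h
  have h1 : Psi m F (g * (⟨rho m F A, hr⟩ : semiSim m F)⁻¹) = 1 := by
    rw [map_mul, map_inv, h, mul_inv_cancel]
  obtain ⟨a, ha⟩ := exists_scal_of_Psi_eq_one hm _ h1
  have h2 : rho m F A = scal m F a⁻¹ * g.1 := by
    have h3 : g.1 * (rho m F A)⁻¹ = scal m F a := ha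
    have h4 : g.1 = scal m F a * rho m F A := by rw [← h3, inv_mul_cancel_right]
    rw [h4, ← mul_assoc]
    ext1 v
    rw [Equiv.Perm.mul_apply, Equiv.Perm.mul_apply, scal_apply, scal_apply, smul_smul, ← Units.val_mul,
      inv_mul_cancel, Units.val_one, one_smul]
  rw [mem_torus_iff]
  intro i
  obtain ⟨c, hc, e⟩ := hd i
  refine ⟨((a⁻¹ : Fˣ) : F) * c, ?_⟩
  rw [← rho_apply, h2, Equiv.Perm.mul_apply, scal_apply, e, smul_smul]

section hom

variable [Finite F] (hF : 3 < Nat.card F)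

theorem fhom_torus {A : Matrix.symplecticGroup (Fin m) F} (hA : A ∈ torus m F) :
    ∃ h : (QuotientGroup.mk A : PSp m F) ∈ PN m F, fhom hF ⟨QuotientGroup.mk A, h⟩ = 1 := by
  have hN : A ∈ NM m F := Subgroup.le_normalizer hA
  refine ⟨⟨A, hN, rfl⟩, ?_⟩
  have h0 : fhom hF (pr ⟨A, hN⟩) = 1 := by
    rw [fhom_pr]
    set B : NM m F := ⟨A, hN⟩ with hB
    have h1 : ∀ i, pm (dat hF B).1 (dat hF B).2.1 i = i := by
      intro i
      have h2 := monS_mulVec (dat hF B) i
      obtain ⟨c, hc⟩ := ((mem_torus_iff A).1 hA) i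
      rw [monS_dat, hc] at h2
      by_contra hne
      have h3 := congrFun h2 (pm (dat hF B).1 (dat hF B).2.1 i)
      simp [hne] at h3
      exact (Units.ne_zero _) h3.symm
    have h2 : ∀ i, (dat hF B).1 i = i ∧ (dat hF B).2.1 i = false := by
      intro i
      have h3 := h1 (Sum.inl i)
      rcases ha : (dat hF B).2.1 i with _ | _
      · simp only [pm, Sum.elim_inl, ha, Bool.false_eq_true, if_false, Sum.inl.injEq] at h3
        exact ⟨h3, rfl⟩
      · simp [pm, ha] at h3
    have h3 : (dat hF B).1 = 1 := Equiv.ext fun i => (h2 i).1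
    have h4 : sb (dat hF B).2.1 = 1 := Finset.prod_eq_one fun i _ => by rw [(h2 i).2]; rfl
    rw [f0_apply hF (monS_dat hF B), h3, h4, Equiv.Perm.sign_one]
    rfl
  exact h0

end hom

theorem ext_of_four [Fintype F] (hm : 2 ≤ m) (h4 : 4 ∣ Fintype.card F - 1) (s : PSp m F) (l : Fˣ) (σ : F ≃+* F)
    (hT : TwoPow (MulAut.conj s * Psi m F ⟨hp l σ, σ, l, l.ne_zero, hp_ss l σ⟩))
    (hI : ¬ IsInn (MulAut.conj s * Psi m F ⟨hp l σ, σ, l, l.ne_zero, hp_ss l σ⟩)) :
    D3 (AutExt (MulAut.conj s * Psi m F ⟨hp l σ, σ, l, l.ne_zero, hp_ss l σ⟩)) := by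
  have hF : 3 < Nat.card F := by
    have := Fintype.one_lt_card (α := F)
    rw [Nat.card_eq_fintype_card]
    omega
  rw [Direct.autExt_conj_mul]
  set g : semiSim m F := ⟨hp l σ, σ, l, l.ne_zero, hp_ss l σ⟩ with hg
  have hd : DS g.1 := hp_ds l σ
  have hI' : ¬ IsInn (Psi m F g) := by
    rintro ⟨t, ht⟩
    exact hI ⟨s * t, fun x => by
      rw [MulAut.mul_apply, ht, MulAut.conj_apply]; group⟩
  have hT' : TwoPow (Psi m F g) := by
    obtain ⟨k, t, ht⟩ := hT
    obtain ⟨r, hr⟩ := mul_conj_pow s (Psi m F g) (2 ^ k)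
    have h1 : MulAut.conj r * Psi m F g ^ 2 ^ k = MulAut.conj t := by
      rw [← hr]
      ext x
      exact ht x
    refine ⟨k, r⁻¹ * t, fun x => ?_⟩
    have h2 : Psi m F g ^ 2 ^ k = MulAut.conj (r⁻¹ * t) := by
      rw [map_mul, ← h1, map_inv, inv_mul_cancel_left]
    rw [h2]
    rfl
  refine Direct.d3_autExt (A := ℤˣ × ℤˣ) (M := PN m F) (f := fhom hF) ?_ ?_ (not_two_dvd_index h4)
    (fhom_surjective hF hm) (map_PN hd) (fun x hx => fhom_map hF hd ⟨x, hx⟩) ?_ hT' hI'
  · rintro ⟨a, b⟩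
    rw [Prod.pow_mk, Int.units_sq, Int.units_sq]
    rfl
  · have h2 : Nat.card ℤˣ = 2 := by simp
    rw [Nat.card_prod, h2]
  · intro n t ht
    obtain ⟨k, hk⟩ : Psi m F g ^ n ∈ Submonoid.powers (Psi m F g) := by
      rw [mem_powers_iff_mem_zpowers]
      exact ⟨n, rfl⟩
    have hk' : Psi m F g ^ k = Psi m F g ^ n := hk
    rw [← hk', ← map_pow] at ht
    obtain ⟨A, hA, rfl⟩ := torus_of_inn (by omega) (ds_pow hd k) ht
    exact fhom_torus hF hA

end Cfsg.Agent.H581.K547.SpFour
end

-- part: H581/K547/Jordan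
section
/-!
# S4547: `D3 S` and `τ²` inner give `D3 (AutExt τ)` (helper581)

* `sq_eq_one` : the transfer lemma;
* `d3_of_index_two` : `I` perfect of index two and `D3 I` give `D3 G`;
* `jordan` : the version for `AutExt τ`.
-/

set_option autoImplicit false

namespace Cfsg.Agent.H581.K547.Jordan

open Cfsg Cfsg.Agent.H821.K547 Subgroup.leftTransversals

universe u v w

section transfer

variable {G : Type u} [Group G] {P : Subgroup G} [P.FiniteIndex] {A : Type v} [CommGroup A]

theorem transfer_comp {B : Type w} [CommGroup B] (μ : P →* A) (k : A →* B) (g : G) :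
    MonoidHom.transfer (k.comp μ) g = k (MonoidHom.transfer μ g) := by
  rw [MonoidHom.transfer_def _ default, MonoidHom.transfer_def _ default]
  unfold diff
  rw [map_prod]
  rfl

theorem transfer_restrict (γ : G →* A) (g : G) : MonoidHom.transfer (γ.comp P.subtype) g = γ g ^ P.index := by
  rw [MonoidHom.transfer_def _ (default : P.LeftTransversal)]
  unfold diff
  set T : P.LeftTransversal := default
  let _ := P.fintypeQuotientOfFiniteIndex
  have h1 : ∀ q : G ⧸ P, (γ.comp P.subtype) ⟨(T.2.leftQuotientEquiv q : G)⁻¹ * (g • T).2.leftQuotientEquiv q,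
      QuotientGroup.leftRel_apply.mp <| Quotient.exact' ((T.2.leftQuotientEquiv.symm_apply_apply q).trans
        ((g • T).2.leftQuotientEquiv.symm_apply_apply q).symm)⟩ =
      γ g * ((γ (T.2.leftQuotientEquiv q : G))⁻¹ * γ (T.2.leftQuotientEquiv (g⁻¹ • q) : G)) := by
    intro q
    change γ ((T.2.leftQuotientEquiv q : G)⁻¹ * (g • T).2.leftQuotientEquiv q) = _
    rw [Subgroup.smul_apply_eq_smul_apply_inv_smul, smul_eq_mul, map_mul, map_mul, map_inv]
    exact mul_left_comm _ _ _
  rw [Finset.prod_congr rfl fun q _ => h1 q, Finset.prod_mul_distrib, Finset.prod_mul_distrib, Finset.prod_const,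
    Finset.prod_inv_distrib]
  have h2 : ∏ q : G ⧸ P, γ (T.2.leftQuotientEquiv (g⁻¹ • q) : G) = ∏ q : G ⧸ P, γ (T.2.leftQuotientEquiv q : G) :=
    Equiv.prod_comp (MulAction.toPerm g⁻¹) (fun q => γ (T.2.leftQuotientEquiv q : G))
  rw [h2, inv_mul_cancel, mul_one, Finset.card_univ, Subgroup.index_eq_card, Nat.card_eq_fintype_card]

/-- **The transfer lemma** -/
theorem sq_eq_one {I : Subgroup G} (hI2 : I.index = 2) (hperf : commutator I = ⊤) (hodd : Odd P.index) (μ : P →* A)
    (h : ∀ x : P, x.1 ∈ I → μ x ^ 2 = 1) (x : P) : μ x ^ 2 = 1 := by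
  classical
  have hmem : ∀ a b : G, a * b ∈ I ↔ (a ∈ I ↔ b ∈ I) := fun a b => Subgroup.mul_mem_iff_of_index_two hI2
  by_cases hx : x.1 ∈ I
  · exact h x hx
  have hx2 : x.1 ^ 2 ∈ I := by rw [pow_two, hmem]
  have hc : (μ x ^ 2) * (μ x ^ 2) = 1 := by
    rw [← pow_two, ← map_pow]
    exact h (x ^ 2) hx2
  let γ : G →* A :=
    { toFun := fun g => if g ∈ I then 1 else μ x ^ 2
      map_one' := if_pos I.one_mem
      map_mul' := fun a b => by
        by_cases ha : a ∈ I <;> by_cases hb : b ∈ I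
        · rw [if_pos ha, if_pos hb, if_pos (I.mul_mem ha hb), one_mul]
        · rw [if_pos ha, if_neg hb, if_neg (fun h => hb (((hmem a b).1 h).1 ha)), one_mul]
        · rw [if_neg ha, if_pos hb, if_neg (fun h => ha (((hmem a b).1 h).2 hb)), mul_one]
        · rw [if_neg ha, if_neg hb, if_pos ((hmem a b).2 (iff_of_false ha hb)), hc] }
  have hγ : (powMonoidHom 2).comp μ = γ.comp P.subtype := by
    ext y
    change μ y ^ 2 = if y.1 ∈ I then 1 else μ x ^ 2
    by_cases hy : y.1 ∈ I
    · rw [if_pos hy, h y hy]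
    · rw [if_neg hy]
      have h1 : (y * x⁻¹).1 ∈ I := by
        change y.1 * x.1⁻¹ ∈ I
        rw [hmem]
        exact iff_of_false hy (fun h => hx (by simpa using I.inv_mem h))
      have h2 := h _ h1
      rw [map_mul, map_inv, mul_pow, inv_pow] at h2
      exact mul_inv_eq_one.1 h2
  have h3 : γ x.1 ^ P.index = MonoidHom.transfer μ x.1 ^ 2 := by
    rw [← transfer_restrict, ← hγ, transfer_comp]
    rfl
  have h4 : MonoidHom.transfer μ (x.1 ^ 2) = 1 := by
    have h5 : (⟨x.1 ^ 2, hx2⟩ : I) ∈ commutator I := by rw [hperf]; exact Subgroup.mem_top _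
    have h6 : commutator I ≤ ((MonoidHom.transfer μ).comp I.subtype).ker := Abelianization.commutator_subset_ker _
    have h9 := MonoidHom.mem_ker.1 (h6 h5)
    rw [MonoidHom.comp_apply, Subgroup.subtype_apply] at h9
    exact h9
  have h8 : MonoidHom.transfer μ x.1 ^ 2 = 1 := by rw [← h4, ← MonoidHom.map_pow (MonoidHom.transfer μ)]
  have h7 : γ x.1 = μ x ^ 2 := if_neg hx
  rw [h7, h8] at h3
  obtain ⟨k, hk⟩ := hodd
  rw [hk, pow_succ (μ x ^ 2), pow_mul (μ x ^ 2), pow_two (μ x ^ 2), hc, one_pow, one_mul] at h3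
  exact h3

end transfer

/-- `|I L : L| = |I : I ∩ L|` -/
theorem relIndex_sup {G : Type u} [Group G] [Finite G] (I L : Subgroup G) [I.Normal] :
    L.relIndex (I ⊔ L) = L.relIndex I := by
  have e1 : (I ⊓ L).relIndex (I ⊔ L) = (I ⊓ L).relIndex I * I.relIndex (I ⊔ L) :=
    (Subgroup.relIndex_mul_relIndex _ _ _ inf_le_left le_sup_left).symm
  have e2 : (I ⊓ L).relIndex (I ⊔ L) = (I ⊓ L).relIndex L * L.relIndex (I ⊔ L) :=
    (Subgroup.relIndex_mul_relIndex _ _ _ inf_le_right le_sup_right).symm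
  rw [Subgroup.relIndex_sup_left, Subgroup.inf_relIndex_left] at e1
  rw [Subgroup.inf_relIndex_right] at e2
  have h0 : I.relIndex L ≠ 0 := Subgroup.index_ne_zero_of_finite
  have e3 : I.relIndex L * L.relIndex (I ⊔ L) = I.relIndex L * L.relIndex I := by
    rw [← e2, e1, mul_comm]
  exact Nat.eq_of_mul_eq_mul_left (Nat.pos_of_ne_zero h0) e3

section extend

variable {P : Type u} [Group P] {Q : Subgroup P} (hQ : Q.index = 2)

include hQ

/-- extension of an invariant homomorphism to a subgroup of index two -/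
theorem exists_ext {A : Type v} [CommGroup A] (lam : Q →* A) (t : P) (ht : t ∉ Q) (ζ : A)
    (hζ : ζ ^ 2 = lam ⟨t ^ 2, by rw [pow_two, Subgroup.mul_mem_iff_of_index_two hQ]⟩)
    (hinv : ∀ (x : P) (hx : x ∈ Q) (hx' : t * x * t⁻¹ ∈ Q), lam ⟨t * x * t⁻¹, hx'⟩ = lam ⟨x, hx⟩) :
    ∃ μ : P →* A, (∀ (x : P) (hx : x ∈ Q), μ x = lam ⟨x, hx⟩) ∧ μ t = ζ := by
  classical
  have hmem : ∀ a b : P, a * b ∈ Q ↔ (a ∈ Q ↔ b ∈ Q) := fun a b => Subgroup.mul_mem_iff_of_index_two hQ
  have hmem' : ∀ a : P, a ∉ Q → a * t⁻¹ ∈ Q := fun a ha => by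
    rw [hmem]
    exact iff_of_false ha (fun h => ht (by simpa using Q.inv_mem h))
  have hn : ∀ x : P, x ∈ Q → t * x * t⁻¹ ∈ Q := fun x hx => by
    apply hmem'
    rw [hmem]
    exact fun h => ht (h.2 hx)
  refine ⟨MonoidHom.mk' (fun x => if h : x ∈ Q then lam ⟨x, h⟩ else ζ * lam ⟨x * t⁻¹, hmem' x h⟩) ?_, ?_, ?_⟩
  · intro a b
    by_cases ha : a ∈ Q <;> by_cases hb : b ∈ Q
    · have hab : a * b ∈ Q := Q.mul_mem ha hb
      simp only [dif_pos ha, dif_pos hb, dif_pos hab]
      rw [← map_mul]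
      rfl
    · have hab : a * b ∉ Q := fun h => hb (((hmem a b).1 h).1 ha)
      simp only [dif_pos ha, dif_neg hb, dif_neg hab]
      rw [mul_left_comm, ← map_mul]
      congr 2
      exact Subtype.ext (mul_assoc _ _ _)
    · have hab : a * b ∉ Q := fun h => ha (((hmem a b).1 h).2 hb)
      simp only [dif_neg ha, dif_pos hb, dif_neg hab]
      rw [mul_assoc ζ, ← hinv b hb (hn b hb), ← map_mul]
      congr 2
      exact Subtype.ext (by change a * b * t⁻¹ = a * t⁻¹ * (t * b * t⁻¹); group)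
    · have hab : a * b ∈ Q := (hmem a b).2 (iff_of_false ha hb)
      have ht2 : t ^ 2 ∈ Q := by rw [pow_two, hmem]
      simp only [dif_neg ha, dif_neg hb, dif_pos hab]
      have e : ζ * lam ⟨a * t⁻¹, hmem' a ha⟩ * (ζ * lam ⟨b * t⁻¹, hmem' b hb⟩) =
          lam ⟨a * t⁻¹, hmem' a ha⟩ * lam ⟨b * t⁻¹, hmem' b hb⟩ * ζ ^ 2 := by
        rw [mul_mul_mul_comm, pow_two, mul_comm]
      rw [e, hζ, ← hinv (b * t⁻¹) (hmem' b hb) (hn _ (hmem' b hb)), ← map_mul, ← map_mul]
      congr 1
      exact Subtype.ext (by change a * b = a * t⁻¹ * (t * (b * t⁻¹) * t⁻¹) * t ^ 2; group)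
  · intro x hx
    simp only [MonoidHom.mk'_apply, dif_pos hx]
  · simp only [MonoidHom.mk'_apply, dif_neg ht]
    have h1 : lam ⟨t * t⁻¹, hmem' t ht⟩ = 1 := by
      have : (⟨t * t⁻¹, hmem' t ht⟩ : Q) = 1 := Subtype.ext (mul_inv_cancel t)
      rw [this, map_one]
    rw [h1, mul_one]

end extend

/-- fixed points of an involution on an elementary abelian 2-group of order at least 8 -/
theorem card_fix {V : Type u} [CommGroup V] [Finite V] (h2 : ∀ v : V, v ^ 2 = 1) (θ : V →* V)
    (hθ : ∀ v, θ (θ v) = v) (h8 : 8 ≤ Nat.card V) : ∃ a b : V, θ a = a ∧ θ b = b ∧ a ≠ 1 ∧ b ≠ 1 ∧ a ≠ b := by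
  classical
  let δ : V →* V := MonoidHom.id V * θ
  have hδ : ∀ v, δ v = v * θ v := fun v => rfl
  have hfix : ∀ v, v ∈ δ.ker → θ v = v := fun v hv => by
    rw [MonoidHom.mem_ker, hδ] at hv
    have h1 := h2 v
    rw [pow_two] at h1
    exact mul_left_cancel (hv.trans h1.symm)
  have hle : δ.range ≤ δ.ker := by
    rintro _ ⟨v, rfl⟩
    rw [MonoidHom.mem_ker, hδ (δ v), hδ v, map_mul, hθ, mul_comm (θ v) v, ← pow_two]
    exact h2 _
  have h3 := δ.ker.card_mul_index
  rw [Subgroup.index_ker] at h3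
  have h4 : Nat.card δ.range ≤ Nat.card δ.ker := Nat.card_le_card_of_injective _ (Subgroup.inclusion_injective hle)
  have h5 : 2 < Nat.card δ.ker := by
    by_contra hcon
    have h6 : Nat.card δ.ker * Nat.card δ.range ≤ 2 * 2 := Nat.mul_le_mul (by omega) (by omega)
    omega
  have : Fintype δ.ker := Fintype.ofFinite _
  rw [Nat.card_eq_fintype_card, ← Finset.card_univ, Finset.two_lt_card] at h5
  obtain ⟨a, -, b, -, c, -, hab, hac, hbc⟩ := h5
  refine ⟨((a⁻¹ * b : δ.ker) : V), ((a⁻¹ * c : δ.ker) : V), hfix _ (a⁻¹ * b).2, hfix _ (a⁻¹ * c).2, ?_, ?_, ?_⟩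
  · intro h
    exact hab (inv_mul_eq_one.1 (Subtype.ext h))
  · intro h
    exact hac (inv_mul_eq_one.1 (Subtype.ext h))
  · intro h
    exact hbc (mul_left_cancel (Subtype.ext h))

/-- the sign of an element of `ZMod 2` -/
def sgn (k : ZMod 2) : ℤˣ := if k = 0 then 1 else -1

theorem sgn_add (a b : ZMod 2) : sgn (a + b) = sgn a * sgn b := by
  revert a b
  decide

theorem sgn_inj {a b : ZMod 2} (h : sgn a = sgn b) : a = b := by
  revert a b
  decide

/-- many homomorphisms to `C_2` -/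
theorem card_hom {Q : Type u} [Group Q] [Finite Q] (h : Rk 3 Q) : 8 ≤ Nat.card (Q →* ℤˣ) := by
  obtain ⟨f, hf⟩ := h
  let χ : (Fin 3 → ZMod 2) → (Q →* ℤˣ) := fun a =>
    MonoidHom.mk' (fun x => sgn (∑ i, a i * Multiplicative.toAdd (f x) i)) fun x y => by
      rw [← sgn_add, ← Finset.sum_add_distrib, map_mul]
      congr 1
      exact Finset.sum_congr rfl fun i _ => mul_add _ _ _
  have hχ : Function.Injective χ := by
    intro a b hab
    funext i
    obtain ⟨x, hx⟩ := hf (Multiplicative.ofAdd (Pi.single i 1))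
    have h1 : sgn (∑ j, a j * Multiplicative.toAdd (f x) j) = sgn (∑ j, b j * Multiplicative.toAdd (f x) j) :=
      DFunLike.congr_fun hab x
    rw [hx] at h1
    have h2 := sgn_inj h1
    simpa [Pi.single_apply] using h2
  have h2 := Nat.card_le_card_of_injective χ hχ
  have h3 : Nat.card (Fin 3 → ZMod 2) = 8 := by
    rw [Nat.card_fun, Nat.card_zmod, Nat.card_fin]
    norm_num
  rwa [h3] at h2

theorem index_ker {P : Type u} [Group P] (μ : P →* ℤˣ) (h : ∃ x, μ x ≠ 1) : μ.ker.index = 2 := by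
  rw [Subgroup.index_ker]
  have h1 : μ.range = ⊤ := by
    rw [eq_top_iff]
    intro y _
    rcases Int.units_eq_one_or y with rfl | rfl
    · exact one_mem _
    · obtain ⟨x, hx⟩ := h
      exact ⟨x, (Int.units_eq_one_or (μ x)).resolve_left hx⟩
  rw [h1, Subgroup.card_top]
  simp

theorem rk_of_homs {P : Type u} [Group P] {Q : Subgroup P} (hQ : Q.index = 2) {t : P} (ht : t ∉ Q) (μ₁ μ₂ : P →* ℤˣ)
    (h1 : ∃ x ∈ Q, μ₁ x ≠ 1) (h2 : ∃ x ∈ Q, μ₂ x ≠ 1) (h12 : ∃ x ∈ Q, μ₁ x ≠ μ₂ x) : Rk 3 P := by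
  obtain ⟨y, hy, hy1⟩ := h1
  obtain ⟨z, hz, hz1, hz2⟩ : ∃ z ∈ Q, μ₁ z = 1 ∧ μ₂ z ≠ 1 := by
    by_contra hcon
    push Not at hcon
    obtain ⟨w, hw, hw1⟩ := h2
    obtain ⟨v, hv, hv1⟩ := h12
    have e : ∀ x : P, μ₁ x ≠ 1 → μ₁ x = -1 := fun x hx => (Int.units_eq_one_or (μ₁ x)).resolve_left hx
    have key : ∀ x ∈ Q, μ₁ x ≠ 1 → μ₂ x = μ₂ y := by
      intro x hx hx1
      have h3 := hcon (x * y⁻¹) (Q.mul_mem hx (Q.inv_mem hy)) (by
        rw [map_mul, map_inv, e x hx1, e y hy1]; decide)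
      rw [map_mul, map_inv] at h3
      exact mul_inv_eq_one.1 h3
    have hw2 : μ₁ w ≠ 1 := fun h => hw1 (hcon w hw h)
    have hy2 : μ₂ y = -1 := by
      rw [← key w hw hw2]
      exact (Int.units_eq_one_or (μ₂ w)).resolve_left hw1
    by_cases hv2 : μ₁ v = 1
    · exact hv1 (by rw [hv2, hcon v hv hv2])
    · exact hv1 (by rw [e v hv2, key v hv hv2, hy2])
  exact H168.K547.rk_three_of Q μ₁.ker μ₂.ker hQ (index_ker μ₁ ⟨y, hy1⟩) (index_ker μ₂ ⟨z, hz2⟩) ht hy
    (fun h => hy1 h) hz hz1 (fun h => hz2 h)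

theorem d3_of_index_two {G : Type u} [Group G] [Finite G] {I : Subgroup G} (hI2 : I.index = 2)
    (hperf : commutator I = ⊤) (hD : D3 I) : D3 G := by
  have : Fact (Nat.Prime 2) := ⟨Nat.prime_two⟩
  intro P
  have hIn : I.Normal := Subgroup.normal_of_index_eq_two hI2
  obtain ⟨t, ht⟩ : ∃ t : (P : Subgroup G), t.1 ∉ I := by
    by_contra hcon
    push Not at hcon
    have h1 : (P : Subgroup G) ≤ I := fun x hx => hcon ⟨x, hx⟩
    have h2 := Subgroup.index_dvd_of_le h1
    rw [hI2] at h2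
    exact P.not_dvd_index h2
  have hodd : Odd (P : Subgroup G).index := by
    rw [← Nat.not_even_iff_odd]
    intro h
    exact P.not_dvd_index h.two_dvd
  set! Q : Subgroup (P : Subgroup G) := I.subgroupOf P with hQdef
  have memQ : ∀ x : (P : Subgroup G), x ∈ Q ↔ x.1 ∈ I := fun x => Subgroup.mem_subgroupOf
  have htQ : t ∉ Q := fun h => ht ((memQ t).1 h)
  have hQ : Q.index = 2 := by
    have h1 : Q.index ∣ 2 := (Subgroup.relIndex_dvd_index_of_normal I (P : Subgroup G)).trans (dvd_of_eq hI2)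
    rcases (Nat.dvd_prime Nat.prime_two).1 h1 with h2 | h2
    · exfalso
      rw [Subgroup.index_eq_one] at h2
      exact htQ (h2 ▸ Subgroup.mem_top t)
    · exact h2
  have hQn : Q.Normal := Subgroup.normal_of_index_eq_two hQ
  -- the Sylow subgroup of `I`
  have hP' : IsPGroup 2 ((P : Subgroup G).subgroupOf I) := P.2.comap_subtype
  have hidx : ¬ 2 ∣ ((P : Subgroup G).subgroupOf I).index := by
    intro h
    have h1 : ((P : Subgroup G).subgroupOf I).index = (P : Subgroup G).relIndex (I ⊔ P) := (relIndex_sup I P).symm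
    rw [h1] at h
    exact P.not_dvd_index (h.trans (Subgroup.relIndex_dvd_index_of_le le_sup_right))
  have hrk : Rk 3 ((P : Subgroup G).subgroupOf I) := hD (hP'.toSylow hidx)
  let e : (P : Subgroup G).subgroupOf I ≃* Q :=
    { toFun := fun x => ⟨⟨x.1.1, x.2⟩, x.1.2⟩
      invFun := fun x => ⟨⟨x.1.1, x.2⟩, x.1.2⟩
      left_inv := fun _ => rfl
      right_inv := fun _ => rfl
      map_mul' := fun _ _ => rfl }
  have hrkQ : Rk 3 Q := H168.K547.rk_congr e hrk
  have hfinV : Finite (Q →* ℤˣ) := DFunLike.finite _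
  let c : MulAut Q := MulAut.conjNormal t
  let θ : (Q →* ℤˣ) →* (Q →* ℤˣ) := MonoidHom.compHom' c.toMonoidHom
  have hθ1 : ∀ (v : Q →* ℤˣ) (x : Q), θ v x = v (c x) := fun _ _ => rfl
  have ht2 : t ^ 2 ∈ Q := by rw [pow_two, Subgroup.mul_mem_iff_of_index_two hQ]
  have hθ : ∀ v, θ (θ v) = v := by
    intro v
    ext1 x
    rw [hθ1, hθ1]
    have h1 : c (c x) = ⟨t ^ 2, ht2⟩ * x * ⟨t ^ 2, ht2⟩⁻¹ := by
      apply Subtype.ext
      change t * (t * x.1 * t⁻¹) * t⁻¹ = t ^ 2 * x.1 * (t ^ 2)⁻¹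
      rw [pow_two, mul_inv_rev]
      simp only [mul_assoc]
    rw [h1, map_mul, map_mul, map_inv, mul_comm, inv_mul_cancel_left]
  obtain ⟨a, b, ha, hb, ha1, hb1, hab⟩ := card_fix (fun v => by
    ext1 x
    exact Int.units_sq (v x)) θ hθ (card_hom hrkQ)
  -- extension
  have hext : ∀ v : Q →* ℤˣ, θ v = v → ∃ μ : (P : Subgroup G) →* ℤˣ, ∀ (x : (P : Subgroup G)) (hx : x ∈ Q), μ x = v ⟨x, hx⟩ := by
    intro v hv
    have hinv : ∀ (x : (P : Subgroup G)) (hx : x ∈ Q) (hx' : t * x * t⁻¹ ∈ Q), v ⟨t * x * t⁻¹, hx'⟩ = v ⟨x, hx⟩ := by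
      intro x hx hx'
      have h1 : θ v ⟨x, hx⟩ = v ⟨x, hx⟩ := by rw [hv]
      exact h1
    let j : ℤˣ →* ℂˣ := Units.map (Int.castRingHom ℂ).toMonoidHom
    obtain ⟨ζ, hζ⟩ : ∃ ζ : ℂˣ, ζ ^ 2 = j (v ⟨t ^ 2, ht2⟩) := by
      obtain ⟨z, hz⟩ := IsAlgClosed.exists_pow_nat_eq ((j (v ⟨t ^ 2, ht2⟩) : ℂˣ) : ℂ) (n := 2) (by norm_num)
      have hz0 : z ≠ 0 := by
        rintro rfl
        rw [zero_pow (by norm_num)] at hz
        exact Units.ne_zero _ hz.symm
      exact ⟨Units.mk0 z hz0, Units.ext hz⟩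
    obtain ⟨μ, hμ, hμt⟩ := exists_ext hQ (j.comp v) t htQ ζ hζ (fun x hx hx' => congrArg j (hinv x hx hx'))
    have h1 : ∀ x : (P : Subgroup G), x.1 ∈ I → μ x ^ 2 = 1 := by
      intro x hx
      rw [hμ x ((memQ x).2 hx), MonoidHom.comp_apply, ← map_pow, Int.units_sq, map_one]
    have h2 := sq_eq_one hI2 hperf hodd μ h1 t
    rw [hμt, hζ] at h2
    have h3 : v ⟨t ^ 2, ht2⟩ = 1 := by
      rcases Int.units_eq_one_or (v ⟨t ^ 2, ht2⟩) with h4 | h4
      · exact h4
      · exfalso
        rw [h4] at h2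
        have h5 := congrArg Units.val h2
        simp only [j, _root_.RingHom.toMonoidHom_eq_coe, _root_.Units.map_neg, _root_.map_one, _root_.Units.val_neg, _root_.Units.val_one] at h5
        norm_num at h5
    obtain ⟨μ', hμ', -⟩ := exists_ext hQ v t htQ 1 (by rw [one_pow]; exact h3.symm) hinv
    exact ⟨μ', hμ'⟩
  obtain ⟨μ₁, h₁⟩ := hext a ha
  obtain ⟨μ₂, h₂⟩ := hext b hb
  have hne : ∀ {v w : Q →* ℤˣ}, v ≠ w → ∃ x : Q, v x ≠ w x := by
    intro v w hvw
    by_contra hcon
    push Not at hcon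
    exact hvw (MonoidHom.ext hcon)
  refine rk_of_homs hQ htQ μ₁ μ₂ ?_ ?_ ?_
  · obtain ⟨x, hx⟩ := hne ha1
    exact ⟨x.1, x.2, by rw [h₁ x.1 x.2]; exact hx⟩
  · obtain ⟨x, hx⟩ := hne hb1
    exact ⟨x.1, x.2, by rw [h₂ x.1 x.2]; exact hx⟩
  · obtain ⟨x, hx⟩ := hne hab
    exact ⟨x.1, x.2, by rw [h₁ x.1 x.2, h₂ x.1 x.2]; exact hx⟩

theorem not_comm_of_d3 {S : Type u} [Group S] [Finite S] [IsSimpleGroup S] (hD : D3 S) :
    ¬ ∀ a b : S, a * b = b * a := by
  intro h
  have : Fact (Nat.Prime 2) := ⟨Nat.prime_two⟩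
  obtain ⟨Q⟩ : Nonempty (Sylow 2 S) := inferInstance
  obtain ⟨f, hf⟩ := hD Q
  have h1 : Nat.card (Multiplicative (Fin 3 → ZMod 2)) ∣ Nat.card Q := Subgroup.card_dvd_of_surjective f hf
  have h2 : Nat.card Q ∣ Nat.card S := Subgroup.card_subgroup_dvd_card (Q : Subgroup S)
  have h3 : Nat.card (Multiplicative (Fin 3 → ZMod 2)) = 8 := by
    change Nat.card (Fin 3 → ZMod 2) = 8
    rw [Nat.card_fun, Nat.card_zmod, Nat.card_fin]
    norm_num
  rw [h3] at h1
  let _ : CommGroup S := { ‹Group S› with mul_comm := h }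
  have h4 : (Nat.card S).Prime := IsSimpleGroup.prime_card
  have h5 := h1.trans h2
  rcases (Nat.dvd_prime h4).1 h5 with h6 | h6
  · omega
  · rw [← h6] at h4
    exact absurd h4 (by norm_num)

/-- **JORDAN** -/
theorem jordan {S : Type u} [Group S] [Finite S] [IsSimpleGroup S] (hD : D3 S)
    {τ : MulAut S} {s : S} (hs : ∀ x, (τ ^ 2) x = s * x * s⁻¹) (hI : ¬ IsInn τ) : D3 (AutExt τ) := by
  have hna := not_comm_of_d3 hD
  have hfin : Finite (MulAut S) := inferInstance
  set! I := (MulAut.conj : S →* MulAut S).range with hIdef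
  have hIn : I.Normal := by
    constructor
    rintro _ ⟨s, rfl⟩ φ
    exact ⟨φ s, by rw [Direct.conj_mul_conj, mul_inv_cancel_right]⟩
  have hτI : τ ∉ I := by
    rintro ⟨r, hr⟩
    exact hI ⟨r, fun x => by rw [← hr]; rfl⟩
  have hτ2 : τ ^ 2 ∈ I := ⟨s, by ext x; exact (hs x).symm⟩
  have hle : I ≤ AutExt τ := le_sup_left
  have hτ : τ ∈ AutExt τ := Subgroup.mem_sup_right (Subgroup.mem_zpowers τ)
  -- elements
  have hel : ∀ x ∈ AutExt τ, x ∈ I ∨ x * τ⁻¹ ∈ I := by
    intro x hx
    obtain ⟨i, hi, y, hy, rfl⟩ := (Subgroup.mem_sup_of_normal_left (hs := hIn)).1 hx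
    obtain ⟨n, rfl⟩ := Subgroup.mem_zpowers_iff.1 hy
    have h2 : ∀ k : ℤ, τ ^ (2 * k) ∈ I := fun k => by
      rw [zpow_mul]
      exact zpow_mem hτ2 k
    rcases Int.even_or_odd' n with ⟨k, rfl | rfl⟩
    · exact Or.inl (mul_mem hi (h2 k))
    · right
      rw [zpow_add_one, mul_assoc, mul_assoc, mul_inv_cancel, mul_one]
      exact mul_mem hi (h2 k)
  have hidx : (I.subgroupOf (AutExt τ)).index = 2 := by
    rw [Subgroup.index_eq_two_iff]
    refine ⟨⟨τ, hτ⟩⁻¹, fun b => ?_⟩
    rw [Subgroup.mem_subgroupOf, Subgroup.mem_subgroupOf]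
    change Xor (b.1 * τ⁻¹ ∈ I) (b.1 ∈ I)
    rcases hel b.1 b.2 with h | h
    · refine Or.inr ⟨h, fun h' => hτI ?_⟩
      have h3 := mul_mem (I.inv_mem h') h
      rwa [mul_inv_rev, inv_inv, inv_mul_cancel_right] at h3
    · refine Or.inl ⟨h, fun h' => hτI ?_⟩
      have h3 := mul_mem (I.inv_mem h) h'
      rwa [mul_inv_rev, inv_inv, inv_mul_cancel_right] at h3
  -- `S ≃ I`
  have hinj : Function.Injective (MulAut.conj : S →* MulAut S) := by
    rw [injective_iff_map_eq_one]
    intro a ha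
    have h1 : a ∈ Subgroup.center S := by
      rw [Subgroup.mem_center_iff]
      intro g
      have h2 : a * g * a⁻¹ = g := DFunLike.congr_fun ha g
      rw [mul_inv_eq_iff_eq_mul] at h2
      exact h2.symm
    rcases (inferInstance : (Subgroup.center S).Normal).eq_bot_or_eq_top with h2 | h2
    · rw [h2] at h1
      exact Subgroup.mem_bot.1 h1
    · exfalso
      apply hna
      intro x y
      have : x ∈ Subgroup.center S := by rw [h2]; exact Subgroup.mem_top _
      exact (Subgroup.mem_center_iff.1 this y).symm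
  let e1 : S ≃* I := MonoidHom.ofInjective hinj
  let e : S ≃* I.subgroupOf (AutExt τ) := e1.trans (Subgroup.subgroupOfEquivOfLe hle).symm
  have hperf : commutator S = ⊤ := by
    rcases (inferInstance : (commutator S).Normal).eq_bot_or_eq_top with h2 | h2
    · exfalso
      apply hna
      intro x y
      rw [commutator_def, Subgroup.commutator_eq_bot_iff_le_centralizer] at h2
      exact (Subgroup.mem_centralizer_iff.1 (h2 (Subgroup.mem_top x)) y (Subgroup.mem_top y)).symm
    · exact h2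
  have hperf' : commutator (I.subgroupOf (AutExt τ)) = ⊤ := by
    have h1 : (commutator S).map e.toMonoidHom = commutator (I.subgroupOf (AutExt τ)) := by
      rw [commutator_def, Subgroup.map_commutator, commutator_def, ← MonoidHom.range_eq_map,
        MonoidHom.range_eq_top.2 e.surjective]
    rw [← h1, hperf, ← MonoidHom.range_eq_map, MonoidHom.range_eq_top.2 e.surjective]
  exact d3_of_index_two hidx hperf' (H168.K547.d3_congr e hD)

end Cfsg.Agent.H581.K547.Jordan
end

-- part: H581/K547/PSpExt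
section
/-!
# S4547, row QO-EXT-PSP: `D3 (AutExt τ)` for `PSp_{2m}(q)`, `q` odd (helper581, task 5038)
-/

set_option autoImplicit false

namespace Cfsg.Agent.H581.K547

open Cfsg Cfsg.Agent.H821.K547 Cfsg.Agent.ClassicalGeometry.SympAutSemi Cfsg.Agent.ClassicalGeometry.SympGamma
open Cfsg.Agent.H581.K547.SpDiag Cfsg.Agent.H581.K547.SpExt

universe u

/-- **Outer 2-automorphisms of `PSp_{2m}(q)`, `q` odd.** -/
theorem d3_ext_psp {F : Type u} [Field F] [Fintype F] (hF : Odd (Fintype.card F)) {m : ℕ} (hm : 2 ≤ m)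
    (τ : MulAut (PSp m F)) (hT : TwoPow τ) (hI : ¬ IsInn τ) : D3 (AutExt τ) := by
  have h2 : (2 : F) ≠ 0 := by
    intro h
    have hdvd : 2 ∣ Fintype.card F := by
      obtain ⟨p, _⟩ := CharP.exists F
      obtain ⟨f, hp, hf⟩ := FiniteField.card F p
      have h3 : ringChar F ∣ 2 := ringChar.dvd (by exact_mod_cast h)
      have h4 : p = ringChar F := (ringChar.eq F p).symm
      rw [← h4] at h3
      have h5 : p = 2 := (Nat.prime_dvd_prime_iff_eq hp Nat.prime_two).1 h3
      rw [hf, h5]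
      exact dvd_pow_self 2 f.pos.ne'
    exact (Nat.not_even_iff_odd.2 hF) (even_iff_two_dvd.2 hdvd)
  obtain ⟨s, l, σ, rfl⟩ := exists_rep hm (Or.inr h2) τ
  by_cases h4 : 4 ∣ Fintype.card F - 1
  · exact SpFour.ext_of_four hm h4 s l σ hT hI
  · have : IsSimpleGroup (PSp m F) := S0270.result m hm (fun _ => by
      have h1 := Fintype.one_lt_card (α := F)
      obtain ⟨k, hk⟩ := hF
      omega)
    obtain ⟨k, hk⟩ := pow_eq_one_of_twoPow (by omega) hT
    obtain rfl := fld_eq_one hk hF h4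
    obtain ⟨t, ht⟩ := sq_inn s l
    exact Jordan.jordan (Cfsg.Agent.H269.K547.d3_psp hF m hm) ht hI

end Cfsg.Agent.H581.K547
end

-- part: H647/K547/Aff
section
/-!
# S4547: the Sylow 2-subgroup of `AGL₃(2)` acting on eight points has rank three
-/

set_option autoImplicit false

namespace Cfsg.Agent.H647.K547

open Cfsg Cfsg.Agent.H821.K547 Cfsg.Agent.H512.LinFour.FrameA

universe u v

/-! ### a general tool -/

/-- if `M ≤ G` has odd index and maps onto a 2-group `Y` of rank 3 then `D3 G` -/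
theorem d3_of_map {G : Type u} [Group G] [Finite G] (M : Subgroup G) (hM : ¬ 2 ∣ M.index) {Y : Type v} [Group Y]
    (hY : IsPGroup 2 Y) (f : M →* Y) (hf : Function.Surjective f)
    (g : Y →* Multiplicative (Fin 3 → ZMod 2)) (hg : Function.Surjective g) : D3 G := by
  intro Q
  have : Finite Y := Finite.of_surjective f hf
  obtain ⟨R⟩ : Nonempty (Sylow 2 M) := inferInstance
  have hcard : Nat.card ((R : Subgroup M).map M.subtype) = 2 ^ (Nat.card G).factorization 2 := by
    rw [← Nat.card_congr ((R : Subgroup M).equivMapOfInjective _ M.subtype_injective).toEquiv,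
      R.card_eq_multiplicity]
    congr 1
    rw [← M.card_mul_index, Nat.factorization_mul Nat.card_pos.ne' (Subgroup.index_ne_zero_of_finite),
      Finsupp.add_apply, Nat.factorization_eq_zero_of_not_dvd hM, add_zero]
  let R' : Sylow 2 G := Sylow.ofCard ((R : Subgroup M).map M.subtype) hcard
  have e1 : Q ≃* R' := Sylow.equiv Q R'
  have e2 : (R : Subgroup M) ≃* R' := (R : Subgroup M).equivMapOfInjective _ M.subtype_injective
  have hsurj : Function.Surjective (g.comp (f.comp (R : Subgroup M).subtype)) := by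
    have h1 : ((R.mapSurjective hf : Sylow 2 Y) : Subgroup Y) = ⊤ := by
      have h2 : IsPGroup 2 (⊤ : Subgroup Y) := hY.to_subgroup ⊤
      exact ((R.mapSurjective hf).3 h2 le_top).symm
    intro y
    obtain ⟨z, rfl⟩ := hg y
    have h3 : z ∈ ((R.mapSurjective hf : Sylow 2 Y) : Subgroup Y) := by rw [h1]; trivial
    rw [Sylow.coe_mapSurjective] at h3
    obtain ⟨r, hr, hrz⟩ := h3
    exact ⟨⟨r, hr⟩, by rw [← hrz]; rfl⟩
  refine ⟨(g.comp (f.comp (R : Subgroup M).subtype)).comp (e1.trans e2.symm).toMonoidHom, ?_⟩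
  exact hsurj.comp (e1.trans e2.symm).surjective

/-! ### the group of order 64 -/

/-- translations -/
def tr : Fin 8 → Equiv.Perm (Fin 8) :=
  ![1, pE1, pE2, pE3, pE2 * pE1, pE3 * pE1, pE3 * (pE2 * pE1), pE3 * pE2]

/-- coordinates of the points -/
def k1 : Fin 8 → ZMod 2 := ![0, 1, 0, 0, 1, 1, 1, 0]
def k2 : Fin 8 → ZMod 2 := ![0, 0, 1, 0, 1, 0, 1, 1]
def k3 : Fin 8 → ZMod 2 := ![0, 0, 0, 1, 0, 1, 1, 1]

/-- the three homomorphisms -/
def ff (σ : Equiv.Perm (Fin 8)) : Fin 3 → ZMod 2 :=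
  ![k3 (σ 0), k1 (σ 2) + k1 (σ 0), k2 (σ 3) + k2 (σ 0)]

theorem ff_one : ff 1 = 0 := by decide +kernel

/-- the set of 64 elements -/
def SS : Set (Equiv.Perm (Fin 8)) := {σ | ∃ (x : Fin 8) (d : DihedralGroup 4), σ = tr x * dihFun d}

/-- the property of the elements of the group -/
def PP (g : Equiv.Perm (Fin 8)) : Prop := ∀ s ∈ SS, g * s ∈ SS ∧ ff (g * s) = ff g + ff s

theorem one_mem_SS : (1 : Equiv.Perm (Fin 8)) ∈ SS := ⟨0, .r 0, by decide +kernel⟩

theorem E1_tr : ∀ x : Fin 8, pE1 * tr x = tr (pE1 x) := by decide +kernel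
theorem E2_tr : ∀ x : Fin 8, pE2 * tr x = tr (pE2 x) := by decide +kernel
theorem E3_tr : ∀ x : Fin 8, pE3 * tr x = tr (pE3 x) := by decide +kernel
theorem A_tr : ∀ x : Fin 8, pA * tr x = tr (pA x) * dihFun (.sr 0) := by decide +kernel
theorem B_tr : ∀ x : Fin 8, pB * tr x = tr (pB x) * dihFun (.sr 1) := by decide +kernel

theorem E1_ff : ∀ (x : Fin 8) (d : DihedralGroup 4), ff (pE1 * (tr x * dihFun d)) = ff pE1 + ff (tr x * dihFun d) := by
  decide +kernel
theorem E2_ff : ∀ (x : Fin 8) (d : DihedralGroup 4), ff (pE2 * (tr x * dihFun d)) = ff pE2 + ff (tr x * dihFun d) := by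
  decide +kernel
theorem E3_ff : ∀ (x : Fin 8) (d : DihedralGroup 4), ff (pE3 * (tr x * dihFun d)) = ff pE3 + ff (tr x * dihFun d) := by
  decide +kernel
theorem A_ff : ∀ (x : Fin 8) (d : DihedralGroup 4), ff (pA * (tr x * dihFun d)) = ff pA + ff (tr x * dihFun d) := by
  decide +kernel
theorem B_ff : ∀ (x : Fin 8) (d : DihedralGroup 4), ff (pB * (tr x * dihFun d)) = ff pB + ff (tr x * dihFun d) := by
  decide +kernel

theorem PP_E1 : PP pE1 := by
  rintro _ ⟨x, d, rfl⟩
  exact ⟨⟨pE1 x, d, by rw [← mul_assoc, E1_tr]⟩, E1_ff x d⟩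
theorem PP_E2 : PP pE2 := by
  rintro _ ⟨x, d, rfl⟩
  exact ⟨⟨pE2 x, d, by rw [← mul_assoc, E2_tr]⟩, E2_ff x d⟩
theorem PP_E3 : PP pE3 := by
  rintro _ ⟨x, d, rfl⟩
  exact ⟨⟨pE3 x, d, by rw [← mul_assoc, E3_tr]⟩, E3_ff x d⟩
theorem PP_A : PP pA := by
  rintro _ ⟨x, d, rfl⟩
  exact ⟨⟨pA x, .sr 0 * d, by rw [← mul_assoc, A_tr, mul_assoc, ← dih_mul]⟩, A_ff x d⟩
theorem PP_B : PP pB := by
  rintro _ ⟨x, d, rfl⟩
  exact ⟨⟨pB x, .sr 1 * d, by rw [← mul_assoc, B_tr, mul_assoc, ← dih_mul]⟩, B_ff x d⟩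

theorem PP.mem {g : Equiv.Perm (Fin 8)} (h : PP g) : g ∈ SS := by
  have := (h 1 one_mem_SS).1
  rwa [mul_one] at this

theorem PP_one : PP 1 := by
  intro s hs
  rw [one_mul, ff_one, zero_add]
  exact ⟨hs, rfl⟩

theorem PP.mul {g h : Equiv.Perm (Fin 8)} (hg : PP g) (hh : PP h) : PP (g * h) := by
  intro s hs
  obtain ⟨h1, h2⟩ := hh s hs
  obtain ⟨h3, h4⟩ := hg _ h1
  obtain ⟨-, h6⟩ := hg _ hh.mem
  rw [mul_assoc]
  exact ⟨h3, by rw [h4, h2, h6, add_assoc]⟩

theorem PP.pow {g : Equiv.Perm (Fin 8)} (hg : PP g) (n : ℕ) : PP (g ^ n) := by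
  induction n with
  | zero => rw [pow_zero]; exact PP_one
  | succ n ih => rw [pow_succ]; exact ih.mul hg

theorem PP.inv {g : Equiv.Perm (Fin 8)} (hg : PP g) : PP g⁻¹ := by
  obtain ⟨n, hn⟩ : ∃ n : ℕ, g⁻¹ = g ^ n := by
    have h := pow_orderOf_eq_one g
    have hpos : 0 < orderOf g := orderOf_pos g
    refine ⟨orderOf g - 1, ?_⟩
    rw [inv_eq_iff_mul_eq_one, ← pow_succ', Nat.sub_add_cancel hpos, h]
  rw [hn]
  exact hg.pow n

/-- the Sylow 2-subgroup of `AGL₃(2)` -/
def H0 : Subgroup (Equiv.Perm (Fin 8)) := Subgroup.closure {pE1, pE2, pE3, pA, pB}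

theorem PP_of_mem {g : Equiv.Perm (Fin 8)} (hg : g ∈ H0) : PP g := by
  induction hg using Subgroup.closure_induction with
  | mem x hx =>
    rcases hx with rfl | rfl | rfl | rfl | rfl
    · exact PP_E1
    · exact PP_E2
    · exact PP_E3
    · exact PP_A
    · exact PP_B
  | one => exact PP_one
  | mul x y _ _ hx hy => exact hx.mul hy
  | inv x _ hx => exact hx.inv

/-- the homomorphism onto `C₂³` -/
def fH : H0 →* Multiplicative (Fin 3 → ZMod 2) where
  toFun g := Multiplicative.ofAdd (ff g)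
  map_one' := by
    change Multiplicative.ofAdd (ff 1) = 1
    rw [ff_one]
    rfl
  map_mul' a b := by
    change Multiplicative.ofAdd (ff (a * b)) = _
    rw [((PP_of_mem a.2) b (PP_of_mem b.2).mem).2, ofAdd_add]

theorem ff_surj : ∀ w : Fin 3 → ZMod 2, w = ff (pE3 ^ (w 0).val * (pA ^ (w 1).val * pB ^ (w 2).val)) := by
  decide +kernel

theorem mem_H0 {g : Equiv.Perm (Fin 8)} (h : g ∈ ({pE1, pE2, pE3, pA, pB} : Set (Equiv.Perm (Fin 8)))) : g ∈ H0 :=
  Subgroup.subset_closure h

theorem fH_surj : Function.Surjective fH := by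
  intro w
  refine ⟨⟨pE3 ^ (Multiplicative.toAdd w 0).val * (pA ^ (Multiplicative.toAdd w 1).val *
    pB ^ (Multiplicative.toAdd w 2).val), ?_⟩, ?_⟩
  · exact mul_mem (pow_mem (mem_H0 (by simp)) _) (mul_mem (pow_mem (mem_H0 (by simp)) _)
      (pow_mem (mem_H0 (by simp)) _))
  · exact congrArg Multiplicative.ofAdd (ff_surj (Multiplicative.toAdd w)).symm

theorem card_H0 : Nat.card H0 = 64 := by
  classical
  have h1 : 64 ∣ Nat.card H0 := dvd64 (mem_H0 (by simp)) (mem_H0 (by simp)) (mem_H0 (by simp)) (mem_H0 (by simp))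
    (mem_H0 (by simp))
  have h2 : Nat.card H0 ≤ 64 := by
    let φ : Fin 8 × DihedralGroup 4 → Equiv.Perm (Fin 8) := fun x => tr x.1 * dihFun x.2
    have h3 : (H0 : Set (Equiv.Perm (Fin 8))) ⊆ Set.range φ := by
      intro g hg
      obtain ⟨x, d, hxd⟩ := (PP_of_mem hg).mem
      exact ⟨(x, d), hxd.symm⟩
    have h4 : Nat.card H0 ≤ Nat.card (Set.range φ) := by
      have := Set.ncard_le_ncard h3 (Set.toFinite _)
      rwa [← Nat.card_coe_set_eq, ← Nat.card_coe_set_eq] at this
    have h5 : Nat.card (Set.range φ) ≤ Nat.card (Fin 8 × DihedralGroup 4) :=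
      Finite.card_range_le φ
    have h6 : Nat.card (Fin 8 × DihedralGroup 4) = 64 := by
      rw [Nat.card_prod, Nat.card_fin, Nat.card_eq_fintype_card (α := DihedralGroup 4), DihedralGroup.card]
    omega
  have h3 : 0 < Nat.card H0 := Nat.card_pos
  obtain ⟨k, hk⟩ := h1
  rw [hk] at h2 h3 ⊢
  have : k = 1 := by
    have : 0 < k := by
      rcases Nat.eq_zero_or_pos k with h | h
      · simp [h] at h3
      · exact h
    omega
  rw [this]

theorem isPGroup_H0 : IsPGroup 2 H0 := IsPGroup.of_card (n := 6) (by rw [card_H0]; norm_num)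

end Cfsg.Agent.H647.K547
end

-- part: H647/K547/E8
section
/-!
# S4547: `D3` for `E₈(q)`, `q` odd
-/

set_option autoImplicit false

namespace Cfsg.Agent.H647.K547

open Cfsg Cfsg.Lie Cfsg.Agent.H821.K547 Cfsg.Agent.H512.LinFour.FrameA

universe u v

/-- a frame of eight commuting `SL(2, F)` whose stabiliser induces `H0`: an odd index subgroup maps onto `H0` -/
theorem map_of_frame {G : Type*} [Group G] [Finite G] {F : Type v} [Field F] [Finite F] {d : ℕ} {T : Subgroup G}
    {φ : Fin 8 → (Matrix.SpecialLinearGroup (Fin 2) F →* G)} (hf : Fr d T φ) {o : ℕ} (ho : Odd o)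
    (hcard : Nat.card G * d = 64 * (Nat.card F ^ 2 - 1) ^ 8 * o) (hle : H0 ≤ hf.pi.range) :
    ∃ M : Subgroup G, ¬ 2 ∣ M.index ∧ ∃ f : M →* H0, Function.Surjective f := by
  classical
  have := Fintype.ofFinite F
  have h64 : 64 ∣ Nat.card hf.pi.range := by
    rw [← card_H0]
    exact Subgroup.card_dvd_of_le hle
  have hodd := hf.odd_index ho (c := 64) (by norm_num) hcard h64
  -- the upper bound
  have hup : ¬ 128 ∣ Nat.card hf.pi.range := by
    intro h
    have e2 := hf.dvd_card h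
    rw [Cfsg.Agent.ClassicalGeometry.PSL2Basic.card_SL2, ← Nat.card_eq_fintype_card, mul_pow] at e2
    have e3 := (NN φ).card_mul_index
    obtain ⟨k, hk⟩ := e2
    have e4 : (64 * (Nat.card F ^ 2 - 1) ^ 8) * o =
        (64 * (Nat.card F ^ 2 - 1) ^ 8) * (2 * (Nat.card F ^ 8 * k * (NN φ).index)) := by
      rw [← hcard, ← e3, mul_right_comm, hk]; ring
    have hpos : 0 < 64 * (Nat.card F ^ 2 - 1) ^ 8 := by
      have h1 : 1 < Nat.card F := Finite.one_lt_card
      have : 1 < Nat.card F ^ 2 := by nlinarith only [h1]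
      have : 0 < (Nat.card F ^ 2 - 1) ^ 8 := pow_pos (by omega) 8
      (clear * - this; positivity)
    have e5 := Nat.eq_of_mul_eq_mul_left hpos e4
    rw [e5] at ho
    exact (Nat.not_even_iff_odd.2 ho) ⟨_, two_mul _⟩
  have hrel : ¬ 2 ∣ H0.relIndex hf.pi.range := by
    rintro ⟨k, hk⟩
    apply hup
    have h1 := Subgroup.card_mul_index (H0.subgroupOf hf.pi.range)
    have h2 : Nat.card (H0.subgroupOf hf.pi.range) = 64 := by
      rw [Nat.card_congr (Subgroup.subgroupOfEquivOfLe hle).toEquiv, card_H0]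
    rw [h2] at h1
    change 64 * H0.relIndex hf.pi.range = _ at h1
    rw [hk] at h1
    exact ⟨k, by rw [← h1]; ring⟩
  -- the subgroup
  set! N1 : Subgroup (NN φ) := H0.comap hf.pi with hN1
  have hN1i : ¬ 2 ∣ N1.index := by rw [hN1, Subgroup.index_comap]; exact hrel
  let f : N1 →* H0 := (hf.pi.subgroupComap H0)
  have hfs : Function.Surjective f := by
    rintro ⟨y, hy⟩
    obtain ⟨x, hx⟩ := hle hy
    refine ⟨⟨x, ?_⟩, Subtype.ext hx⟩
    change hf.pi x ∈ H0
    rw [hx]; exact hy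
  -- in `G`
  let e : N1 ≃* N1.map (NN φ).subtype := N1.equivMapOfInjective _ (NN φ).subtype_injective
  have hidx : ¬ 2 ∣ (N1.map (NN φ).subtype).index := by
    intro h
    have h1 : (N1.map (NN φ).subtype).index = N1.index * (NN φ).index := by
      rw [Subgroup.index_map_subtype]
    rw [h1] at h
    rcases (Nat.Prime.dvd_mul Nat.prime_two).1 h with h | h
    · exact hN1i h
    · exact (Nat.not_even_iff_odd.2 hodd) (even_iff_two_dvd.2 h)
  exact ⟨N1.map (NN φ).subtype, hidx, f.comp e.symm.toMonoidHom, hfs.comp e.symm.surjective⟩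

/-- transport to an isomorphic group -/
theorem d3_of_equiv {G : Type u} [Group G] {G' : Type v} [Group G'] [Finite G'] (e : G ≃* G')
    (h : ∃ M : Subgroup G', ¬ 2 ∣ M.index ∧ ∃ f : M →* H0, Function.Surjective f) : D3 G := by
  have : Finite G := Finite.of_equiv _ e.symm.toEquiv
  obtain ⟨M, hM, f, hf⟩ := h
  have hidx : (M.comap e.toMonoidHom).index = M.index :=
    Subgroup.index_comap_of_surjective M (f := e.toMonoidHom) e.surjective
  have hs : Function.Surjective (e.toMonoidHom.subgroupComap M) := by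
    rintro ⟨y, hy⟩
    obtain ⟨x, rfl⟩ := e.surjective y
    exact ⟨⟨x, hy⟩, rfl⟩
  exact d3_of_map (M.comap e.toMonoidHom) (by rw [hidx]; exact hM) isPGroup_H0
    (f.comp (e.toMonoidHom.subgroupComap M)) (hf.comp hs) fH fH_surj

open Cfsg.Agent.H512.LinFour.FrameE8 in
/-- **`D3` for `E₈(q)`, `q` odd** -/
theorem d3_E8 {F : Type u} [Field F] [Fintype F] (ho : Odd (Fintype.card F)) {G : Type v} [Group G]
    (e : G ≃* chevE8.group F) : D3 G := by
  have hfin : Finite ↥(chevE8.group F) := inferInstance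
  refine d3_of_equiv e ?_
  rw [← Nat.card_eq_fintype_card] at ho
  obtain ⟨o, ho', hcard⟩ := order_eq ho
  have hfr := frame F
  have hi : ∀ {w : List ℕ} {σ : Equiv.Perm (Fin 8)}, (∀ i ∈ w, i < 8) → chk w σ = true → σ ∈ hfr.pi.range := by
    intro w σ hw hc
    obtain ⟨g, hg⟩ := isPerm_of (K := F) hw hc
    exact hfr.mem_range hg
  refine map_of_frame hfr ho' ?_ ?_
  · rw [mul_one, ← hcard]
    exact Cfsg.Agent.S1065.result Nat.card_eq_fintype_card.symm
  · rw [H0, Subgroup.closure_le]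
    rintro σ (rfl | rfl | rfl | rfl | rfl)
    · exact hi (ltw _ (by simp)) chkE1
    · exact hi (ltw _ (by simp)) chkE2
    · exact hi (ltw _ (by simp)) chkE3
    · exact hi (ltw _ (by simp)) chkA
    · exact hi (ltw _ (by simp)) chkB

end Cfsg.Agent.H647.K547
end

private theorem dce_ca3f89515f02 : _root_.True := by
  try have : _root_.True := by simp only [_root_.Cfsg.Agent.H269.K547.jmat.eq_1]
  try have : _root_.True := by simp only [_root_.Cfsg.Agent.H269.K547.dvec.eq_1]
  try have : _root_.True := by simp only [_root_.Cfsg.Agent.H581.K547.SpMon.NM.eq_1]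
  try have : _root_.True := by simp only [_root_.Cfsg.Agent.H581.K547.SpMon.dat.congr_simp]
  try have : _root_.True := by simp only [_root_.Cfsg.Agent.H269.K547.adj.congr_simp]
  try have : _root_.True := by simp only [_root_.Cfsg.Agent.H647.K547.H0.eq_1]
  exact _root_.True.intro
end
end
end
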